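import Cfsg.Agent.Lib.Spor.HSTwoLocal.Loc

/-!
The action of the centralizer of the involution on its 2-core, and the fact that some element inverts the central
cyclic group of order four.
-/

set_option autoImplicit false
set_option maxRecDepth 100000
set_option linter.style.haveILetI false

namespace Cfsg.Agent.HSTwoLocal

/-- the tuples that are automorphisms -/
def okT (T : Tup) : Bool :=
  Nat.blt T.1 64 && Nat.blt T.2.1 64 && Nat.blt T.2.2.1 64 && Nat.blt T.2.2.2.1 64 && Nat.blt T.2.2.2.2 64 &&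
    (Nat.beq T.1 1 || Nat.beq T.1 3) &&
    Nat.beq (rmul T.2.1 T.2.1) 0 && Nat.beq (rmul T.2.2.1 T.2.2.1) 0 && Nat.beq (rmul T.2.2.2.1 T.2.2.2.1) 0 &&
    Nat.beq (rmul T.2.2.2.2 T.2.2.2.2) 0 &&
    Nat.beq (rmul T.2.1 T.2.2.1) (rmul T.2.2.1 T.2.1) && Nat.beq (rmul T.2.2.2.1 T.2.2.2.2) (rmul T.2.2.2.2 T.2.2.2.1) &&
    Nat.beq (rmul T.2.1 T.2.2.2.2) (rmul T.2.2.2.2 T.2.1) && Nat.beq (rmul T.2.2.1 T.2.2.2.1) (rmul T.2.2.2.1 T.2.2.1) &&
    Nat.beq (rmul T.2.2.2.1 T.2.1) (rmul 2 (rmul T.2.1 T.2.2.2.1)) &&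
    Nat.beq (rmul T.2.2.2.2 T.2.2.1) (rmul 2 (rmul T.2.2.1 T.2.2.2.2))

theorem idT_ok : okT idT = true := by decide +kernel

theorem quot_xor : ∀ x y : Fin 64, rmul x.1 y.1 / 4 = Nat.xor (x.1 / 4) (y.1 / 4) := by decide +kernel

theorem pow_one_bit : ∀ x : Fin 64, ∀ b : Fin 2, rpow x.1 b.1 < 64 ∧ rpow x.1 b.1 / 4 = selV b.1 (x.1 / 4) := by
  decide +kernel

theorem pow_centre : ∀ i : Fin 4, ∀ x : Fin 4, rpow x.1 i.1 < 4 := by decide +kernel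

theorem centre_codes : ∀ x : Fin 64, (∀ g ∈ [4, 8, 16, 32], rmul x.1 g = rmul g x.1) → x.1 < 4 := by decide +kernel

theorem square_codes : ∀ x : Fin 64, rmul x.1 x.1 = 0 ∨ rmul x.1 x.1 = 2 := by decide +kernel

theorem inner_tuples : ∀ i j k l : Fin 4, okT (1, 4 + i.1, 8 + j.1, 16 + k.1, 32 + l.1) = true →
    ∃ r : Fin 64, innT r.1 = (1, 4 + i.1, 8 + j.1, 16 + k.1, 32 + l.1) := by decide +kernel

theorem perm_five : ∀ s : Equiv.Perm (Fin 5), s ≠ 1 →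
    ∃ u : Equiv.Perm (Fin 5), (s * u * s⁻¹ * u⁻¹) ^ 3 = 1 ∧ s * u * s⁻¹ * u⁻¹ ≠ 1 := by decide +kernel

theorem colM_outT {T : Tup} (h1 : T.2.1 < 64) (h2 : T.2.2.1 < 64) (h3 : T.2.2.2.1 < 64) (h4 : T.2.2.2.2 < 64) :
    colM (outT T) 0 = T.2.1 / 4 ∧ colM (outT T) 1 = T.2.2.1 / 4 ∧ colM (outT T) 2 = T.2.2.2.1 / 4 ∧
      colM (outT T) 3 = T.2.2.2.2 / 4 ∧ outT T / 65536 = (bif Nat.beq T.1 3 then 1 else 0) := by
  obtain ⟨b, hb, hb'⟩ : ∃ b, b < 2 ∧ (bif Nat.beq T.1 3 then 1 else 0) = b := by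
    cases Nat.beq T.1 3 <;> exact ⟨_, by norm_num, rfl⟩
  unfold outT
  rw [hb']
  simp only [colM, Nat.shiftRight_eq_div_pow, Nat.mod]
  refine ⟨?_, ?_, ?_, ?_, ?_⟩
  all_goals first
    | (show _ % 16 = _; norm_num; omega)
    | omega

theorem okT_bounds {T : Tup} (h : okT T = true) : T.1 < 64 ∧ T.2.1 < 64 ∧ T.2.2.1 < 64 ∧ T.2.2.2.1 < 64 ∧
    T.2.2.2.2 < 64 ∧ (T.1 = 1 ∨ T.1 = 3) := by
  simp only [okT, Bool.and_eq_true, Nat.blt_eq, Bool.or_eq_true, Nat.beq_eq] at h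
  obtain ⟨⟨⟨⟨⟨⟨⟨⟨⟨⟨⟨⟨⟨⟨⟨h1, h2⟩, h3⟩, h4⟩, h5⟩, h6⟩, -⟩, -⟩, -⟩, -⟩, -⟩, -⟩, -⟩, -⟩, -⟩, -⟩ := h
  exact ⟨h1, h2, h3, h4, h5, h6⟩

/-- the linear map of a tuple describes its effect on the quotient -/
theorem appT_quot {T : Tup} (h : okT T = true) {x : ℕ} (hx : x < 64) :
    appT T x < 64 ∧ appT T x / 4 = linM (outT T) (x / 4) := by
  obtain ⟨-, h2, h3, h4, h5, h6⟩ := okT_bounds h
  obtain ⟨c0, c1, c2, c3, -⟩ := colM_outT h2 h3 h4 h5
  have hc : T.1 < 4 := by rcases h6 with e | e <;> omega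
  have l0 : rpow T.1 (x % 4) < 4 := pow_centre ⟨x % 4, Nat.mod_lt _ (by norm_num)⟩ ⟨T.1, hc⟩
  obtain ⟨l1, q1⟩ := pow_one_bit ⟨_, h2⟩ ⟨x / 4 % 2, Nat.mod_lt _ (by norm_num)⟩
  obtain ⟨l2, q2⟩ := pow_one_bit ⟨_, h3⟩ ⟨x / 8 % 2, Nat.mod_lt _ (by norm_num)⟩
  obtain ⟨l3, q3⟩ := pow_one_bit ⟨_, h4⟩ ⟨x / 16 % 2, Nat.mod_lt _ (by norm_num)⟩
  obtain ⟨l4, q4⟩ := pow_one_bit ⟨_, h5⟩ ⟨x / 32 % 2, Nat.mod_lt _ (by norm_num)⟩
  simp only at l1 l2 l3 l4 q1 q2 q3 q4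
  have m1 := rmul_lt ⟨_, l0.trans (by norm_num)⟩ ⟨_, l1⟩
  have m2 := rmul_lt ⟨_, m1⟩ ⟨_, l2⟩
  have m3 := rmul_lt ⟨_, m2⟩ ⟨_, l3⟩
  have d1 := quot_xor ⟨_, l0.trans (by norm_num)⟩ ⟨_, l1⟩
  have d2 := quot_xor ⟨_, m1⟩ ⟨_, l2⟩
  have d3 := quot_xor ⟨_, m2⟩ ⟨_, l3⟩
  have d4 := quot_xor ⟨_, m3⟩ ⟨_, l4⟩
  simp only at d1 d2 d3 d4
  refine ⟨rmul_lt ⟨_, m3⟩ ⟨_, l4⟩, ?_⟩
  show rmul (rmul (rmul (rmul (rpow T.1 (x % 4)) (rpow T.2.1 (x / 4 % 2))) (rpow T.2.2.1 (x / 8 % 2)))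
    (rpow T.2.2.2.1 (x / 16 % 2))) (rpow T.2.2.2.2 (x / 32 % 2)) / 4 = _
  rw [d4, d3, d2, d1, Nat.div_eq_of_lt l0, q1, q2, q3, q4, linM, c0, c1, c2, c3]
  have b : ∀ n v, selV (n % 2) v = selV n v := fun n v => by
    simp [selV, show Nat.mod (n % 2) 2 = n % 2 % 2 from rfl, show Nat.mod n 2 = n % 2 from rfl]
  rw [b, b, b, b, Nat.div_div_eq_div_mul x 4 2, Nat.div_div_eq_div_mul x 4 4, Nat.div_div_eq_div_mul x 4 8]
  norm_num

theorem bit_comp : ∀ a ∈ [1, 3], ∀ b ∈ [1, 3], ∀ A B C D : Fin 2,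
    (bif Nat.beq (appT (a, 4, 8, 16, 32) b) 3 then 1 else 0) =
      Nat.mod ((bif Nat.beq a 3 then 1 else 0) + (bif Nat.beq b 3 then 1 else 0)) 2 := by decide +kernel

/-- composition goes to composition -/
theorem outT_comp {S T : Tup} (hS : okT S = true) (hT : okT T = true) :
    outT (compT S T) = omul (outT S) (outT T) := by
  obtain ⟨t1, t2, t3, t4, t5, t6⟩ := okT_bounds hT
  obtain ⟨s1, s2, s3, s4, s5, s6⟩ := okT_bounds hS
  obtain ⟨c0, c1, c2, c3, c4⟩ := colM_outT t2 t3 t4 t5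
  obtain ⟨-, -, -, -, c4'⟩ := colM_outT s2 s3 s4 s5
  have hb : (bif Nat.beq (compT S T).1 3 then 1 else 0) = Nat.mod (outT S / 65536 + outT T / 65536) 2 := by
    rw [c4, c4']
    show (bif Nat.beq (appT S T.1) 3 then 1 else 0) = _
    have e : appT S T.1 = appT (S.1, 4, 8, 16, 32) T.1 := by
      rcases t6 with e | e <;> rw [e] <;> simp [appT, rpow]
    rw [e]
    exact bit_comp S.1 (by rcases s6 with e | e <;> simp [e]) T.1 (by rcases t6 with e | e <;> simp [e]) 0 0 0 0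
  conv_lhs => unfold outT
  rw [hb]
  unfold omul
  rw [c0, c1, c2, c3, ← (appT_quot hS t2).2, ← (appT_quot hS t3).2, ← (appT_quot hS t4).2, ← (appT_quot hS t5).2]
  rfl

namespace Loc

variable {G : Type*} [Group G] (L : Loc G)

/-- the code of an element of the 2-core -/
noncomputable def cd (g : G) : ℕ :=
  haveI := Classical.dec (∃ x, x < 64 ∧ L.co.ψ x = g)
  if h : ∃ x, x < 64 ∧ L.co.ψ x = g then h.choose else 0

theorem cd_lt (g : G) : L.cd g < 64 := by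
  unfold cd; split_ifs with h
  · exact h.choose_spec.1
  · norm_num

theorem psi_cd {g : G} (hg : g ∈ L.R) : L.co.ψ (L.cd g) = g := by
  have h : ∃ x, x < 64 ∧ L.co.ψ x = g := (L.co.mem g).1 hg
  unfold cd; rw [dif_pos h]
  exact h.choose_spec.2

theorem psi_zero : L.co.ψ 0 = 1 := by
  have h := L.co.mul 0 0 (by norm_num) (by norm_num)
  rw [show rmul 0 0 = 0 by decide +kernel] at h
  exact left_eq_mul.1 h

theorem psi_mem {x : ℕ} (hx : x < 64) : L.co.ψ x ∈ L.R := (L.co.mem _).2 ⟨x, hx, rfl⟩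

/-- membership in the centralizer of the involution -/
def inH (h : G) : Prop := Commute h (L.co.ψ 2)

theorem inH.mul {L : Loc G} {g h : G} (hg : L.inH g) (hh : L.inH h) : L.inH (g * h) := Commute.mul_left hg hh

theorem inH.inv {L : Loc G} {h : G} (hh : L.inH h) : L.inH h⁻¹ := Commute.inv_left hh

theorem inH.pow {L : Loc G} {h : G} (hh : L.inH h) (n : ℕ) : L.inH (h ^ n) := Commute.pow_left hh n

/-- the element of the centralizer -/
def toH (h : G) (hh : L.inH h) : ↥(Subgroup.centralizer ({L.t} : Set G)) :=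
  ⟨h, by rw [Subgroup.mem_centralizer_singleton_iff, ← L.co.two]; exact hh.eq⟩

theorem inH_of (h : ↥(Subgroup.centralizer ({L.t} : Set G))) : L.inH (h : G) := by
  show (h : G) * L.co.ψ 2 = L.co.ψ 2 * h
  rw [L.co.two]; exact Subgroup.mem_centralizer_singleton_iff.1 h.2

theorem inH_psi {x : ℕ} (hx : x < 64) : L.inH (L.co.ψ x) := by
  show L.co.ψ x * L.co.ψ 2 = L.co.ψ 2 * L.co.ψ x
  rw [← L.co.mul x 2 hx (by norm_num), ← L.co.mul 2 x (by norm_num) hx]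
  exact congrArg _ ((by decide +kernel : ∀ x : Fin 64, rmul x.1 2 = rmul 2 x.1) ⟨x, hx⟩)

theorem normR {h : G} (hh : L.inH h) {x : G} (hx : x ∈ L.R) : h * x * h⁻¹ ∈ L.R := by
  obtain ⟨n, hn, rfl⟩ := (L.co.mem x).1 hx
  have k := (L.ρ_ker (L.toH h hh * L.toH _ (L.inH_psi hn) * (L.toH h hh)⁻¹)).1 (by
    rw [map_mul, map_mul, (L.ρ_ker (L.toH _ (L.inH_psi hn))).2 (L.psi_mem hn), mul_one, map_inv, mul_inv_cancel])
  exact k

/-- the tuple of images of the generators -/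
noncomputable def im (h : G) : Tup :=
  (L.cd (h * L.co.ψ 1 * h⁻¹), L.cd (h * L.co.ψ 4 * h⁻¹), L.cd (h * L.co.ψ 8 * h⁻¹), L.cd (h * L.co.ψ 16 * h⁻¹),
    L.cd (h * L.co.ψ 32 * h⁻¹))

/-- the induced linear map -/
noncomputable def o (h : G) : ℕ := outT (L.im h)

theorem psi_im {h : G} (hh : L.inH h) {x : ℕ} (hx : x < 64) : L.co.ψ (L.cd (h * L.co.ψ x * h⁻¹)) = h * L.co.ψ x * h⁻¹ :=
  L.psi_cd (L.normR hh (L.psi_mem hx))

theorem cd_mul {h : G} (hh : L.inH h) {x y : ℕ} (hx : x < 64) (hy : y < 64) :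
    L.cd (h * L.co.ψ (rmul x y) * h⁻¹) = rmul (L.cd (h * L.co.ψ x * h⁻¹)) (L.cd (h * L.co.ψ y * h⁻¹)) := by
  refine L.co.inj _ _ (L.cd_lt _) (rmul_lt ⟨_, L.cd_lt _⟩ ⟨_, L.cd_lt _⟩) ?_
  rw [L.psi_im hh (rmul_lt ⟨x, hx⟩ ⟨y, hy⟩), L.co.mul _ _ (L.cd_lt _) (L.cd_lt _), L.psi_im hh hx, L.psi_im hh hy,
    L.co.mul x y hx hy]
  group

theorem cd_self {x : ℕ} (hx : x < 64) : L.cd (L.co.ψ x) = x :=
  L.co.inj _ _ (L.cd_lt _) hx (L.psi_cd (L.psi_mem hx))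

theorem cd_fix {h : G} (x : ℕ) (hx : x < 64) (e : Commute h (L.co.ψ x)) : L.cd (h * L.co.ψ x * h⁻¹) = x := by
  rw [e.eq, mul_inv_cancel_right, L.cd_self hx]

theorem im_ok {h : G} (hh : L.inH h) : okT (L.im h) = true := by
  have e0 : L.cd (h * L.co.ψ 0 * h⁻¹) = 0 := L.cd_fix 0 (by norm_num) (by rw [L.psi_zero]; exact Commute.one_right _)
  have e2 : L.cd (h * L.co.ψ 2 * h⁻¹) = 2 := L.cd_fix 2 (by norm_num) hh
  have rel : ∀ a b c d : ℕ, a < 64 → b < 64 → c < 64 → d < 64 → rmul a b = rmul c d →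
      rmul (L.cd (h * L.co.ψ a * h⁻¹)) (L.cd (h * L.co.ψ b * h⁻¹)) =
        rmul (L.cd (h * L.co.ψ c * h⁻¹)) (L.cd (h * L.co.ψ d * h⁻¹)) := fun a b c d ha hb hc hd e => by
    rw [← L.cd_mul hh ha hb, ← L.cd_mul hh hc hd, e]
  have sq : ∀ a, a < 64 → rmul a a = 0 → rmul (L.cd (h * L.co.ψ a * h⁻¹)) (L.cd (h * L.co.ψ a * h⁻¹)) = 0 :=
    fun a ha e => by rw [← L.cd_mul hh ha ha, e, e0]
  have anti : ∀ a b, a < 64 → b < 64 → rmul b a = rmul 2 (rmul a b) →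
      rmul (L.cd (h * L.co.ψ b * h⁻¹)) (L.cd (h * L.co.ψ a * h⁻¹)) =
        rmul 2 (rmul (L.cd (h * L.co.ψ a * h⁻¹)) (L.cd (h * L.co.ψ b * h⁻¹))) := fun a b ha hb e => by
    rw [← L.cd_mul hh hb ha, ← L.cd_mul hh ha hb, e, L.cd_mul hh (by norm_num) (rmul_lt ⟨a, ha⟩ ⟨b, hb⟩), e2]
  have hc : L.cd (h * L.co.ψ 1 * h⁻¹) = 1 ∨ L.cd (h * L.co.ψ 1 * h⁻¹) = 3 := by
    have h11 : rmul (L.cd (h * L.co.ψ 1 * h⁻¹)) (L.cd (h * L.co.ψ 1 * h⁻¹)) = 2 := by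
      rw [← L.cd_mul hh (by norm_num) (by norm_num), show rmul 1 1 = 2 by decide +kernel, e2]
    have h4 : L.cd (h * L.co.ψ 1 * h⁻¹) < 4 := centre_codes ⟨_, L.cd_lt _⟩ fun g hg => by
      have hg' : g < 64 := by simp at hg; omega
      obtain ⟨g', hg'', e⟩ : ∃ g', g' < 64 ∧ L.cd (h * L.co.ψ g' * h⁻¹) = g := by
        refine ⟨L.cd (h⁻¹ * L.co.ψ g * h), L.cd_lt _, ?_⟩
        have hm : h⁻¹ * L.co.ψ g * h ∈ L.R := by simpa using L.normR hh.inv (L.psi_mem hg')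
        rw [L.psi_cd hm, show h * (h⁻¹ * L.co.ψ g * h) * h⁻¹ = L.co.ψ g by group, L.cd_self hg']
      have := rel 1 g' g' 1 (by norm_num) hg'' hg'' (by norm_num)
        ((by decide +kernel : ∀ x : Fin 64, rmul 1 x.1 = rmul x.1 1) ⟨g', hg''⟩)
      rwa [e] at this
    generalize L.cd (h * L.co.ψ 1 * h⁻¹) = v at h11 h4
    interval_cases v <;> simp_all [rmul]
  simp only [okT, Bool.and_eq_true, Nat.blt_eq, Bool.or_eq_true, Nat.beq_eq, im]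
  refine ⟨⟨⟨⟨⟨⟨⟨⟨⟨⟨⟨⟨⟨⟨⟨L.cd_lt _, L.cd_lt _⟩, L.cd_lt _⟩, L.cd_lt _⟩, L.cd_lt _⟩, hc⟩, ?_⟩, ?_⟩, ?_⟩, ?_⟩, ?_⟩,
    ?_⟩, ?_⟩, ?_⟩, ?_⟩, ?_⟩
  · exact sq 4 (by norm_num) (by decide +kernel)
  · exact sq 8 (by norm_num) (by decide +kernel)
  · exact sq 16 (by norm_num) (by decide +kernel)
  · exact sq 32 (by norm_num) (by decide +kernel)
  · exact rel 4 8 8 4 (by norm_num) (by norm_num) (by norm_num) (by norm_num) (by decide +kernel)
  · exact rel 16 32 32 16 (by norm_num) (by norm_num) (by norm_num) (by norm_num) (by decide +kernel)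
  · exact rel 4 32 32 4 (by norm_num) (by norm_num) (by norm_num) (by norm_num) (by decide +kernel)
  · exact rel 8 16 16 8 (by norm_num) (by norm_num) (by norm_num) (by norm_num) (by decide +kernel)
  · exact anti 4 16 (by norm_num) (by norm_num) (by decide +kernel)
  · exact anti 8 32 (by norm_num) (by norm_num) (by decide +kernel)

/-- powers of codes -/
theorem psi_rpow {x : ℕ} (hx : x < 64) : ∀ n, rpow x n < 64 ∧ L.co.ψ (rpow x n) = L.co.ψ x ^ n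
  | 0 => ⟨by show (0 : ℕ) < 64; norm_num, by rw [pow_zero]; exact L.psi_zero⟩
  | n + 1 => by
    obtain ⟨l, e⟩ := psi_rpow hx n
    refine ⟨rmul_lt ⟨_, l⟩ ⟨x, hx⟩, ?_⟩
    show L.co.ψ (rmul (rpow x n) x) = _
    rw [L.co.mul _ _ l hx, e, pow_succ]

theorem psi_app {T : Tup} (h1 : T.1 < 64) (h2 : T.2.1 < 64) (h3 : T.2.2.1 < 64) (h4 : T.2.2.2.1 < 64)
    (h5 : T.2.2.2.2 < 64) (x : ℕ) : appT T x < 64 ∧ L.co.ψ (appT T x) = L.co.ψ T.1 ^ (x % 4) *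
      L.co.ψ T.2.1 ^ (x / 4 % 2) * L.co.ψ T.2.2.1 ^ (x / 8 % 2) * L.co.ψ T.2.2.2.1 ^ (x / 16 % 2) *
      L.co.ψ T.2.2.2.2 ^ (x / 32 % 2) := by
  obtain ⟨a0, b0⟩ := L.psi_rpow h1 (x % 4)
  obtain ⟨a1, b1⟩ := L.psi_rpow h2 (x / 4 % 2)
  obtain ⟨a2, b2⟩ := L.psi_rpow h3 (x / 8 % 2)
  obtain ⟨a3, b3⟩ := L.psi_rpow h4 (x / 16 % 2)
  obtain ⟨a4, b4⟩ := L.psi_rpow h5 (x / 32 % 2)
  have m1 := rmul_lt ⟨_, a0⟩ ⟨_, a1⟩
  have m2 := rmul_lt ⟨_, m1⟩ ⟨_, a2⟩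
  have m3 := rmul_lt ⟨_, m2⟩ ⟨_, a3⟩
  refine ⟨rmul_lt ⟨_, m3⟩ ⟨_, a4⟩, ?_⟩
  show L.co.ψ (rmul (rmul (rmul (rmul (rpow T.1 (x % 4)) (rpow T.2.1 (x / 4 % 2))) (rpow T.2.2.1 (x / 8 % 2)))
    (rpow T.2.2.2.1 (x / 16 % 2))) (rpow T.2.2.2.2 (x / 32 % 2))) = _
  rw [L.co.mul _ _ m3 a4, L.co.mul _ _ m2 a3, L.co.mul _ _ m1 a2, L.co.mul _ _ a0 a1, b0, b1, b2, b3, b4]

/-- the tuple describes the conjugation -/
theorem act {h : G} (hh : L.inH h) {x : ℕ} (hx : x < 64) :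
    appT (L.im h) x < 64 ∧ L.co.ψ (appT (L.im h) x) = h * L.co.ψ x * h⁻¹ := by
  obtain ⟨h1, h2, h3, h4, h5, -⟩ := okT_bounds (L.im_ok hh)
  obtain ⟨l, e⟩ := L.psi_app h1 h2 h3 h4 h5 x
  refine ⟨l, ?_⟩
  obtain ⟨-, e'⟩ := L.psi_app (T := idT) (by decide) (by decide) (by decide) (by decide) (by decide) x
  rw [show appT idT x = x from appT_id ⟨x, hx⟩] at e'
  rw [e, e']
  simp only [im, idT]
  rw [L.psi_im hh (by norm_num), L.psi_im hh (by norm_num), L.psi_im hh (by norm_num), L.psi_im hh (by norm_num),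
    L.psi_im hh (by norm_num), conj_pow, conj_pow, conj_pow, conj_pow, conj_pow]
  group

theorem im_mul {g h : G} (hg : L.inH g) (hh : L.inH h) : L.im (g * h) = compT (L.im g) (L.im h) := by
  have key : ∀ x, x < 64 → L.cd (g * h * L.co.ψ x * (g * h)⁻¹) = appT (L.im g) (L.cd (h * L.co.ψ x * h⁻¹)) := by
    intro x hx
    obtain ⟨l, e⟩ := L.act hg (L.cd_lt (h * L.co.ψ x * h⁻¹))
    refine L.co.inj _ _ (L.cd_lt _) l ?_
    rw [L.psi_im (hg.mul hh) hx, e, L.psi_im hh hx]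
    group
  simp only [im, compT]
  rw [key 1 (by norm_num), key 4 (by norm_num), key 8 (by norm_num), key 16 (by norm_num), key 32 (by norm_num)]
  rfl

theorem o_mul {g h : G} (hg : L.inH g) (hh : L.inH h) : L.o (g * h) = omul (L.o g) (L.o h) := by
  rw [o, L.im_mul hg hh, outT_comp (L.im_ok hg) (L.im_ok hh)]; rfl

theorem o_psi {x : ℕ} (hx : x < 64) : L.o (L.co.ψ x) = oneM := by
  have hh := L.inH_psi hx
  have hi : (rinv x) < 64 := (rinv_spec ⟨x, hx⟩).1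
  have key : ∀ g, g < 64 → L.cd (L.co.ψ x * L.co.ψ g * (L.co.ψ x)⁻¹) = rmul (rmul x g) (rinv x) := by
    intro g hg
    refine L.co.inj _ _ (L.cd_lt _) (rmul_lt ⟨_, rmul_lt ⟨x, hx⟩ ⟨g, hg⟩⟩ ⟨_, hi⟩) ?_
    rw [L.psi_im hh hg, L.co.mul _ _ (rmul_lt ⟨x, hx⟩ ⟨g, hg⟩) hi, L.co.mul _ _ hx hg]
    congr 1
    refine inv_eq_of_mul_eq_one_right ?_
    rw [← L.co.mul _ _ hx hi]
    have := (rinv_spec ⟨x, hx⟩).2.2.2.2
    simp only at this
    rw [this, L.psi_zero]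
  have e : L.im (L.co.ψ x) = innT x := by
    simp only [im, innT]
    rw [key 1 (by norm_num), key 4 (by norm_num), key 8 (by norm_num), key 16 (by norm_num), key 32 (by norm_num)]
  rw [o, e]
  exact (by decide +kernel : ∀ x : Fin 64, outT (innT x.1) = oneM) ⟨x, hx⟩

theorem mem_V {v : G} (hv : v ∈ L.V) : ∃ i, i < 8 ∧ L.co.ψ (2 * i) = v := by
  obtain ⟨x, hx, hx2, e⟩ := (L.co.memV v).1 hv
  exact ⟨x / 2, by omega, by rw [show 2 * (x / 2) = x by omega, e]⟩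

theorem cent_V {x : G} (h2 : Commute x (L.co.ψ 2)) (h4 : Commute x (L.co.ψ 4)) (h8 : Commute x (L.co.ψ 8)) :
    ∀ v ∈ L.V, Commute x v := by
  intro v hv
  obtain ⟨i, hi, rfl⟩ := L.mem_V hv
  obtain ⟨-, e⟩ := L.psi_app (T := idT) (by decide) (by decide) (by decide) (by decide) (by decide) (2 * i)
  rw [show appT idT (2 * i) = 2 * i from appT_id ⟨2 * i, by omega⟩] at e
  rw [e, show 2 * i / 16 % 2 = 0 by omega, show 2 * i / 32 % 2 = 0 by omega, pow_zero, pow_zero, mul_one, mul_one]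
  refine Commute.mul_right (Commute.mul_right ?_ (h4.pow_right _)) (h8.pow_right _)
  have h11 : L.co.ψ 2 = L.co.ψ 1 * L.co.ψ 1 := by
    rw [← L.co.mul 1 1 (by norm_num) (by norm_num), show rmul 1 1 = 2 by decide +kernel]
  have : 2 * i % 4 = 0 ∨ 2 * i % 4 = 2 := by omega
  rcases this with e | e <;> rw [e]
  · rw [pow_zero]; exact Commute.one_right x
  · show Commute x (L.co.ψ 1 ^ 2)
    rw [pow_two, ← h11]; exact h2

/-- no element of order three centralises `V` -/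
theorem no_three {y : G} (h : ∀ v ∈ L.V, Commute y v) (h3 : y ^ 3 = 1) : y = 1 := by
  have h4 := L.cent_four y h
  rwa [pow_succ, h3, one_mul] at h4

/-- the centralizer of the 2-core inside the centralizer of the involution is the centre of the 2-core -/
theorem cent_R {h : G} (hh : L.inH h) (hc : ∀ x ∈ L.R, Commute h x) : ∃ i < 4, L.co.ψ i = h := by
  by_cases hρ : L.ρ (L.toH h hh) = 1
  · obtain ⟨x, hx, e⟩ := (L.co.mem h).1 ((L.ρ_ker _).1 hρ)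
    refine ⟨x, centre_codes ⟨x, hx⟩ fun g hg => ?_, e⟩
    have hg' : g < 64 := by simp at hg; omega
    refine L.co.inj _ _ (rmul_lt ⟨x, hx⟩ ⟨g, hg'⟩) (rmul_lt ⟨g, hg'⟩ ⟨x, hx⟩) ?_
    rw [L.co.mul _ _ hx hg', L.co.mul _ _ hg' hx, e]
    exact (hc _ (L.psi_mem hg')).eq
  · exfalso
    obtain ⟨u, h3, hne⟩ := perm_five _ hρ
    obtain ⟨u', hu'⟩ := L.ρ_surj u
    set y' := L.toH h hh * u' * (L.toH h hh)⁻¹ * u'⁻¹ with hy'
    have hyρ : L.ρ y' = L.ρ (L.toH h hh) * u * (L.ρ (L.toH h hh))⁻¹ * u⁻¹ := by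
      rw [hy', map_mul, map_mul, map_mul, map_inv, map_inv, hu']
    set y : G := (y' : G) with hy
    have hyc : ∀ x ∈ L.R, Commute y x := by
      intro x hx
      have e1 : (u' : G) * h⁻¹ * (u' : G)⁻¹ * x = x * ((u' : G) * h⁻¹ * (u' : G)⁻¹) := by
        have hx' : (u' : G)⁻¹ * x * u' ∈ L.R := by simpa using L.normR (L.inH_of u').inv hx
        have := (hc _ hx').inv_left.eq
        calc (u' : G) * h⁻¹ * (u' : G)⁻¹ * x = u' * (h⁻¹ * ((u' : G)⁻¹ * x * u')) * (u' : G)⁻¹ := by group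
          _ = x * ((u' : G) * h⁻¹ * (u' : G)⁻¹) := by rw [this]; group
      show (y' : G) * x = x * y'
      have hv : (y' : G) = h * ((u' : G) * h⁻¹ * (u' : G)⁻¹) := by
        rw [hy']; simp [toH, mul_assoc]
      rw [hv]
      exact Commute.mul_left (hc x hx) (show Commute _ x from e1)
    obtain ⟨r, hr, er⟩ : ∃ r, r < 64 ∧ L.co.ψ r = y ^ 3 := by
      refine (L.co.mem _).1 ?_
      have := (L.ρ_ker (y' ^ 3)).1 (by rw [map_pow, hyρ]; exact h3)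
      simpa using this
    have h12 : (y ^ 4) ^ 3 = 1 := by
      rw [← pow_mul, show 4 * 3 = 3 * 4 from rfl, pow_mul, ← er, ← (L.psi_rpow hr 4).2]
      rw [(by decide +kernel : ∀ r : Fin 64, rpow r.1 4 = 0) ⟨r, hr⟩, L.psi_zero]
    have hy4 : y ^ 4 = 1 := L.no_three (fun v hv => by
      obtain ⟨i, hi, rfl⟩ := L.mem_V hv
      exact (hyc _ (L.psi_mem (by omega))).pow_left 4) h12
    have := (L.ρ_ker (y' ^ 4)).2 (by
      show ((y' ^ 4 : _) : G) ∈ L.R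
      rw [SubmonoidClass.coe_pow, ← hy, hy4]; exact one_mem _)
    rw [map_pow, hyρ, pow_succ, h3, one_mul] at this
    exact hne this

/-- the induced map determines the element modulo the 2-core -/
theorem mem_R_of_o {h : G} (hh : L.inH h) (ho : L.o h = oneM) : h ∈ L.R := by
  obtain ⟨T1, h2, h3, h4, h5, h6⟩ := okT_bounds (L.im_ok hh)
  obtain ⟨c0, c1, c2, c3, c4⟩ := colM_outT h2 h3 h4 h5
  rw [show outT (L.im h) = oneM from ho] at c0 c1 c2 c3 c4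
  rw [show colM oneM 0 = 1 by decide +kernel] at c0
  rw [show colM oneM 1 = 2 by decide +kernel] at c1
  rw [show colM oneM 2 = 4 by decide +kernel] at c2
  rw [show colM oneM 3 = 8 by decide +kernel] at c3
  have hc : (L.im h).1 = 1 := by
    rcases h6 with e | e
    · exact e
    · rw [e] at c4; norm_num [oneM] at c4
  have eT : L.im h = (1, 4 + ((L.im h).2.1 - 4), 8 + ((L.im h).2.2.1 - 8), 16 + ((L.im h).2.2.2.1 - 16),
      32 + ((L.im h).2.2.2.2 - 32)) := by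
    refine Prod.ext hc (Prod.ext ?_ (Prod.ext ?_ (Prod.ext ?_ ?_))) <;> simp only <;> omega
  obtain ⟨r, hr⟩ := inner_tuples ⟨(L.im h).2.1 - 4, by omega⟩ ⟨(L.im h).2.2.1 - 8, by omega⟩
    ⟨(L.im h).2.2.2.1 - 16, by omega⟩ ⟨(L.im h).2.2.2.2 - 32, by omega⟩ (by
      have := L.im_ok hh; rwa [eT] at this)
  have him : L.im h = innT r.1 := eT.trans hr.symm
  have hr' := L.inH_psi r.2
  have hk : ∀ x, x < 64 → Commute ((L.co.ψ r.1)⁻¹ * h) (L.co.ψ x) := by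
    intro x hx
    have e1 := (L.act hh hx).2
    rw [him] at e1
    have e2 := (L.act hr' hx).2
    have himr : L.im (L.co.ψ r.1) = innT r.1 := by
      have key : ∀ g, g < 64 → L.cd (L.co.ψ r.1 * L.co.ψ g * (L.co.ψ r.1)⁻¹) = rmul (rmul r.1 g) (rinv r.1) := by
        intro g hg
        have hi := (rinv_spec r).1
        refine L.co.inj _ _ (L.cd_lt _) (rmul_lt ⟨_, rmul_lt r ⟨g, hg⟩⟩ ⟨_, hi⟩) ?_
        rw [L.psi_im hr' hg, L.co.mul _ _ (rmul_lt r ⟨g, hg⟩) hi, L.co.mul _ _ r.2 hg]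
        congr 1
        refine inv_eq_of_mul_eq_one_right ?_
        rw [← L.co.mul _ _ r.2 hi, (rinv_spec r).2.2.2.2, L.psi_zero]
      simp only [im, innT]
      rw [key 1 (by norm_num), key 4 (by norm_num), key 8 (by norm_num), key 16 (by norm_num), key 32 (by norm_num)]
    rw [himr, e1] at e2
    show (L.co.ψ r.1)⁻¹ * h * L.co.ψ x = L.co.ψ x * ((L.co.ψ r.1)⁻¹ * h)
    calc (L.co.ψ r.1)⁻¹ * h * L.co.ψ x = (L.co.ψ r.1)⁻¹ * (h * L.co.ψ x * h⁻¹) * h := by group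
      _ = L.co.ψ x * ((L.co.ψ r.1)⁻¹ * h) := by rw [e2]; group
  obtain ⟨i, hi, e⟩ := L.cent_R (hr'.inv.mul hh) fun x hx => by
    obtain ⟨n, hn, rfl⟩ := (L.co.mem x).1 hx
    exact hk n hn
  have : h = L.co.ψ r.1 * L.co.ψ i := by rw [e]; group
  rw [this]
  exact mul_mem (L.psi_mem r.2) (L.psi_mem (by omega))

/-- the induced map is faithful on the quotient -/
theorem rho_eq_iff {g h : G} (hg : L.inH g) (hh : L.inH h) :
    L.ρ (L.toH g hg) = L.ρ (L.toH h hh) ↔ L.o g = L.o h := by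
  constructor
  · intro e
    have k := (L.ρ_ker ((L.toH h hh)⁻¹ * L.toH g hg)).1 (by rw [map_mul, map_inv, e, inv_mul_cancel])
    obtain ⟨r, hr, er⟩ := (L.co.mem _).1 k
    have : g = h * L.co.ψ r := by rw [er]; show g = h * (h⁻¹ * g); group
    rw [this, L.o_mul hh (L.inH_psi hr), L.o_psi hr]
    exact (by
      have h0 : L.o h = omul (L.o h) (L.o (L.co.ψ 0)) := by
        rw [← L.o_mul hh (L.inH_psi (by norm_num)), L.psi_zero, mul_one]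
      rw [L.o_psi (by norm_num)] at h0; exact h0.symm)
  · intro e
    have h1 : L.o (h⁻¹ * g) = oneM := by
      rw [L.o_mul hh.inv hg, e, ← L.o_mul hh.inv hh, inv_mul_cancel, ← L.psi_zero, L.o_psi (by norm_num)]
    have k := (L.ρ_ker ((L.toH h hh)⁻¹ * L.toH g hg)).2 (L.mem_R_of_o (hh.inv.mul hg) h1)
    rw [map_mul, map_inv, inv_mul_eq_one] at k
    exact k.symm

/-- some element inverts the central cyclic group -/
theorem exists_inverter : ∃ h, L.inH h ∧ (L.im h).1 = 3 := by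
  by_contra hno
  push Not at hno
  have hfix : ∀ h, L.inH h → Commute h (L.co.ψ 1) := by
    intro h hh
    obtain ⟨-, -, -, -, -, h6⟩ := okT_bounds (L.im_ok hh)
    have e := L.psi_im hh (x := 1) (by norm_num)
    rw [show L.cd (h * L.co.ψ 1 * h⁻¹) = 1 from h6.resolve_right (hno h hh)] at e
    exact (mul_inv_eq_iff_eq_mul.1 e.symm)
  have cV : ∀ v ∈ L.V, Commute (L.co.ψ 1) v := fun v hv => by
    obtain ⟨i, hi, rfl⟩ := L.mem_V hv
    exact (hfix _ (L.inH_psi (by omega))).symm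
  have hV2 : ∀ i, i < 8 → L.co.ψ (2 * i) ∈ L.V := fun i hi => (L.co.memV _).2 ⟨2 * i, by omega, by omega, rfl⟩
  have mv := fun i j k hi hj hk hb => L.move i j k hi hj hk hb
  -- well defined translates
  have wd : ∀ g g' : G, ∀ i, g * L.co.ψ 2 * g⁻¹ = L.co.ψ (2 * i) → g' * L.co.ψ 2 * g'⁻¹ = L.co.ψ (2 * i) →
      g * L.co.ψ 1 * g⁻¹ = g' * L.co.ψ 1 * g'⁻¹ := by
    intro g g' i e e'
    have hc : L.inH (g'⁻¹ * g) := by
      show g'⁻¹ * g * L.co.ψ 2 = L.co.ψ 2 * (g'⁻¹ * g)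
      calc g'⁻¹ * g * L.co.ψ 2 = g'⁻¹ * (g * L.co.ψ 2 * g⁻¹) * g := by group
        _ = g'⁻¹ * (g' * L.co.ψ 2 * g'⁻¹) * g := by rw [e, e']
        _ = L.co.ψ 2 * (g'⁻¹ * g) := by group
    have h2 := (hfix _ hc).eq
    calc g * L.co.ψ 1 * g⁻¹ = g' * ((g'⁻¹ * g) * L.co.ψ 1) * g⁻¹ := by group
      _ = g' * (L.co.ψ 1 * (g'⁻¹ * g)) * g⁻¹ := by rw [h2]
      _ = g' * L.co.ψ 1 * g'⁻¹ := by group
  -- elements moving the basis
  obtain ⟨g1, p1, q1, r1⟩ := mv 1 2 4 (by norm_num) (by norm_num) (by norm_num) (by decide)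
  obtain ⟨g2, p2, q2, r2⟩ := mv 2 1 4 (by norm_num) (by norm_num) (by norm_num) (by decide)
  obtain ⟨g3, p3, q3, r3⟩ := mv 3 1 4 (by norm_num) (by norm_num) (by norm_num) (by decide)
  obtain ⟨g4, p4, q4, r4⟩ := mv 4 1 2 (by norm_num) (by norm_num) (by norm_num) (by decide)
  obtain ⟨g5, p5, q5, r5⟩ := mv 5 1 2 (by norm_num) (by norm_num) (by norm_num) (by decide)
  obtain ⟨g6, p6, q6, r6⟩ := mv 6 1 2 (by norm_num) (by norm_num) (by norm_num) (by decide)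
  set C := fun g : G => g * L.co.ψ 1 * g⁻¹ with hC
  have c1 : C g1 = L.co.ψ 1 := by
    have := wd g1 1 1 p1 (by simp)
    simpa [hC] using this
  have cmV : ∀ g : G, (∃ i, i < 8 ∧ g * L.co.ψ 2 * g⁻¹ = L.co.ψ (2 * i)) → (∀ v ∈ L.V, ∃ w ∈ L.V, g * w * g⁻¹ = v) →
      ∀ v ∈ L.V, Commute (C g) v := by
    intro g _ hs v hv
    obtain ⟨w, hw, rfl⟩ := hs v hv
    show g * L.co.ψ 1 * g⁻¹ * (g * w * g⁻¹) = g * w * g⁻¹ * (g * L.co.ψ 1 * g⁻¹)
    calc g * L.co.ψ 1 * g⁻¹ * (g * w * g⁻¹) = g * (L.co.ψ 1 * w) * g⁻¹ := by group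
      _ = _ := by rw [(cV w hw).eq]; group
  -- images of V
  have span : ∀ (g : G) (i j k : ℕ), i < 8 → j < 8 → k < 8 → g * L.co.ψ 2 * g⁻¹ = L.co.ψ (2 * i) →
      g * L.co.ψ 4 * g⁻¹ = L.co.ψ (2 * j) → g * L.co.ψ 8 * g⁻¹ = L.co.ψ (2 * k) → ∀ n : Fin 8,
      g * L.co.ψ (2 * n.1) * g⁻¹ = L.co.ψ (2 * Nat.xor (Nat.xor (i * (n.1 % 2)) (j * (n.1 / 2 % 2))) (k * (n.1 / 4 % 2))) := by
    intro g i j k hi hj hk ei ej ek n
    have hm : ∀ a b, a < 8 → b < 8 → L.co.ψ (2 * Nat.xor a b) = L.co.ψ (2 * a) * L.co.ψ (2 * b) := fun a b ha hb => by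
      rw [← L.co.mul _ _ (by omega) (by omega)]
      exact congrArg _ ((even_codes ⟨a, ha⟩ ⟨b, hb⟩).1.symm)
    have h1 : ∀ a, a < 8 → ∀ e : Fin 2, L.co.ψ (2 * (a * e.1)) = L.co.ψ (2 * a) ^ e.1 := fun a ha e => by
      fin_cases e <;> simp [L.psi_zero]
    have d : n.1 = Nat.xor (Nat.xor (1 * (n.1 % 2)) (2 * (n.1 / 2 % 2))) (4 * (n.1 / 4 % 2)) :=
      (by decide +kernel : ∀ n : Fin 8, n.1 = Nat.xor (Nat.xor (1 * (n.1 % 2)) (2 * (n.1 / 2 % 2))) (4 * (n.1 / 4 % 2))) n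
    have b1 := Nat.mod_lt n.1 (show 0 < 2 by norm_num)
    have b2 := Nat.mod_lt (n.1 / 2) (show 0 < 2 by norm_num)
    have b3 := Nat.mod_lt (n.1 / 4) (show 0 < 2 by norm_num)
    have l : ∀ a e, a < 8 → e < 2 → a * e < 8 := fun a e ha he => by interval_cases e <;> omega
    have lx : ∀ a b, a < 8 → b < 8 → Nat.xor a b < 8 := fun a b ha hb => Nat.xor_lt_two_pow (n := 3) ha hb
    conv_lhs => rw [d]
    rw [hm _ _ (lx _ _ (l 1 _ (by norm_num) b1) (l 2 _ (by norm_num) b2)) (l 4 _ (by norm_num) b3),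
      hm _ _ (l 1 _ (by norm_num) b1) (l 2 _ (by norm_num) b2), hm _ _ (lx _ _ (l i _ hi b1) (l j _ hj b2))
      (l k _ hk b3), hm _ _ (l i _ hi b1) (l j _ hj b2), h1 1 (by norm_num) ⟨_, b1⟩, h1 2 (by norm_num) ⟨_, b2⟩,
      h1 4 (by norm_num) ⟨_, b3⟩, h1 i hi ⟨_, b1⟩, h1 j hj ⟨_, b2⟩, h1 k hk ⟨_, b3⟩, ← ei, ← ej, ← ek, conj_pow,
      conj_pow, conj_pow]
    simp only [show 2 * 1 = 2 from rfl, show 2 * 2 = 4 from rfl, show 2 * 4 = 8 from rfl]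
    group
  have onto : ∀ (g : G) (i j k : ℕ), i < 8 → j < 8 → k < 8 → isB i j k = true → g * L.co.ψ 2 * g⁻¹ = L.co.ψ (2 * i) →
      g * L.co.ψ 4 * g⁻¹ = L.co.ψ (2 * j) → g * L.co.ψ 8 * g⁻¹ = L.co.ψ (2 * k) →
      ∀ v ∈ L.V, ∃ w ∈ L.V, g * w * g⁻¹ = v := by
    intro g i j k hi hj hk hb ei ej ek v hv
    obtain ⟨m, hm, rfl⟩ := L.mem_V hv
    have := (by decide +kernel : ∀ i j k : Fin 8, isB i.1 j.1 k.1 = true → ∀ m : Fin 8, ∃ n : Fin 8,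
      Nat.xor (Nat.xor (i.1 * (n.1 % 2)) (j.1 * (n.1 / 2 % 2))) (k.1 * (n.1 / 4 % 2)) = m.1)
      ⟨i, hi⟩ ⟨j, hj⟩ ⟨k, hk⟩ hb ⟨m, hm⟩
    obtain ⟨n, hn⟩ := this
    exact ⟨_, hV2 n.1 n.2, by rw [span g i j k hi hj hk ei ej ek n, hn]⟩
  -- conjugating translates
  have moveC : ∀ (g h h' : G) (i : ℕ), g * (h * L.co.ψ 2 * h⁻¹) * g⁻¹ = L.co.ψ (2 * i) →
      h' * L.co.ψ 2 * h'⁻¹ = L.co.ψ (2 * i) → g * C h * g⁻¹ = C h' := by
    intro g h h' i e e'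
    have := wd (g * h) h' i (by rw [← e]; group) e'
    simp only [hC]
    rw [← this]; group
  have vs : ∀ g : G, ∀ i, i < 8 → g * L.co.ψ 2 * g⁻¹ = L.co.ψ (2 * i) → C g ^ 2 = L.co.ψ (2 * i) := by
    intro g i hi e
    simp only [hC]
    rw [conj_pow, pow_two, ← L.co.mul 1 1 (by norm_num) (by norm_num), show rmul 1 1 = 2 by decide +kernel, e]
  have k1 := cmV g1 ⟨1, by norm_num, p1⟩ (onto g1 1 2 4 (by norm_num) (by norm_num) (by norm_num) (by decide) p1 q1 r1)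
  have k2 := cmV g2 ⟨2, by norm_num, p2⟩ (onto g2 2 1 4 (by norm_num) (by norm_num) (by norm_num) (by decide) p2 q2 r2)
  have k3 := cmV g3 ⟨3, by norm_num, p3⟩ (onto g3 3 1 4 (by norm_num) (by norm_num) (by norm_num) (by decide) p3 q3 r3)
  have k4 := cmV g4 ⟨4, by norm_num, p4⟩ (onto g4 4 1 2 (by norm_num) (by norm_num) (by norm_num) (by decide) p4 q4 r4)
  have k5 := cmV g5 ⟨5, by norm_num, p5⟩ (onto g5 5 1 2 (by norm_num) (by norm_num) (by norm_num) (by decide) p5 q5 r5)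
  have k6 := cmV g6 ⟨6, by norm_num, p6⟩ (onto g6 6 1 2 (by norm_num) (by norm_num) (by norm_num) (by decide) p6 q6 r6)
  have cc := fun {x y : G} (hx : ∀ v ∈ L.V, Commute x v) (hy : ∀ v ∈ L.V, Commute y v) => (L.cent_comm x y hx hy).eq
  -- the product along the first line
  have line0 : C g1 * C g2 * C g3 = 1 := by
    set P := C g1 * C g2 * C g3 with hP
    have hPV : ∀ v ∈ L.V, Commute P v := fun v hv => ((k1 v hv).mul_left (k2 v hv)).mul_left (k3 v hv)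
    have hsq : P ^ 2 = 1 := by
      rw [hP, (L.cent_comm _ _ (fun v hv => (k1 v hv).mul_left (k2 v hv)) k3).mul_pow,
        (L.cent_comm _ _ k1 k2).mul_pow, vs g1 1 (by norm_num) p1, vs g2 2 (by norm_num) p2,
        vs g3 3 (by norm_num) p3, ← L.co.mul _ _ (by norm_num) (by norm_num),
        show rmul (2 * 1) (2 * 2) = 6 by decide +kernel, ← L.co.mul _ _ (by norm_num) (by norm_num),
        show rmul 6 (2 * 3) = 0 by decide +kernel, L.psi_zero]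
    obtain ⟨m, hm, em⟩ := L.mem_V (L.cent_inv P hPV hsq)
    have fixed : ∀ k, k < 8 → isB 2 3 k = true → Nat.xor (Nat.xor (2 * (m % 2)) (3 * (m / 2 % 2))) (k * (m / 4 % 2)) = m := by
      intro k hk hb
      obtain ⟨g, ei, ej, ek⟩ := mv 2 3 k (by norm_num) (by norm_num) hk hb
      have sp := span g 2 3 k (by norm_num) (by norm_num) hk ei ej ek
      have a1 : g * C g1 * g⁻¹ = C g2 := moveC g g1 g2 2 (by rw [p1]; exact (sp 1).trans (by simp)) p2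
      have a2 : g * C g2 * g⁻¹ = C g3 := moveC g g2 g3 3 (by rw [p2]; exact (sp 2).trans (by simp)) p3
      have a3 : g * C g3 * g⁻¹ = C g1 := moveC g g3 g1 1 (by rw [p3]; exact (sp 3).trans (by simp)) p1
      have : g * P * g⁻¹ = P := by
        calc g * P * g⁻¹ = (g * C g1 * g⁻¹) * (g * C g2 * g⁻¹) * (g * C g3 * g⁻¹) := by rw [hP]; group
          _ = C g2 * C g3 * C g1 := by rw [a1, a2, a3]
          _ = C g1 * (C g2 * C g3) := (cc k1 (fun v hv => (k2 v hv).mul_left (k3 v hv))).symm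
          _ = P := (mul_assoc _ _ _).symm
      rw [← em, sp ⟨m, hm⟩] at this
      have hlt : Nat.xor (Nat.xor (2 * (m % 2)) (3 * (m / 2 % 2))) (k * (m / 4 % 2)) < 8 :=
        (by decide +kernel : ∀ k m : Fin 8, Nat.xor (Nat.xor (2 * (m.1 % 2)) (3 * (m.1 / 2 % 2))) (k.1 * (m.1 / 4 % 2)) < 8)
          ⟨k, hk⟩ ⟨m, hm⟩
      exact Nat.eq_of_mul_eq_mul_left (by norm_num) (L.co.inj _ _ (by omega) (by omega) this)
    have hm0 : m = 0 := (by decide +kernel : ∀ m : Fin 8,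
      Nat.xor (Nat.xor (2 * (m.1 % 2)) (3 * (m.1 / 2 % 2))) (4 * (m.1 / 4 % 2)) = m.1 →
      Nat.xor (Nat.xor (2 * (m.1 % 2)) (3 * (m.1 / 2 % 2))) (5 * (m.1 / 4 % 2)) = m.1 → m.1 = 0)
      ⟨m, hm⟩ (fixed 4 (by norm_num) (by decide)) (fixed 5 (by norm_num) (by decide))
    rw [← em, hm0]; exact L.psi_zero
  -- the other lines
  have line : ∀ (u v w : ℕ) (gu gv gw : G) (k : ℕ), u < 8 → v < 8 → k < 8 → isB u v k = true → w = Nat.xor u v →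
      gu * L.co.ψ 2 * gu⁻¹ = L.co.ψ (2 * u) → gv * L.co.ψ 2 * gv⁻¹ = L.co.ψ (2 * v) →
      gw * L.co.ψ 2 * gw⁻¹ = L.co.ψ (2 * w) → C gu * C gv * C gw = 1 := by
    intro u v w gu gv gw k hu hv hk hb hw eu ev ew
    obtain ⟨g, ei, ej, ek⟩ := mv u v k hu hv hk hb
    have sp := span g u v k hu hv hk ei ej ek
    have a1 : g * C g1 * g⁻¹ = C gu := moveC g g1 gu u (by rw [p1]; exact (sp 1).trans (by simp)) eu
    have a2 : g * C g2 * g⁻¹ = C gv := moveC g g2 gv v (by rw [p2]; exact (sp 2).trans (by simp)) ev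
    have a3 : g * C g3 * g⁻¹ = C gw := moveC g g3 gw w (by rw [p3]; exact (sp 3).trans (by simp [hw])) ew
    rw [← a1, ← a2, ← a3]
    calc g * C g1 * g⁻¹ * (g * C g2 * g⁻¹) * (g * C g3 * g⁻¹) = g * (C g1 * C g2 * C g3) * g⁻¹ := by group
      _ = 1 := by rw [line0]; group
  have l145 := line 1 4 5 g1 g4 g5 2 (by norm_num) (by norm_num) (by norm_num) (by decide) rfl p1 p4 p5
  have l246 := line 2 4 6 g2 g4 g6 1 (by norm_num) (by norm_num) (by norm_num) (by decide) rfl p2 p4 p6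
  have l356 := line 3 5 6 g3 g5 g6 1 (by norm_num) (by norm_num) (by norm_num) (by decide) rfl p3 p5 p6
  have e3 : C g3 = (C g1 * C g2)⁻¹ := eq_inv_of_mul_eq_one_right line0
  have e5 : C g5 = (C g1 * C g4)⁻¹ := eq_inv_of_mul_eq_one_right l145
  have e6 : C g6 = (C g2 * C g4)⁻¹ := eq_inv_of_mul_eq_one_right l246
  rw [e3, e5, e6] at l356
  have key : (C g1 * C g2 * C g4) ^ 2 = 1 := by
    let S : Subgroup G :=
      { carrier := {x | ∀ v ∈ L.V, Commute x v}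
        one_mem' := fun v _ => Commute.one_left v
        mul_mem' := fun hx hy v hv => (hx v hv).mul_left (hy v hv)
        inv_mem' := fun hx v hv => (hx v hv).inv_left }
    letI : CommGroup S := { (inferInstance : Group S) with
      mul_comm := fun x y => Subtype.ext (L.cent_comm x.1 y.1 x.2 y.2) }
    have hgen : ∀ x y z : S, (x * y)⁻¹ * (x * z)⁻¹ * (y * z)⁻¹ = 1 → (x * y * z) ^ 2 = 1 := by
      intro x y z h
      rw [show (x * y * z) ^ 2 = ((x * y)⁻¹ * (x * z)⁻¹ * (y * z)⁻¹)⁻¹ by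
        simp [pow_two, mul_comm, mul_left_comm, mul_assoc], h, inv_one]
    exact congrArg Subtype.val (hgen ⟨C g1, k1⟩ ⟨C g2, k2⟩ ⟨C g4, k4⟩ (Subtype.ext l356))
  have h7 : (C g1 * C g2 * C g4) ^ 2 = L.co.ψ 14 := by
    rw [(L.cent_comm _ _ (fun v hv => (k1 v hv).mul_left (k2 v hv)) k4).mul_pow, (L.cent_comm _ _ k1 k2).mul_pow,
      vs g1 1 (by norm_num) p1, vs g2 2 (by norm_num) p2, vs g4 4 (by norm_num) p4,
      ← L.co.mul _ _ (by norm_num) (by norm_num), show rmul (2 * 1) (2 * 2) = 6 by decide +kernel,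
      ← L.co.mul _ _ (by norm_num) (by norm_num), show rmul 6 (2 * 4) = 14 by decide +kernel]
  rw [key, ← L.psi_zero] at h7
  exact absurd (L.co.inj _ _ (by norm_num) (by norm_num) h7) (by norm_num)

end Loc

end Cfsg.Agent.HSTwoLocal
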