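import Mathlib

/-!
Coordinates for the central product of a cyclic group of order four and an extraspecial group of order 32, and
for the linear maps induced on the quotient of order 16.
-/

set_option autoImplicit false
set_option maxRecDepth 100000

namespace Cfsg.Agent.HSTwoLocal

/-- product of two elements `c^i a₁^p a₂^q b₁^r b₂^s`, coded as `i + 4p + 8q + 16r + 32s` -/
def rmul (x y : ℕ) : ℕ :=
  Nat.mod (x + y + 2 * (Nat.mod (x / 16) 2 * Nat.mod (y / 4) 2 + Nat.mod (x / 32) 2 * Nat.mod (y / 8) 2)) 4 +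
    4 * Nat.xor (x / 4) (y / 4)

/-- inverse -/
def rinv (x : ℕ) : ℕ := rmul (rmul x x) x

/-- power -/
def rpow (x : ℕ) : ℕ → ℕ
  | 0 => 0
  | n + 1 => rmul (rpow x n) x

theorem rmul_lt : ∀ x y : Fin 64, rmul x.1 y.1 < 64 := by decide +kernel

theorem rmul_assoc : ∀ x y z : Fin 64, rmul (rmul x.1 y.1) z.1 = rmul x.1 (rmul y.1 z.1) := by decide +kernel

theorem rinv_spec : ∀ x : Fin 64, rinv x.1 < 64 ∧ rmul x.1 0 = x.1 ∧ rmul 0 x.1 = x.1 ∧
    rmul (rinv x.1) x.1 = 0 ∧ rmul x.1 (rinv x.1) = 0 := by decide +kernel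

/-- images of the five generators `c`, `a₁`, `a₂`, `b₁`, `b₂` -/
abbrev Tup := ℕ × ℕ × ℕ × ℕ × ℕ

/-- the element of a code in terms of given generators -/
def appT (T : Tup) (x : ℕ) : ℕ :=
  rmul (rmul (rmul (rmul (rpow T.1 (Nat.mod x 4)) (rpow T.2.1 (Nat.mod (x / 4) 2))) (rpow T.2.2.1 (Nat.mod (x / 8) 2)))
    (rpow T.2.2.2.1 (Nat.mod (x / 16) 2))) (rpow T.2.2.2.2 (Nat.mod (x / 32) 2))

/-- the identity -/
def idT : Tup := (1, 4, 8, 16, 32)

/-- conjugation by a code -/
def innT (r : ℕ) : Tup :=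
  (rmul (rmul r 1) (rinv r), rmul (rmul r 4) (rinv r), rmul (rmul r 8) (rinv r), rmul (rmul r 16) (rinv r),
    rmul (rmul r 32) (rinv r))

/-- composition of tuples -/
def compT (S T : Tup) : Tup := (appT S T.1, appT S T.2.1, appT S T.2.2.1, appT S T.2.2.2.1, appT S T.2.2.2.2)

/-- the linear map induced on the quotient with a bit recording whether the centre is inverted -/
def outT (T : Tup) : ℕ :=
  T.2.1 / 4 + 16 * (T.2.2.1 / 4) + 256 * (T.2.2.2.1 / 4) + 4096 * (T.2.2.2.2 / 4) +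
    65536 * (bif Nat.beq T.1 3 then 1 else 0)

/-- column of a linear map -/
def colM (m k : ℕ) : ℕ := Nat.mod (Nat.shiftRight m (4 * k)) 16

/-- selected vector -/
def selV (b x : ℕ) : ℕ := bif Nat.beq (Nat.mod b 2) 1 then x else 0

/-- a linear map applied to a vector -/
def linM (m w : ℕ) : ℕ :=
  Nat.xor (Nat.xor (Nat.xor (selV w (colM m 0)) (selV (w / 2) (colM m 1))) (selV (w / 4) (colM m 2)))
    (selV (w / 8) (colM m 3))

/-- composition of linear maps -/
def omul (m n : ℕ) : ℕ :=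
  linM m (colM n 0) + 16 * linM m (colM n 1) + 256 * linM m (colM n 2) + 4096 * linM m (colM n 3) +
    65536 * Nat.mod (m / 65536 + n / 65536) 2

/-- the identity map -/
def oneM : ℕ := 33825

theorem outT_id : outT idT = oneM := by decide +kernel

theorem appT_id : ∀ x : Fin 64, appT idT x.1 = x.1 := by decide +kernel

end Cfsg.Agent.HSTwoLocal
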