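import Cfsg.Agent.Lib.Spor.HSTwoLocal.Generate
import Cfsg.Agent.Lib.Spor.HSTwoLocal.ModelData
import Cfsg.Agent.Lib.Local.FS.HundredEngine

/-!
The centralizer of the involution acts faithfully on a hundred points through the model.
-/

set_option autoImplicit false
set_option maxRecDepth 100000
set_option maxHeartbeats 1000000
set_option linter.style.haveILetI false

namespace Cfsg.Agent.HSTwoLocal

open Local.FS.Hundred (pts nget code pack idC pmul code_mul code_injective nget_code)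

/-- digit of a packed permutation -/
def dig (g i : ℕ) : ℕ := Nat.land (Nat.shiftRight g (Nat.mul 7 i)) 127

/-- composition of packed permutations -/
def mu (p q : ℕ) : ℕ :=
  Nat.rec (motive := fun _ => ℕ) 0 (fun i r => Nat.add r (Nat.shiftLeft (dig p (dig q i)) (Nat.mul 7 i))) 100

theorem pack_append_single (l : List ℕ) (x : ℕ) : pack (l ++ [x]) = pack l + x * 128 ^ l.length := by
  induction l with
  | nil => simp [pack]
  | cons a l ih =>
    show a + 128 * pack (l ++ [x]) = a + 128 * pack l + x * 128 ^ (l.length + 1)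
    rw [ih, pow_succ]; ring

theorem rec_sum (f : ℕ → ℕ) : ∀ n, Nat.rec (motive := fun _ => ℕ) 0
    (fun i r => Nat.add r (Nat.shiftLeft (f i) (Nat.mul 7 i))) n = pack ((List.range n).map f)
  | 0 => rfl
  | n + 1 => by
    show Nat.add _ (Nat.shiftLeft (f n) (Nat.mul 7 n)) = _
    rw [rec_sum f n, List.range_succ, List.map_append, List.map_singleton, pack_append_single, List.length_map,
      List.length_range]
    show _ + f n <<< (7 * n) = _
    rw [Nat.shiftLeft_eq, pow_mul]
    norm_num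

theorem mu_eq (p q : ℕ) : mu p q = pmul p q := by
  have e : pts = List.range 100 := by decide +kernel
  have h : mu p q = pack ((List.range 100).map fun i => nget p (nget q i)) :=
    rec_sum (fun i => dig p (dig q i)) 100
  rw [h, pmul, e, pack, List.foldr_map]

theorem code_mu (σ τ : Equiv.Perm (Fin 100)) : code (σ * τ) = mu (code σ) (code τ) := by rw [mu_eq, code_mul]

/-- a permutation from its images and those of its inverse -/
def mkPerm (p q : ℕ) : Equiv.Perm (Fin 100) :=
  if h : (∀ i : Fin 100, dig q (dig p i.1 % 100) % 100 = i.1) ∧ ∀ i : Fin 100, dig p (dig q i.1 % 100) % 100 = i.1 then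
    { toFun := fun i => ⟨dig p i.1 % 100, Nat.mod_lt _ (by norm_num)⟩
      invFun := fun i => ⟨dig q i.1 % 100, Nat.mod_lt _ (by norm_num)⟩
      left_inv := fun i => Fin.ext (h.1 i)
      right_inv := fun i => Fin.ext (h.2 i) }
  else 1

/-- the letters as permutations -/
def mg (k : ℕ) : Equiv.Perm (Fin 100) := mkPerm (letL.getD k idC) (letL.getD (ivT.getD k 0) idC)

theorem mg_code : ∀ k : Fin 16, code (mg k.1) = letL.getD k.1 idC ∧
    mu (letL.getD k.1 idC) (letL.getD (ivT.getD k.1 0) idC) = idC ∧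
    mu (letL.getD (ivT.getD k.1 0) idC) (letL.getD k.1 idC) = idC := by decide +kernel

theorem code_one : code 1 = idC := by decide +kernel

attribute [local irreducible] mu idC letL code in
/-- packed value of a word -/
def cwev : List ℕ → ℕ
  | [] => idC
  | k :: l => mu (letL.getD k idC) (cwev l)

attribute [local irreducible] mu idC letL code in
theorem cwev_cons (k : ℕ) (l : List ℕ) : cwev (k :: l) = mu (letL.getD k idC) (cwev l) := by rw [cwev]

attribute [local irreducible] mu idC letL code in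
theorem cwev_nil : cwev [] = idC := by rw [cwev]

theorem wev_cons {H : Type*} [Group H] (f : ℕ → H) (k : ℕ) (l : List ℕ) : wev f (k :: l) = f k * wev f l :=
  List.prod_cons


attribute [local irreducible] mu idC letL code in
theorem code_wev : ∀ l : List ℕ, (∀ k ∈ l, k < 16) → code (wev mg l) = cwev l
  | [], _ => by rw [cwev_nil, ← code_one, wev, List.map_nil, List.prod_nil]
  | k :: l, h => by
    rw [wev_cons, cwev_cons, code_mu, code_wev l (fun j hj => h j (List.mem_cons_of_mem _ hj)),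
      (mg_code ⟨k, h k (List.mem_cons_self ..)⟩).1]

theorem mg_inv : ∀ k, k < 16 → mg (ivT.getD k 0) = (mg k)⁻¹ := fun k hk => by
  refine eq_inv_of_mul_eq_one_left (code_injective ?_)
  have h : ivT.getD k 0 < 16 := ((by decide : ∀ k : Fin 16, ivT.getD k.1 0 < 16) ⟨k, hk⟩)
  rw [code_mu, (mg_code ⟨k, hk⟩).1, (mg_code ⟨_, h⟩).1, (mg_code ⟨k, hk⟩).2.2, code_one]

theorem mg_relH : ∀ l ∈ relH, (∀ k ∈ l, k < 16) ∧ cwev l = idC := by decide +kernel

/-- a word for a code of the 2-core -/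
def stdW (y : ℕ) : List ℕ :=
  List.replicate (y % 4) 0 ++ List.replicate (y / 4 % 2) 2 ++ List.replicate (y / 8 % 2) 3 ++
    List.replicate (y / 16 % 2) 4 ++ List.replicate (y / 32 % 2) 5

theorem stdW_facts : ∀ y : Fin 64, (∀ k ∈ stdW y.1, k < 6) ∧ wcC (stdW y.1) = y.1 ∧
    cwev (stdW y.1) = coreL.getD y.1 0 := by decide +kernel

theorem core_mul : ∀ x y : Fin 64, mu (coreL.getD x.1 0) (coreL.getD y.1 0) = coreL.getD (rmul x.1 y.1) 0 := by
  decide +kernel

theorem core_inj : coreL.Nodup ∧ coreL.length = 64 := by decide +kernel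

theorem rep_facts : repW.length = 120 ∧ (∀ p ∈ repW, (∀ k ∈ p.2, k < 11) ∧ outT (wT p.2) = p.1) ∧
    (∀ m ∈ evA ++ oddA, m ∈ repW.map Prod.fst) ∧ repW.map (fun p => cwev p.2) = repL := by decide +kernel

attribute [local irreducible] mu mkPerm code

namespace Lifts

variable {G : Type*} [Group G] {L : Loc G} (F : Lifts L)

theorem g_memH (k : ℕ) : F.g k ∈ Subgroup.centralizer ({L.t} : Set G) := by
  by_cases hk : k < 11
  · exact (L.toH _ (F.g_spec k hk).1).2
  · have : F.g k = 1 := by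
      simp only [g, Loc.glt]
      rw [if_neg (by omega), if_neg (by omega), if_neg (by omega), if_neg (by omega), if_neg (by omega),
        if_neg (by omega)]
    rw [this]; exact one_mem _

/-- the letters in the centralizer -/
def gH (k : ℕ) : ↥(Subgroup.centralizer ({L.t} : Set G)) := ⟨F.g k, F.g_memH k⟩

theorem wev_gH (l : List ℕ) : ((wev F.gH l : ↥(Subgroup.centralizer ({L.t} : Set G))) : G) = wev F.g l := by
  induction l with
  | nil => rfl
  | cons k l ih => rw [wev_cons, wev_cons, Subgroup.coe_mul, ih]; rfl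

/-- the pair of letters -/
def pr (k : ℕ) : ↥(Subgroup.centralizer ({L.t} : Set G)) × Equiv.Perm (Fin 100) := (F.gH k, mg k)

theorem wev_pr (l : List ℕ) : wev F.pr l = (wev F.gH l, wev mg l) := by
  induction l with
  | nil => rfl
  | cons k l ih => show F.pr k * wev F.pr l = _; rw [ih]; rfl

/-- the model homomorphism -/
def IsModel (φ : ↥(Subgroup.centralizer ({L.t} : Set G)) →* Equiv.Perm (Fin 100)) : Prop :=
  Function.Injective φ ∧ ∀ k, k < 11 → φ (F.gH k) = mg k

theorem exists_model [Finite G] (hS : L.Std) : ∃ φ, F.IsModel φ := by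
  classical
  have hgt : Subgroup.closure {z | ∃ k < 11, F.gH k = z} = ⊤ := by
    rw [eq_top_iff]
    intro h _
    have hh : (h : G) ∈ Subgroup.closure {z | ∃ k < 11, F.g k = z} := (F.cent_eq hS) ▸ h.2
    suffices ∀ x ∈ Subgroup.closure {z | ∃ k < 11, F.g k = z}, ∀ y : ↥(Subgroup.centralizer ({L.t} : Set G)),
        (y : G) = x → y ∈ Subgroup.closure {z | ∃ k < 11, F.gH k = z} from this _ hh h rfl
    intro x hx
    induction hx using Subgroup.closure_induction with
    | mem x hx =>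
      obtain ⟨k, hk, rfl⟩ := hx
      intro y hy
      exact Subgroup.subset_closure ⟨k, hk, Subtype.ext hy.symm⟩
    | one => intro y hy; rw [show y = 1 from Subtype.ext hy]; exact one_mem _
    | mul a b ha hb iha ihb =>
      intro y hy
      have ha' : a ∈ Subgroup.centralizer ({L.t} : Set G) := (F.cent_eq hS).symm ▸ ha
      have hb' : b ∈ Subgroup.centralizer ({L.t} : Set G) := (F.cent_eq hS).symm ▸ hb
      rw [show y = ⟨a, ha'⟩ * ⟨b, hb'⟩ from Subtype.ext hy]
      exact mul_mem (iha _ rfl) (ihb _ rfl)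
    | inv a ha iha =>
      intro y hy
      have ha' : a ∈ Subgroup.centralizer ({L.t} : Set G) := (F.cent_eq hS).symm ▸ ha
      rw [show y = (⟨a, ha'⟩ : ↥(Subgroup.centralizer ({L.t} : Set G)))⁻¹ from Subtype.ext hy]
      exact inv_mem (iha _ rfl)
  let cp : ℕ → ↥(Subgroup.centralizer ({L.t} : Set G)) × Equiv.Perm (Fin 100) := fun y => wev F.pr (stdW y)
  have hcp : ∀ y : Fin 64, ((cp y).1 : G) = L.co.ψ y ∧ code (cp y).2 = coreL.getD y 0 := fun y => by
    obtain ⟨a, b, c⟩ := stdW_facts y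
    simp only [cp, wev_pr]
    exact ⟨by rw [F.wev_gH, (F.wev_code _ a).2, b],
      by rw [code_wev _ (fun k hk => (a k hk).trans (by norm_num)), c]⟩
  have cmul : ∀ x y : Fin 64, cp x * cp y = cp (rmul x y) := fun x y => by
    have hz := rmul_lt x y
    obtain ⟨z1, z2⟩ := hcp ⟨_, hz⟩
    refine Prod.ext (Subtype.ext ?_) (code_injective ?_)
    · show ((cp x).1 : G) * ((cp y).1 : G) = _
      rw [(hcp x).1, (hcp y).1, z1, L.co.mul _ _ x.2 y.2]
    · rw [Prod.snd_mul, code_mu, (hcp x).2, (hcp y).2, z2, core_mul]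
  let P : Subgroup (↥(Subgroup.centralizer ({L.t} : Set G)) × Equiv.Perm (Fin 100)) :=
    { carrier := Set.range fun y : Fin 64 => cp y
      one_mem' := ⟨0, rfl⟩
      mul_mem' := by
        rintro _ _ ⟨x, rfl⟩ ⟨y, rfl⟩
        exact ⟨⟨_, rmul_lt x y⟩, (cmul x y).symm⟩
      inv_mem' := by
        rintro _ ⟨x, rfl⟩
        refine ⟨⟨_, (rinv_spec x).1⟩, eq_inv_of_mul_eq_one_left ?_⟩
        show cp (rinv x) * cp x = 1
        rw [cmul ⟨_, (rinv_spec x).1⟩ x, (rinv_spec x).2.2.2.1]
        rfl }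
  have hPc : Nat.card P ≤ 64 := by
    show Nat.card ↥(Set.range fun y : Fin 64 => cp y) ≤ 64
    exact (Finite.card_range_le _).trans (by simp)
  have hrel : ∀ l ∈ relH, wev F.pr l = 1 := fun l hl => by
    rw [wev_pr]
    refine Prod.ext (Subtype.ext ?_) (code_injective ?_)
    · show ((wev F.gH l : ↥(Subgroup.centralizer ({L.t} : Set G))) : G) = 1
      rw [F.wev_gH]; exact F.rel_H l hl
    · rw [code_wev l (mg_relH l hl).1, (mg_relH l hl).2, Prod.snd_one, code_one]
  have hinv : ∀ k, k < 16 → F.pr (ivT.getD k 0) = (F.pr k)⁻¹ := fun k hk =>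
    Prod.ext (Subtype.ext (F.g_inv k hk)) (mg_inv k hk)
  have hsub : ∀ l ∈ [[0], [2], [3], [4], [5]], wev F.pr l ∈ P := by
    intro l hl
    have key : ∀ l ∈ [[0], [2], [3], [4], [5]], ∃ y : Fin 64, stdW y.1 = l := by decide +kernel
    obtain ⟨y, rfl⟩ := key l hl
    exact ⟨y, rfl⟩
  obtain ⟨hfin, hbound⟩ := cert_le CertH.checked F.pr hinv
    (Prod.ext (Subtype.ext (by simp [pr, gH, g, Loc.glt]))
      (code_injective (show code (mg 15) = code 1 by decide +kernel)))
    (by decide +kernel) relH [[0], [2], [3], [4], [5]] (by decide +kernel) (by decide +kernel) rfl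
    (by rw [CertH.words_ok]; decide +kernel) CertH.moves_ok hrel P hsub
  set K := Subgroup.closure {z | ∃ k < 11, F.pr k = z} with hK
  haveI := hfin
  let π : ↥K →* ↥(Subgroup.centralizer ({L.t} : Set G)) := (MonoidHom.fst _ _).comp K.subtype
  have hsurj : Function.Surjective π := by
    rw [← MonoidHom.range_eq_top, eq_top_iff, ← hgt, Subgroup.closure_le]
    rintro _ ⟨k, hk, rfl⟩
    exact ⟨⟨F.pr k, Subgroup.subset_closure ⟨k, hk, rfl⟩⟩, rfl⟩
  have hKc : Nat.card K ≤ 7680 := hbound.trans (by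
    calc CertH.dat.nn * Nat.card P ≤ 120 * 64 := Nat.mul_le_mul (by decide +kernel) hPc
      _ = 7680 := rfl)
  have hinj : Function.Injective π := ((Nat.bijective_iff_surjective_and_card π).2
    ⟨hsurj, le_antisymm (by rw [card_cent]; exact hKc) (Nat.card_le_card_of_surjective π hsurj)⟩).1
  let e := MulEquiv.ofBijective π ⟨hinj, hsurj⟩
  let φ : ↥(Subgroup.centralizer ({L.t} : Set G)) →* Equiv.Perm (Fin 100) :=
    ((MonoidHom.snd _ _).comp K.subtype).comp e.symm.toMonoidHom
  have hφ : ∀ z : ↥K, φ (π z) = z.1.2 := fun z => by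
    show (e.symm (e z)).1.2 = _
    rw [e.symm_apply_apply]
  have hgen : ∀ k, k < 11 → φ (F.gH k) = mg k := fun k hk => hφ ⟨F.pr k, Subgroup.subset_closure ⟨k, hk, rfl⟩⟩
  refine ⟨φ, ?_, hgen⟩
  -- the kernel avoids the 2-core and centralises it
  have hcore : ∀ y : Fin 64, ∀ hy : L.co.ψ y ∈ Subgroup.centralizer ({L.t} : Set G),
      code (φ ⟨_, hy⟩) = coreL.getD y 0 := fun y hy => by
    have hm : cp y ∈ K := Subgroup.list_prod_mem _ fun z hz => by
      obtain ⟨k, hk, rfl⟩ := List.mem_map.1 hz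
      exact Subgroup.subset_closure ⟨k, ((stdW_facts y).1 k hk).trans (by norm_num), rfl⟩
    have e1 : π ⟨cp y, hm⟩ = ⟨L.co.ψ y, hy⟩ := Subtype.ext (hcp y).1
    rw [← e1, hφ]
    exact (hcp y).2
  rw [injective_iff_map_eq_one]
  intro h hh
  have hin : L.inH (h : G) := L.inH_of h
  have hR : ∀ y : Fin 64, ∀ hy : L.co.ψ y ∈ Subgroup.centralizer ({L.t} : Set G), φ ⟨_, hy⟩ = 1 → y = 0 :=
    fun y hy e1 => by
      have := hcore y hy
      rw [e1, code_one] at this
      refine Fin.ext ?_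
      have h0 : coreL.getD 0 0 = idC := by decide +kernel
      exact (List.getElem_inj (i := y.1) (j := 0) (h₀ := by rw [core_inj.2]; exact y.2) (h₁ := by rw [core_inj.2]; norm_num)
        core_inj.1).1 (by
        rw [← List.getD_eq_getElem _ 0, ← List.getD_eq_getElem _ 0, h0, ← this])
  obtain ⟨i, hi, ei⟩ := L.cent_R hin fun x hx => by
    obtain ⟨y, hy, rfl⟩ := (L.co.mem x).1 hx
    obtain ⟨l, e1⟩ := L.act hin hy
    set y' := appT (L.im (h : G)) y
    have hm : L.co.ψ (rmul y' (rinv y)) ∈ Subgroup.centralizer ({L.t} : Set G) :=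
      (L.toH _ (L.inH_psi (rmul_lt ⟨y', l⟩ ⟨_, (rinv_spec ⟨y, hy⟩).1⟩))).2
    have e2 : (⟨_, hm⟩ : ↥(Subgroup.centralizer ({L.t} : Set G))) =
        h * L.toH _ (L.inH_psi hy) * h⁻¹ * (L.toH _ (L.inH_psi hy))⁻¹ := Subtype.ext (by
      show L.co.ψ (rmul y' (rinv y)) = (h : G) * L.co.ψ y * (h : G)⁻¹ * (L.co.ψ y)⁻¹
      rw [L.co.mul _ _ l (rinv_spec ⟨y, hy⟩).1, e1, L.psi_inv hy])
    have h0 := hR ⟨_, rmul_lt ⟨y', l⟩ ⟨_, (rinv_spec ⟨y, hy⟩).1⟩⟩ hm (by
      rw [e2, map_mul, map_mul, map_mul, hh, map_inv, map_inv, hh]; group)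
    have e3 : L.co.ψ y' = L.co.ψ y := by
      have := congrArg (fun z : Fin 64 => L.co.ψ z) h0
      simp only [L.co.mul _ _ l (rinv_spec ⟨y, hy⟩).1, ← L.psi_inv hy, Fin.val_zero, L.psi_zero] at this
      exact mul_inv_eq_one.1 this
    rw [e1, mul_inv_eq_iff_eq_mul] at e3
    exact e3
  have := hR ⟨i, by omega⟩ (ei ▸ h.2) (by rw [← hh]; exact congrArg φ (Subtype.ext ei))
  have i0 : i = 0 := congrArg Fin.val this
  exact Subtype.ext (by rw [← ei, i0, L.psi_zero]; rfl)

namespace IsModel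

variable {F} {φ : ↥(Subgroup.centralizer ({L.t} : Set G)) →* Equiv.Perm (Fin 100)} (M : F.IsModel φ)
include M

theorem wev_eq : ∀ l : List ℕ, (∀ k ∈ l, k < 11) → code (φ (wev F.gH l)) = cwev l := by
  intro l hl
  rw [← code_wev l (fun k hk => (hl k hk).trans (by norm_num)), wev, map_list_prod, List.map_map, wev]
  exact congrArg (fun z => code (List.prod z)) (List.map_congr_left fun k hk => M.2 k (hl k hk))

theorem cd_eq {g h : ↥(Subgroup.centralizer ({L.t} : Set G))} (e : code (φ g) = code (φ h)) : g = h :=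
  M.1 (code_injective e)

theorem cd_psi {y : ℕ} (hy : y < 64) : code (φ (L.toH _ (L.inH_psi hy))) = coreL.getD y 0 := by
  obtain ⟨a, b, c⟩ := stdW_facts ⟨y, hy⟩
  rw [← c, ← M.wev_eq _ (fun k hk => (a k hk).trans (by norm_num))]
  exact congrArg (fun z => code (φ z)) (Subtype.ext (by
    show L.co.ψ y = _
    rw [F.wev_gH, (F.wev_code _ a).2, b]))

/-- every element has a code from the list -/
theorem cd_mem [Finite G] (hS : L.Std) (h : ↥(Subgroup.centralizer ({L.t} : Set G))) :
    ∃ m < 120, ∃ r < 64, code (φ h) = mu (repL.getD m 0) (coreL.getD r 0) := by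
  have hin : L.inH (h : G) := L.inH_of h
  obtain ⟨p, hp, hpo⟩ := List.mem_map.1 (rep_facts.2.2.1 _ (hS.1 _ hin))
  obtain ⟨m, hm, rfl⟩ := List.mem_iff_getElem.1 hp
  obtain ⟨hl, ho⟩ := rep_facts.2.1 _ hp
  obtain ⟨s1, s2⟩ := F.wev_spec _ hl
  set u := wev F.gH repW[m].2
  have eu : (u : G) = wev F.g repW[m].2 := F.wev_gH _
  have uo : L.o (u : G) = L.o (h : G) := by
    rw [eu, ← hpo, ← ho, ← s2]; rfl
  have uh : L.inH (u : G) := L.inH_of u
  have hR : (u : G)⁻¹ * h ∈ L.R := L.mem_R_of_o (uh.inv.mul hin) (by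
    rw [L.o_mul uh.inv hin, ← uo, ← L.o_mul uh.inv uh, inv_mul_cancel, ← L.psi_zero, L.o_psi (by norm_num)])
  obtain ⟨r, hr, er⟩ := (L.co.mem _).1 hR
  refine ⟨m, rep_facts.1 ▸ hm, r, hr, ?_⟩
  have e : h = u * L.toH _ (L.inH_psi hr) := Subtype.ext (by
    show (h : G) = (u : G) * L.co.ψ r
    rw [er, mul_inv_cancel_left])
  have hrep : repL.getD m 0 = cwev repW[m].2 := by
    rw [← rep_facts.2.2.2, List.getD_eq_getElem _ _ (by rw [List.length_map]; exact hm), List.getElem_map]
  rw [e, map_mul, code_mu, M.cd_psi hr, M.wev_eq _ hl, hrep]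

end IsModel

end Lifts

end Cfsg.Agent.HSTwoLocal
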