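import Cfsg.Agent.Lib.Spor.MclCent.Bound
import Cfsg.Agent.Lib.Spor.HSTwoLocal.Model
import Cfsg.Agent.Lib.Spor.HSTwoLocal.DcMain
import Cfsg.Agent.Lib.Spor.HSTwoLocal.DcKillA
import Cfsg.Agent.Lib.Spor.HSTwoLocal.DcKillB
import Cfsg.Agent.Lib.Spor.HSTwoLocal.DcKillC
import Cfsg.Agent.Lib.Spor.HSTwoLocal.DcKillD
import Cfsg.Agent.Lib.Spor.HSTwoLocal.DcKillE
import Cfsg.Agent.Lib.Spor.HSTwoLocal.DcKillF

/-!
The double coset certificates check.
-/

set_option autoImplicit false
set_option maxRecDepth 100000
set_option maxHeartbeats 0

namespace Cfsg.Agent.HSTwoLocal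

open Spor.DCoset
open Local.FS.Hundred (idC)

/-- the generating letters of the certificates -/
def gSel : List ℕ := [0, 2, 3, 4, 5, 6, 8, 10]

/-- the parts of a refutation that are checked -/
def killOK (c : Cert) (l : Look × Look) : Bool :=
  c.invOK mu && ((List.range c.facts.length).all fun k => c.factOK mu k) &&
    (Nat.beq c.one idC) && (c.gens == gSel.map fun k => letL.getD k idC) && (c.tree.getD 0 (9, [])).1 == 0 &&
      (c.tree.getD 0 (9, [])).2.isEmpty &&
    match c.look mu c.facts.length l.1, c.look mu c.facts.length l.2 with
    | some (i, a, j, _), some (i', a', j', _) => Nat.beq i i' && Nat.beq a a' && Nat.beq j 0 &&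
        (Nat.beq j' 1 || (Nat.beq j' 2 && Nat.beq (c.tree.getD 1 (9, [])).1 1 &&
          !(Nat.beq (mu (c.ev mu (c.tree.getD 1 (9, [])).2) (coreL.getD 6 0))
            (mu (coreL.getD 6 0) (c.ev mu (c.tree.getD 1 (9, [])).2)))))
    | _, _ => false

theorem killA_ok : killOK DcKillA.cert DcKillA.killL = true := by decide +kernel

theorem killB_ok : killOK DcKillB.cert DcKillB.killL = true := by decide +kernel

theorem killC_ok : killOK DcKillC.cert DcKillC.killL = true := by decide +kernel

theorem killD_ok : killOK DcKillD.cert DcKillD.killL = true := by decide +kernel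

theorem killE_ok : killOK DcKillE.cert DcKillE.killL = true := by decide +kernel

theorem killF_ok : killOK DcKillF.cert DcKillF.killL = true := by decide +kernel

theorem main_inv : DcMain.cert.invOK mu = true := by decide +kernel
theorem main_facts : ((List.range DcMain.cert.facts.length).all fun k => DcMain.cert.factOK mu k) = true := by
  decide +kernel
theorem main_pts : DcMain.cert.ptsOK mu = true := by decide +kernel
theorem main_d : DcMain.cert.dOK mu = true := by decide +kernel
theorem main_cg : DcMain.cert.cgOK mu = true := by decide +kernel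
theorem main_cov : DcMain.cert.covAll mu = true := by decide +kernel
theorem main_size : DcMain.cert.sizeOK mu 7680 = true := by decide +kernel
theorem main_nodup : DcMain.cert.pts.Nodup := by decide +kernel
theorem main_total : DcMain.cert.total = 5775 := by decide +kernel
theorem main_head : DcMain.cert.one = idC ∧ DcMain.cert.gens = gSel.map fun k => letL.getD k idC := by decide +kernel

theorem main_ok : DcMain.cert.OK mu 7680 where
  inv := main_inv
  facts k hk := List.all_eq_true.1 main_facts k (List.mem_range.2 hk)
  pts := main_pts
  dl := main_d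
  cg := main_cg
  cov := main_cov
  size := main_size

end Cfsg.Agent.HSTwoLocal
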