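import Cfsg.Agent.Lib.Spor.HSTwoLocal.FusionData

/-!
Kernel checks of the fusion words.
-/

set_option autoImplicit false
set_option maxRecDepth 100000
set_option maxHeartbeats 0

namespace Cfsg.Agent.HSTwoLocal

open Local.FS.Hundred (code code_injective idC)

/-- membership among the listed involutions of the first kind -/
def isT (a : ℕ) : Bool := invT.any fun p => p.2.1 && Nat.beq p.1 a

/-- the fusion word of a row is right -/
def fusRow (p : ℕ × Bool × List ℕ) : Bool :=
  p.2.2.all (fun k => Nat.blt k 12) && Nat.beq (mu p.1 (cwev2 p.2.2)) (mu (cwev2 p.2.2) (bif p.2.1 then tC else uC))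

/-- what is asked of an element of the centralizer -/
def scanOK (a : ℕ) : Bool :=
  (bif Nat.beq (mu a a) idC then Nat.beq a idC || ((invT.any fun p => Nat.beq p.1 a) &&
    (bif Nat.beq (mu a uC) (mu uC a) then Nat.beq a uC || isT a || isT (mu a uC) else true)) else true) &&
  (bif Nat.beq (mu a vC) (mu vC a) then (bif Nat.beq (mu a (mu a a)) idC then Nat.beq a idC else true) else true)

theorem fus_rows : invT.all fusRow = true := by decide +kernel

theorem scan_all : (repL.all fun m => coreL.all fun r => scanOK (mu m r)) = true := by decide +kernel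

theorem base_facts :
    coreL.getD 2 0 = tC ∧ cwev fuW = uC ∧ cwev vW = vC ∧ (∀ k ∈ fuW ++ vW ++ threeW, k < 11) ∧
    (∀ k ∈ hvW ++ nineW.1 ++ nineW.2 ++ tuW ++ tvW, k < 12) := by
  decide +kernel

theorem word_facts :
    mu vC (cwev2 hvW) = mu (cwev2 hvW) uC ∧
    mu (mu tC uC) (cwev2 tuW) = mu (cwev2 tuW) uC ∧ mu (mu tC vC) (cwev2 tvW) = mu (cwev2 tvW) uC ∧
    mu uC uC = idC ∧ mu vC vC = idC ∧ uC ≠ idC ∧ vC ≠ idC ∧ mu uC tC = mu tC uC ∧ mu vC tC = mu tC vC := by
  decide +kernel

theorem three_facts :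
    mu (cwev threeW) uC = mu uC (cwev threeW) ∧ cwev threeW ≠ idC ∧
      mu (cwev threeW) (mu (cwev threeW) (cwev threeW)) = idC := by
  decide +kernel

theorem nine_facts :
    let a := cwev2 nineW.1; let b := cwev2 nineW.2
    mu a uC = mu uC a ∧ mu b uC = mu uC b ∧ mu a b = mu b a ∧ mu a (mu a a) = idC ∧ mu b (mu b b) = idC ∧
      a ≠ idC ∧ b ≠ idC ∧ b ≠ a ∧ b ≠ mu a a := by
  decide +kernel

theorem sq_two : coreL.getD (rmul 2 2) 0 = idC := by decide +kernel

theorem tne : tC ≠ idC := by decide +kernel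

end Cfsg.Agent.HSTwoLocal
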