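import Cfsg.Agent.Lib.Fusion.StronglyEmbeddedPairs

/-!
A subgroup with two classes of involutions holding both centralizers is everything.
-/

set_option autoImplicit false

namespace Cfsg.Agent.HSTwoLocal

variable {G : Type*} [Group G]

theorem conj_eq_iff {a b s : G} : a * s * a⁻¹ = b * s * b⁻¹ ↔ Commute (b⁻¹ * a) s := by
  constructor
  · intro h
    show b⁻¹ * a * s = s * (b⁻¹ * a)
    calc b⁻¹ * a * s = b⁻¹ * (a * s * a⁻¹) * a := by group
      _ = b⁻¹ * (b * s * b⁻¹) * a := by rw [h]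
      _ = s * (b⁻¹ * a) := by group
  · intro h
    calc a * s * a⁻¹ = b * (b⁻¹ * a * s) * a⁻¹ := by group
      _ = b * (s * (b⁻¹ * a)) * a⁻¹ := by rw [h.eq]
      _ = b * s * b⁻¹ := by group

theorem isConj_conj (g s : G) : IsConj s (g * s * g⁻¹) := isConj_iff.2 ⟨g, rfl⟩

theorem conj_conj (g k s : G) : g * (k * s * k⁻¹) * g⁻¹ = g * k * s * (g * k)⁻¹ := by group

/-- with two classes of involutions, non-conjugate in the whole group, the subgroup is everything -/
theorem eq_top_of_two_classes [Finite G] (X : Subgroup G) (t u y : G) (ht2 : orderOf t = 2) (hu2 : orderOf u = 2)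
    (htX : t ∈ X) (huX : u ∈ X) (hCt : Subgroup.centralizer ({t} : Set G) ≤ X)
    (cls : ∀ z ∈ X, z * z = 1 → z ≠ 1 → ∃ k ∈ X, k * t * k⁻¹ = z ∨ k * u * k⁻¹ = z)
    (hne : ¬ IsConj t u) (hyu : Commute y u) (htu : Commute t u)
    (htu' : IsConj (t * u) u) (hyu' : IsConj (y * u) u) (hy : ∃ k ∈ X, k * t * k⁻¹ = y)
    (hnc : ∀ c, Commute c u → c * t * c⁻¹ ≠ y)
    (hz : ∀ z, Commute z t → Commute z u → z * z = 1 → z ≠ 1 → z ≠ u → IsConj t z ∨ IsConj t (z * u)) :
    X = ⊤ := by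
  classical
  have t1 : t ≠ 1 := fun h => by rw [h, orderOf_one] at ht2; omega
  have tt : t * t = 1 := by rw [← pow_two, ← ht2, pow_orderOf_eq_one]
  have memT : ∀ g : G, Commute g t → g ∈ X := fun g hg =>
    hCt (Subgroup.mem_centralizer_singleton_iff.2 hg.eq)
  have kind : ∀ z ∈ X, z * z = 1 → z ≠ 1 → IsConj t z → ∃ k ∈ X, k * t * k⁻¹ = z := by
    intro z hzX h1 h2 h3
    obtain ⟨k, hk, e | e⟩ := cls z hzX h1 h2
    · exact ⟨k, hk, e⟩
    · exact absurd (h3.trans (e ▸ isConj_conj k u).symm) hne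
  have centT : ∀ z ∈ X, z * z = 1 → z ≠ 1 → IsConj t z → ∀ g, Commute g z → g ∈ X := by
    intro z hzX h1 h2 h3 g hg
    obtain ⟨k, hk, rfl⟩ := kind z hzX h1 h2 h3
    have hc : Commute (k⁻¹ * g * k) t := by
      have := hg.eq
      show k⁻¹ * g * k * t = t * (k⁻¹ * g * k)
      calc k⁻¹ * g * k * t = k⁻¹ * (g * (k * t * k⁻¹)) * k := by group
        _ = k⁻¹ * (k * t * k⁻¹ * g) * k := by rw [this]
        _ = t * (k⁻¹ * g * k) := by group
    rw [show g = k * (k⁻¹ * g * k) * k⁻¹ by group]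
    exact X.mul_mem (X.mul_mem hk (memT _ hc)) (X.inv_mem hk)
  have sq_conj : ∀ g : G, (g * t * g⁻¹) * (g * t * g⁻¹) = 1 := fun g => by
    rw [show (g * t * g⁻¹) * (g * t * g⁻¹) = g * (t * t) * g⁻¹ by group, tt, mul_one, mul_inv_cancel]
  have ne_conj : ∀ g : G, g * t * g⁻¹ ≠ 1 := fun g h => t1 (conj_eq_one_iff.1 h)
  have memC : ∀ g : G, g * t * g⁻¹ ∈ X → g ∈ X := by
    intro g hg
    obtain ⟨k, hk, e⟩ := kind _ hg (sq_conj g) (ne_conj g) (isConj_conj g t)
    rw [show g = k * (k⁻¹ * g) by group]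
    exact X.mul_mem hk (memT _ (conj_eq_iff.1 e.symm))
  obtain ⟨ky, hky, rfl⟩ := hy
  have centU : ∀ c : G, Commute c u → c ∈ X := by
    intro c hc
    set x := c * (ky * t * ky⁻¹) * c⁻¹ with hx
    suffices x ∈ X by
      have h : (c * ky) * t * (c * ky)⁻¹ ∈ X := by
        rw [show (c * ky) * t * (c * ky)⁻¹ = x by rw [hx]; group]
        exact this
      rw [show c = c * ky * ky⁻¹ by group]
      exact X.mul_mem (memC _ h) (X.inv_mem hky)
    have xu : Commute x u := (hc.mul_left hyu).mul_left hc.inv_left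
    have xx : x * x = 1 := by
      rw [show x = (c * ky) * t * (c * ky)⁻¹ by rw [hx]; group]
      exact sq_conj _
    set d := x * t with hd
    have du : Commute d u := xu.mul_left htu
    have tdt : t * d = d⁻¹ * t := by
      rw [hd, mul_inv_rev, inv_eq_of_mul_eq_one_right tt, inv_eq_of_mul_eq_one_right xx, ← mul_assoc]
    have tpow : ∀ k : ℕ, t * d ^ k = (d ^ k)⁻¹ * t := by
      intro k
      induction k with
      | zero => simp
      | succ k ih =>
        rw [pow_succ, ← mul_assoc, ih, mul_assoc, tdt, ← mul_assoc, ← mul_inv_rev, ← pow_succ', pow_succ]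
    have conjpow : ∀ k : ℕ, d ^ k * t * (d ^ k)⁻¹ = d ^ (2 * k) * t := by
      intro k
      rw [show d ^ (2 * k) = d ^ k * d ^ k by rw [two_mul, pow_add]]
      calc d ^ k * t * (d ^ k)⁻¹ = d ^ k * ((d ^ k) * ((d ^ k)⁻¹ * t)) * (d ^ k)⁻¹ := by group
        _ = d ^ k * ((d ^ k) * (t * d ^ k)) * (d ^ k)⁻¹ := by rw [tpow]
        _ = d ^ k * d ^ k * t := by group
    have xd : x = d * t := by rw [hd, mul_assoc, tt, mul_one]
    rcases Nat.even_or_odd' (orderOf d) with ⟨m, hm | hm⟩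
    swap
    · exfalso
      refine hnc (c⁻¹ * d ^ (m + 1)) (hc.inv_left.mul_left (du.pow_left _)) ?_
      have h : d ^ (m + 1) * t * (d ^ (m + 1))⁻¹ = x := by
        rw [conjpow, xd, show 2 * (m + 1) = orderOf d + 1 by omega, pow_succ, pow_orderOf_eq_one, one_mul]
      calc c⁻¹ * d ^ (m + 1) * t * (c⁻¹ * d ^ (m + 1))⁻¹
          = c⁻¹ * (d ^ (m + 1) * t * (d ^ (m + 1))⁻¹) * c := by group
        _ = c⁻¹ * x * c := by rw [h]
        _ = ky * t * ky⁻¹ := by rw [hx]; group
    have hpos : 0 < orderOf d := orderOf_pos d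
    set z := d ^ m with hzdef
    have zz : z * z = 1 := by rw [hzdef, ← pow_add, show m + m = orderOf d by omega, pow_orderOf_eq_one]
    have z1 : z ≠ 1 := pow_ne_one_of_lt_orderOf (by omega) (by omega)
    have zt : Commute z t := by
      show z * t = t * z
      rw [hzdef, tpow, ← hzdef, inv_eq_of_mul_eq_one_right zz]
    have zu : Commute z u := du.pow_left m
    have xz : Commute x z := by
      rw [xd]
      exact ((Commute.refl d).pow_right m).mul_left zt.symm
    have zX : z ∈ X := memT z zt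
    by_cases hzu : z = u
    · exfalso
      rcases Nat.even_or_odd' m with ⟨j, hj | hj⟩
      · apply hne
        have h : d ^ j * t * (d ^ j)⁻¹ = t * u := by
          rw [conjpow, ← hj, ← hzdef, hzu, htu.eq]
        exact (h ▸ isConj_conj (d ^ j) t).trans htu'
      · apply hne
        have h : d ^ (j + 1) * t * (d ^ (j + 1))⁻¹ = x * u := by
          rw [conjpow, show 2 * (j + 1) = m + 1 by omega, pow_succ, ← hzdef, hzu, mul_assoc, ← xd, xu.eq]
        have h2 : x * u = c * (ky * t * ky⁻¹ * u) * c⁻¹ := by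
          calc x * u = c * (ky * t * ky⁻¹) * (c⁻¹ * u) := by rw [hx]; group
            _ = c * (ky * t * ky⁻¹) * (u * c⁻¹) := by rw [hc.inv_left.eq]
            _ = c * (ky * t * ky⁻¹ * u) * c⁻¹ := by group
        exact ((h ▸ isConj_conj (d ^ (j + 1)) t).trans (h2 ▸ (isConj_conj c _).symm)).trans hyu'
    rcases hz z zt zu zz z1 hzu with h | h
    · exact centT z zX zz z1 h x xz
    · have huu : u * u = 1 := by rw [← pow_two, ← hu2, pow_orderOf_eq_one]
      refine centT (z * u) (X.mul_mem zX huX) ?_ ?_ h x (xz.mul_right xu)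
      · rw [zu.symm.mul_mul_mul_comm, zz, huu, one_mul]
      · intro e
        exact hzu (mul_right_cancel (e.trans huu.symm))
  by_contra hX
  have hev : Even (Nat.card X) :=
    even_iff_two_dvd.2 (by
      have h := orderOf_dvd_natCard (⟨t, htX⟩ : X)
      rwa [Subgroup.orderOf_mk, ht2] at h)
  have hSE : Cfsg.IsStronglyEmbedded X := by
    refine ⟨hX, hev, fun g hg => ?_⟩
    by_contra hodd
    rw [Nat.not_odd_iff_even, even_iff_two_dvd] at hodd
    haveI : Fact (Nat.Prime 2) := ⟨Nat.prime_two⟩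
    obtain ⟨z, hz2⟩ := exists_prime_orderOf_dvd_card' 2 hodd
    have zz : (z : G) * z = 1 := by
      rw [← pow_two, ← hz2, ← Subgroup.orderOf_coe, pow_orderOf_eq_one]
    have z1 : (z : G) ≠ 1 := fun h => by
      rw [← Subgroup.orderOf_coe, h, orderOf_one] at hz2; omega
    obtain ⟨hzX, w, hwX, hw⟩ := z.2
    change g * w * g⁻¹ = (z : G) at hw
    have ww : w * w = 1 := by
      rw [← hw, show g * w * g⁻¹ * (g * w * g⁻¹) = g * (w * w) * g⁻¹ by group, conj_eq_one_iff] at zz
      exact zz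
    have w1 : w ≠ 1 := fun h => z1 (by rw [← hw, h, mul_one, mul_inv_cancel])
    obtain ⟨k1, hk1, e1 | e1⟩ := cls _ hzX zz z1 <;> obtain ⟨k2, hk2, e2 | e2⟩ := cls w hwX ww w1
    all_goals rw [← e1, ← e2] at hw
    all_goals rw [conj_conj] at hw
    · refine hg ?_
      rw [show g = k1 * (k1⁻¹ * (g * k2)) * k2⁻¹ by group]
      exact X.mul_mem (X.mul_mem hk1 (memT _ (conj_eq_iff.1 hw))) (X.inv_mem hk2)
    · exact hne (((hw ▸ isConj_conj (g * k2) u).trans (isConj_conj k1 t).symm).symm)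
    · exact hne ((hw ▸ isConj_conj (g * k2) t).trans (isConj_conj k1 u).symm)
    · refine hg ?_
      rw [show g = k1 * (k1⁻¹ * (g * k2)) * k2⁻¹ by group]
      exact X.mul_mem (X.mul_mem hk1 (centU _ (conj_eq_iff.1 hw))) (X.inv_mem hk2)
  exact hne (Cfsg.Agent.Fusion.SEPairs.involutions_conj hSE ht2 hu2)

end Cfsg.Agent.HSTwoLocal
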