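import Cfsg.Agent.Lib.Spor.HSTwoLocal.Glue
import Cfsg.Agent.Lib.Spor.HSTwoLocal.FusionChecks
import Cfsg.Agent.Lib.Spor.HSTwoLocal.TwoClasses

/-!
The subgroup generated by the centralizer and the twist is the whole group.
-/

set_option autoImplicit false
set_option maxRecDepth 100000
set_option maxHeartbeats 1000000
set_option linter.style.haveILetI false

namespace Cfsg.Agent.HSTwoLocal

open Local.FS.Hundred (code code_injective idC)

attribute [local irreducible] mu code idC letL sigC plL pl plC mkPerm mg aL rL coreL repL tC uC vC invT cwev cwev2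

theorem two_pow_dvd {a b : ℕ} (h : a = 2 ^ 9 * b) : 2 ^ 9 ∣ a := ⟨b, h⟩

theorem fact_card : (44352000 : ℕ).factorization 2 = 9 := by
  rw [show (44352000 : ℕ) = 2 ^ 9 * 86625 by norm_num, Nat.factorization_mul (by norm_num) (by norm_num),
    Nat.Prime.factorization_pow Nat.prime_two]
  simp [Nat.factorization_eq_zero_of_not_dvd (show ¬(2 ∣ 86625) by norm_num)]

/-- a commuting pair of order three in a group of order 7680 is dependent -/
theorem pair_three {K : Type*} [Group K] [Finite K] (hK : Nat.card K = 7680) {a b : K} (hab : Commute a b)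
    (ha : a ^ 3 = 1) (hb : b ^ 3 = 1) (ha1 : a ≠ 1) : b = 1 ∨ b = a ∨ b = a * a := by
  classical
  haveI : Fact (Nat.Prime 3) := ⟨Nat.prime_three⟩
  set E := Subgroup.closure ({a, b} : Set K) with hE
  have hcomm : ∀ x ∈ ({a, b} : Set K), ∀ y ∈ ({a, b} : Set K), x * y = y * x := by
    rintro x (rfl | rfl) y (rfl | rfl)
    exacts [rfl, hab.eq, hab.symm.eq, rfl]
  have hcE : ∀ x ∈ E, ∀ y ∈ E, Commute x y := fun x hx y hy =>
    congrArg Subtype.val ((Subgroup.isMulCommutative_closure hcomm).1.comm ⟨x, hx⟩ ⟨y, hy⟩)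
  have hexp : ∀ x ∈ E, x ^ 3 = 1 := by
    intro x hx
    induction hx using Subgroup.closure_induction with
    | mem x hx => rcases hx with rfl | rfl <;> assumption
    | one => exact one_pow 3
    | mul x y hx hy ihx ihy => rw [(hcE x hx y hy).mul_pow, ihx, ihy, one_mul]
    | inv x _ ih => rw [inv_pow, ih, inv_one]
  have hp : IsPGroup 3 E := fun x => ⟨1, Subtype.ext (by simpa using hexp x x.2)⟩
  obtain ⟨k, hk⟩ := IsPGroup.iff_card.1 hp
  have hd : 3 ^ k ∣ 7680 := hk ▸ hK ▸ Subgroup.card_subgroup_dvd_card E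
  have hk1 : k ≤ 1 := by
    by_contra h
    have := (pow_dvd_pow 3 (show 2 ≤ k by omega)).trans hd
    norm_num at this
  have hoa : orderOf a = 3 := orderOf_eq_prime ha ha1
  have hle : Subgroup.zpowers a ≤ E := Subgroup.zpowers_le.2 (Subgroup.subset_closure (Or.inl rfl))
  have heq : Subgroup.zpowers a = E := Subgroup.eq_of_le_of_card_ge hle (by
    rw [Nat.card_zpowers, hoa, hk]
    calc 3 ^ k ≤ 3 ^ 1 := pow_le_pow_right₀ (by norm_num) hk1
      _ = 3 := pow_one 3)
  have hbz : b ∈ Subgroup.zpowers a := heq ▸ Subgroup.subset_closure (Or.inr rfl)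
  rw [mem_zpowers_iff_mem_range_orderOf, hoa, Finset.mem_image] at hbz
  obtain ⟨i, hi, rfl⟩ := hbz
  rw [Finset.mem_range] at hi
  interval_cases i <;> simp [pow_succ]

/-- a two-element of a group with a subgroup of full two-part is conjugate into it -/
theorem conj_into {K : Type*} [Group K] [Finite K] (hK : Nat.card K = 44352000) (C : Subgroup K)
    (hC : Nat.card C = 7680) {z : K} (hz : z * z = 1) : ∃ g : K, g * z * g⁻¹ ∈ C := by
  haveI : Fact (Nat.Prime 2) := ⟨Nat.prime_two⟩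
  obtain ⟨S, hS⟩ := Sylow.exists_subgroup_card_pow_prime 2 (G := C) (n := 9)
    (hC.symm ▸ two_pow_dvd (b := 15) (by norm_num))
  let P : Sylow 2 K := Sylow.ofCard (S.map C.subtype)
    (by rw [Subgroup.card_map_of_injective C.subtype_injective, hS, hK, fact_card])
  have hzp : IsPGroup 2 (Subgroup.zpowers z) := fun x => ⟨1, by
    obtain ⟨n, hn⟩ := Subgroup.mem_zpowers_iff.1 x.2
    apply Subtype.ext
    rw [pow_one, Subgroup.coe_pow, ← hn, Subgroup.coe_one, ← zpow_natCast (z ^ n), ← zpow_mul, mul_comm, zpow_mul,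
      zpow_natCast, pow_two, hz, one_zpow]⟩
  obtain ⟨Q, hQ⟩ := hzp.exists_le_sylow
  obtain ⟨g, hg⟩ := MulAction.exists_smul_eq K Q P
  refine ⟨g, ?_⟩
  have h1 : g * z * g⁻¹ ∈ (g • Q : Sylow 2 K) :=
    ⟨z, hQ (Subgroup.mem_zpowers z), by simp [MulAut.conj]⟩
  rw [hg] at h1
  have h2 : g * z * g⁻¹ ∈ S.map C.subtype := h1
  obtain ⟨s, -, e⟩ := h2
  exact e ▸ s.2

namespace Lifts

variable {G : Type*} [Group G] {L : Loc G} {F : Lifts L}

namespace Twist

variable {φ : ↥(Subgroup.centralizer ({L.t} : Set G)) →* Equiv.Perm (Fin 100)} (T : F.Twist) (M : F.IsModel φ)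

include M

theorem scan_mem [Finite G] (hS : L.Std) (h : ↥(Subgroup.centralizer ({L.t} : Set G))) :
    scanOK (code (φ h)) = true := by
  obtain ⟨m, hm, r, hr, e⟩ := M.cd_mem hS h
  have hlen : repL.length = 120 ∧ coreL.length = 64 :=
    ⟨by rw [← rep_facts.2.2.2, List.length_map, rep_facts.1], core_inj.2⟩
  have h1 := List.all_eq_true.1 scan_all _ (List.getElem_mem (hlen.1.symm ▸ hm))
  have h2 := List.all_eq_true.1 h1 _ (List.getElem_mem (hlen.2.symm ▸ hr))
  rw [e, List.getD_eq_getElem _ _ (hlen.1.symm ▸ hm), List.getD_eq_getElem _ _ (hlen.2.symm ▸ hr)]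
  exact h2

theorem x_eq_top [Finite G] (hS : L.Std) : T.X = ⊤ ∧ Nonempty (↥T.X ≃* ↥Cfsg.Spor.HS) := by
  classical
  obtain ⟨ι, hinj, hrange, hφ, -, hcard, -, hiso⟩ := T.exists_embed M hS
  refine ⟨?_, hiso⟩
  have cinj : ∀ {a b : ↥T.X}, code (ι a) = code (ι b) → a = b := fun h => hinj (code_injective h)
  have cmul : ∀ a b : ↥T.X, code (ι (a * b)) = mu (code (ι a)) (code (ι b)) := fun a b => by
    rw [map_mul, code_mu]
  have cone : code (ι 1) = idC := by rw [map_one, code_one]
  -- letters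
  have hf : ∀ k, ∃ x : ↥T.X, k < 12 → ι x = pl k := by
    intro k
    by_cases hk : k < 12
    · obtain ⟨x, hx⟩ : pl k ∈ ι.range := hrange ▸ Subgroup.subset_closure ⟨k, hk, rfl⟩
      exact ⟨x, fun _ => hx⟩
    · exact ⟨1, fun h => absurd h hk⟩
  choose f hf using hf
  have word : ∀ w : List ℕ, (∀ k ∈ w, k < 12) → code (ι (wev f w)) = cwev2 w := by
    intro w hw
    rw [← (cwev2_code w hw).1]
    congr 1
    rw [wev, map_list_prod, List.map_map, wev]
    congr 1
    exact List.map_congr_left fun k hk => hf k (hw k hk)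
  have conjw : ∀ (w : List ℕ) (p q : ↥T.X), (∀ k ∈ w, k < 12) →
      mu (code (ι p)) (cwev2 w) = mu (cwev2 w) (code (ι q)) → p = wev f w * q * (wev f w)⁻¹ := by
    intro w p q hw e
    rw [eq_mul_inv_iff_mul_eq]
    exact cinj (by rw [cmul, cmul, word w hw, e])
  -- elements of the centralizer
  let inX : ↥(Subgroup.centralizer ({L.t} : Set G)) → ↥T.X := fun h => ⟨h, T.cent_le_X h.2⟩
  have chom : ∀ h, code (ι (inX h)) = code (φ h) := fun h => by rw [hφ h]
  obtain ⟨btC, bu, bv, bl, bl'⟩ := base_facts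
  obtain ⟨whv, wtu, wtv, wuu, wvv, u1, v1, wut, wvt⟩ := word_facts
  have wmem : ∀ l : List ℕ, (∀ k ∈ l, k ∈ fuW ++ vW ++ threeW) → code (φ (wev F.gH l)) = cwev l := fun l hl =>
    M.wev_eq l fun k hk => bl k (hl k hk)
  set th := L.toH _ (L.inH_psi (show 2 < 64 by decide)) with hth
  have tG : (th : G) = L.t := L.co.two
  set uh := wev F.gH fuW with huh
  set vh := wev F.gH vW with hvh
  set t : ↥T.X := inX th with ht
  set u : ↥T.X := inX uh with hu
  set v : ↥T.X := inX vh with hv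
  have ct : code (ι t) = tC := by rw [ht, chom, hth, M.cd_psi (show 2 < 64 by decide), btC]
  have cu : code (ι u) = uC := by rw [hu, chom, huh, wmem _ (fun k hk => by simp [hk]), bu]
  have cv : code (ι v) = vC := by rw [hv, chom, hvh, wmem _ (fun k hk => by simp [hk]), bv]
  have uu : u * u = 1 := cinj (by rw [cmul, cu, cone, wuu])
  have u_ne : u ≠ 1 := fun h => u1 (by rw [← cu, h, cone])
  have ut : Commute u t := cinj (by rw [cmul, cmul, cu, ct, wut])
  have vt : Commute v t := cinj (by rw [cmul, cmul, cv, ct, wvt])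
  set h := wev f hvW with hh
  have hvw : ∀ k ∈ hvW, k < 12 := fun k hk => bl' k (by simp [hk])
  have ehv : v = h * u * h⁻¹ := conjw hvW v u hvw (by rw [cv, cu, whv])
  have etu : t * u = wev f tuW * u * (wev f tuW)⁻¹ :=
    conjw tuW _ u (fun k hk => bl' k (by simp [hk])) (by rw [cmul, ct, cu, wtu])
  have etv : t * v = wev f tvW * u * (wev f tvW)⁻¹ :=
    conjw tvW _ u (fun k hk => bl' k (by simp [hk])) (by rw [cmul, ct, cv, cu, wtv])
  have htG : (t : G) = L.t := tG
  have memC : ∀ z : G, Commute z L.t → ∃ zh : ↥(Subgroup.centralizer ({L.t} : Set G)), (zh : G) = z := fun z hz =>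
    ⟨⟨z, Subgroup.mem_centralizer_singleton_iff.2 hz.eq⟩, rfl⟩
  have two_t : orderOf (t : G) = 2 := by
    refine orderOf_eq_prime ?_ ?_
    · have : t * t = 1 := cinj (by
        rw [cmul, ct, cone, ← btC, core_mul ⟨2, by norm_num⟩ ⟨2, by norm_num⟩]
        show coreL.getD (rmul 2 2) 0 = idC
        exact sq_two)
      rw [pow_two]
      exact congrArg Subtype.val this
    · intro h0
      exact tne (by rw [← ct, Subtype.ext (a1 := t) (a2 := 1) h0, cone])
  have two_u : orderOf (u : G) = 2 := orderOf_eq_prime (by rw [pow_two]; exact congrArg Subtype.val uu)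
    fun h0 => u_ne (Subtype.ext h0)
  have hne : ¬ IsConj (t : G) (u : G) := by
    intro hc
    obtain ⟨g, hg⟩ := isConj_iff.1 hc
    obtain ⟨au, bu', ab, a3, b3, a1, b1, bna, bna2⟩ := nine_facts
    set a := wev f nineW.1
    set b := wev f nineW.2
    have ca : code (ι a) = cwev2 nineW.1 := word nineW.1 fun k hk => bl' k (by simp [hk])
    have cb : code (ι b) = cwev2 nineW.2 := word nineW.2 fun k hk => bl' k (by simp [hk])
    have back : ∀ x : ↥T.X, mu (code (ι x)) uC = mu uC (code (ι x)) →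
        ∃ xh : ↥(Subgroup.centralizer ({L.t} : Set G)), (xh : G) = g⁻¹ * x * g := by
      intro x hx
      have hxu : (x : G) * u = u * x := congrArg Subtype.val (cinj (by rw [cmul, cmul, cu, hx]) : x * u = u * x)
      refine memC _ ?_
      rw [← htG]
      show g⁻¹ * x * g * t = t * (g⁻¹ * x * g)
      calc g⁻¹ * x * g * t = g⁻¹ * ((x : G) * (g * t * g⁻¹)) * g := by group
        _ = g⁻¹ * ((g * t * g⁻¹) * x) * g := by rw [hg, hxu]
        _ = t * (g⁻¹ * x * g) := by group
    obtain ⟨ah, eah⟩ := back a (by rw [ca, au])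
    obtain ⟨bh, ebh⟩ := back b (by rw [cb, bu'])
    have cj : ∀ x y : G, g⁻¹ * x * g * (g⁻¹ * y * g) = g⁻¹ * (x * y) * g := fun x y => by group
    have cj1 : ∀ x : G, g⁻¹ * x * g = 1 → x = 1 := fun x hx => by
      rw [show x = g * (g⁻¹ * x * g) * g⁻¹ by group, hx, mul_one, mul_inv_cancel]
    have hab : (a : G) * b = b * a := congrArg Subtype.val (cinj (by rw [cmul, cmul, ca, cb, ab]) : a * b = b * a)
    have ha3 : (a : G) * (a * a) = 1 :=
      congrArg Subtype.val (cinj (by rw [cmul, cmul, ca, a3, cone]) : a * (a * a) = 1)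
    have hb3 : (b : G) * (b * b) = 1 :=
      congrArg Subtype.val (cinj (by rw [cmul, cmul, cb, b3, cone]) : b * (b * b) = 1)
    have hah : ah ^ 3 = 1 := Subtype.ext (by
      rw [pow_succ', pow_two]; show (ah : G) * (ah * ah) = 1
      rw [eah, cj, cj, ha3, mul_one, inv_mul_cancel])
    have hbh : bh ^ 3 = 1 := Subtype.ext (by
      rw [pow_succ', pow_two]; show (bh : G) * (bh * bh) = 1
      rw [ebh, cj, cj, hb3, mul_one, inv_mul_cancel])
    rcases pair_three card_cent (a := ah) (b := bh)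
        (Subtype.ext (by show (ah : G) * bh = bh * ah; rw [eah, ebh, cj, cj, hab])) hah hbh
        (fun e => a1 (by rw [← ca, show a = 1 from Subtype.ext (cj1 _ (eah ▸ congrArg Subtype.val e)), cone]))
      with e | e | e
    · exact b1 (by rw [← cb, show b = 1 from Subtype.ext (cj1 _ (ebh ▸ congrArg Subtype.val e)), cone])
    · have hba : b = a := Subtype.ext
        (mul_left_cancel (mul_right_cancel (ebh ▸ eah ▸ congrArg Subtype.val e)))
      exact bna (by rw [← cb, ← ca, hba])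
    · have e' : (bh : G) = ah * ah := congrArg Subtype.val e
      rw [ebh, eah, cj] at e'
      have hba : b = a * a := Subtype.ext (mul_left_cancel (mul_right_cancel e'))
      exact bna2 (by rw [← cb, ← ca, ← cmul, hba])
  have rowT : ∀ p ∈ invT, ∀ z : ↥T.X, code (ι z) = p.1 →
      ∃ k : ↥T.X, z = k * (bif p.2.1 then t else u) * k⁻¹ := by
    intro p hp z hz
    have hr := List.all_eq_true.1 fus_rows p hp
    simp only [fusRow, Bool.and_eq_true, List.all_eq_true, Nat.blt_eq, Nat.beq_eq] at hr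
    refine ⟨_, conjw p.2.2 z _ hr.1 ?_⟩
    rw [hz, hr.2]
    cases p.2.1 <;> simp [ct, cu]
  have isT_conj : ∀ z : ↥T.X, isT (code (ι z)) = true → IsConj (t : G) (z : G) := by
    intro z hz
    simp only [isT, List.any_eq_true, Bool.and_eq_true, Nat.beq_eq] at hz
    obtain ⟨p, hp, hp2, hp1⟩ := hz
    obtain ⟨k, e⟩ := rowT p hp z hp1.symm
    rw [hp2] at e
    exact isConj_iff.2 ⟨k, (congrArg Subtype.val e).symm⟩
  refine eq_top_of_two_classes T.X (t : G) (u : G) ((h⁻¹ * t * h : ↥T.X) : G) two_t two_u t.2 u.2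
    (htG ▸ T.cent_le_X) ?_ hne ?_ (congrArg Subtype.val ut.symm.eq) ?_ ?_ ?_ ?_ ?_
  · intro z hzX hzz hz1
    obtain ⟨g, hg⟩ := conj_into hcard ((Subgroup.centralizer ({L.t} : Set G)).subgroupOf T.X)
      (by rw [Nat.card_congr (Subgroup.subgroupOfEquivOfLe T.cent_le_X).toEquiv, card_cent]) (z := ⟨z, hzX⟩)
      (Subtype.ext hzz)
    set z0 : ↥T.X := g * ⟨z, hzX⟩ * g⁻¹ with hz0
    have c0 : code (ι z0) = code (φ ⟨(z0 : G), hg⟩) := chom ⟨(z0 : G), hg⟩
    have zz0 : z0 * z0 = 1 := by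
      rw [hz0, show g * ⟨z, hzX⟩ * g⁻¹ * (g * ⟨z, hzX⟩ * g⁻¹) = g * ((⟨z, hzX⟩ : ↥T.X) * ⟨z, hzX⟩) * g⁻¹ by group,
        show (⟨z, hzX⟩ : ↥T.X) * ⟨z, hzX⟩ = 1 from Subtype.ext hzz, mul_one, mul_inv_cancel]
    have hs := scan_mem M hS ⟨(z0 : G), hg⟩
    rw [← c0] at hs
    simp only [scanOK, ← cmul, zz0, cone, Nat.beq_refl, cond_true, Bool.and_eq_true, Bool.or_eq_true,
      List.any_eq_true, Nat.beq_eq] at hs
    rcases hs.1 with e | ⟨⟨p, hp, e⟩, -⟩
    · exfalso
      have h0 : z0 = 1 := cinj (e.trans cone.symm)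
      rw [hz0, conj_eq_one_iff] at h0
      exact hz1 (congrArg Subtype.val h0)
    · obtain ⟨k, ek⟩ := rowT p hp z0 e.symm
      refine ⟨(g⁻¹ * k : ↥T.X), (g⁻¹ * k).2, ?_⟩
      have back : (⟨z, hzX⟩ : ↥T.X) = g⁻¹ * k * (bif p.2.1 then t else u) * (g⁻¹ * k)⁻¹ := by
        rw [show g⁻¹ * k * (bif p.2.1 then t else u) * (g⁻¹ * k)⁻¹
          = g⁻¹ * (k * (bif p.2.1 then t else u) * k⁻¹) * g by group, ← ek, hz0]
        group
      cases hb : p.2.1 <;> rw [hb] at back
      · exact Or.inr (congrArg Subtype.val back).symm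
      · exact Or.inl (congrArg Subtype.val back).symm
  · refine congrArg Subtype.val (?_ : h⁻¹ * t * h * u = u * (h⁻¹ * t * h))
    rw [show u = h⁻¹ * v * h by rw [ehv]; group]
    calc h⁻¹ * t * h * (h⁻¹ * v * h) = h⁻¹ * (t * v) * h := by group
      _ = h⁻¹ * (v * t) * h := by rw [vt.eq]
      _ = h⁻¹ * v * h * (h⁻¹ * t * h) := by group
  · exact isConj_iff.2 ⟨((wev f tuW)⁻¹ : ↥T.X), congrArg Subtype.val
      (show (wev f tuW)⁻¹ * (t * u) * ((wev f tuW)⁻¹)⁻¹ = u by rw [etu]; group)⟩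
  · exact isConj_iff.2 ⟨((wev f tvW)⁻¹ * h : ↥T.X), congrArg Subtype.val
      (show (wev f tvW)⁻¹ * h * (h⁻¹ * t * h * u) * ((wev f tvW)⁻¹ * h)⁻¹ = u by
        rw [show (wev f tvW)⁻¹ * h * (h⁻¹ * t * h * u) * ((wev f tvW)⁻¹ * h)⁻¹
          = (wev f tvW)⁻¹ * (t * (h * u * h⁻¹)) * wev f tvW by group, ← ehv, etv]
        group)⟩
  · exact ⟨(h⁻¹ : ↥T.X), (h⁻¹).2, congrArg Subtype.val (show h⁻¹ * t * (h⁻¹)⁻¹ = h⁻¹ * t * h by rw [inv_inv])⟩
  · intro c hcu hct
    obtain ⟨t3u, t3ne, t3cube⟩ := three_facts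
    set a := wev F.gH threeW with ha
    have ca : code (φ a) = cwev threeW := wmem _ fun k hk => by simp [hk]
    have hau : (a : G) * u = u * a := congrArg Subtype.val (show a * uh = uh * a from M.cd_eq (by
      rw [map_mul, map_mul, code_mu, code_mu, ca, huh, wmem _ (fun k hk => by simp [hk]), bu, t3u]))
    have hat : (a : G) * t = t * a := by
      rw [htG]; exact Subgroup.mem_centralizer_singleton_iff.1 a.2
    set k := (h : G) * c with hk
    have e1 : k * (t : G) * k⁻¹ = t := by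
      have hct' : c * (t : G) * c⁻¹ = (h : G)⁻¹ * t * h := hct
      calc k * (t : G) * k⁻¹ = (h : G) * (c * t * c⁻¹) * (h : G)⁻¹ := by rw [hk]; group
        _ = t := by rw [hct']; group
    have e2 : k * (u : G) * k⁻¹ = v := by
      calc k * (u : G) * k⁻¹ = (h : G) * (c * u * c⁻¹) * (h : G)⁻¹ := by rw [hk]; group
        _ = (h : G) * u * (h : G)⁻¹ := by rw [hcu.eq]; group
        _ = v := (congrArg Subtype.val ehv).symm
    set w := k * (a : G) * k⁻¹ with hw
    have cw : ∀ s r : G, k * s * k⁻¹ = r → (a : G) * s = s * a → w * r = r * w := by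
      rintro s r rfl e
      calc w * (k * s * k⁻¹) = k * ((a : G) * s) * k⁻¹ := by rw [hw]; group
        _ = k * (s * a) * k⁻¹ := by rw [e]
        _ = k * s * k⁻¹ * w := by rw [hw]; group
    obtain ⟨wh, ewh⟩ := memC w (by rw [← htG]; exact cw _ _ e1 hat)
    have hs := scan_mem M hS wh
    have wv : wh * vh = vh * wh := Subtype.ext (by
      show (wh : G) * v = v * wh
      rw [ewh]; exact cw _ _ e2 hau)
    have w3 : wh * (wh * wh) = 1 := Subtype.ext (by
      show (wh : G) * (wh * wh) = 1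
      have a3 : (a : G) * (a * a) = 1 := congrArg Subtype.val (show a * (a * a) = 1 from M.cd_eq (by
        rw [map_mul, map_mul, map_one, code_mu, code_mu, ca, code_one, t3cube]))
      rw [ewh, hw, show k * (a : G) * k⁻¹ * (k * a * k⁻¹ * (k * a * k⁻¹)) = k * ((a : G) * (a * a)) * k⁻¹ by group,
        a3, mul_one, mul_inv_cancel])
    have cwv : mu (code (φ wh)) vC = mu vC (code (φ wh)) := by
      rw [← cv, hv, chom, ← code_mu, ← code_mu, ← map_mul, ← map_mul, wv]
    have cw3 : mu (code (φ wh)) (mu (code (φ wh)) (code (φ wh))) = idC := by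
      rw [← code_mu, ← code_mu, ← map_mul, ← map_mul, w3, map_one, code_one]
    simp only [scanOK, cwv, cw3, Nat.beq_refl, cond_true, Bool.and_eq_true, Nat.beq_eq] at hs
    have h1 : wh = 1 := M.cd_eq (by rw [hs.2, map_one, code_one])
    have h1' : w = 1 := by rw [← ewh, h1]; rfl
    refine t3ne ?_
    rw [← ca, show a = 1 from Subtype.ext (by
      rw [show (a : G) = k⁻¹ * w * k by rw [hw]; group, h1', mul_one, inv_mul_cancel]; rfl), map_one, code_one]
  · intro z hzt hzu hzz hz1 hzne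
    obtain ⟨zh, rfl⟩ := memC z (htG ▸ hzt)
    have hs := scan_mem M hS zh
    have e1 : zh * zh = 1 := Subtype.ext hzz
    have e2 : zh * uh = uh * zh := Subtype.ext hzu
    have czz : mu (code (φ zh)) (code (φ zh)) = idC := by rw [← code_mu, ← map_mul, e1, map_one, code_one]
    have czu : mu (code (φ zh)) uC = mu uC (code (φ zh)) := by
      rw [← cu, hu, chom, ← code_mu, ← code_mu, ← map_mul, ← map_mul, e2]
    simp only [scanOK, czz, czu, Nat.beq_refl, cond_true, Bool.and_eq_true, Bool.or_eq_true,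
      Nat.beq_eq] at hs
    rcases hs.1 with e | ⟨-, (e | e) | e⟩
    · exact absurd (congrArg Subtype.val (M.cd_eq (h := 1) (by rw [e, map_one, code_one]) : zh = 1)) hz1
    · exact absurd (congrArg Subtype.val (M.cd_eq (h := uh) (by rw [e, ← cu, hu, chom]) : zh = uh)) hzne
    · exact Or.inl (isT_conj (inX zh) (by rw [chom]; exact e))
    · refine Or.inr (isT_conj (inX zh * u) ?_)
      rw [cmul, chom, cu, czu]; exact e

end Twist

end Lifts

end Cfsg.Agent.HSTwoLocal
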