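import Cfsg.Agent.Lib.Spor.HSTwoLocal.LiftFacts

/-!
Relator words for the centralizer of the involution.
-/

set_option autoImplicit false
set_option maxRecDepth 100000

namespace Cfsg.Agent.HSTwoLocal

/-- the trivial words -/
def trivW : List (List ℕ) := [
  [1, 0],
  [0, 1],
  [2, 2],
  [3, 3],
  [4, 4],
  [5, 5],
  [7, 6],
  [6, 7],
  [9, 8],
  [8, 9],
  [10, 10]]

/-- relators inside the 2-core -/
def coreW : List (List ℕ) := [
  [0, 0, 0, 0],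
  [2, 2],
  [3, 3],
  [4, 4],
  [5, 5],
  [0, 0, 4, 2, 4, 2],
  [0, 0, 5, 3, 5, 3],
  [2, 3, 2, 3],
  [4, 5, 4, 5],
  [2, 5, 2, 5],
  [3, 4, 3, 4],
  [0, 2, 1, 2],
  [0, 3, 1, 3],
  [0, 4, 1, 4],
  [0, 5, 1, 5]]

/-- action of the first two generators on the 2-core -/
def conjD : List (ℕ × ℕ × List ℕ) := [
  (6, 0, [1]),
  (6, 2, [3, 1, 1]),
  (6, 3, [3, 2]),
  (6, 4, [5, 4]),
  (6, 5, [4]),
  (8, 0, [1]),
  (8, 2, [4, 2, 1, 1, 1]),
  (8, 3, [5, 3, 1]),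
  (8, 4, [5, 4, 3, 1, 1, 1]),
  (8, 5, [4, 3, 2, 1, 1, 1])]

/-- action of the odd involution on the 2-core -/
def conjX : List (ℕ × ℕ × List ℕ) := [
  (10, 0, [1, 1, 1]),
  (10, 2, [3, 1, 1]),
  (10, 3, [2, 1, 1]),
  (10, 4, [5]),
  (10, 5, [4])]

/-- the word of a conjugation relator -/
def conjWord (p : ℕ × ℕ × List ℕ) : List ℕ := [p.1, p.2.1, ivT.getD p.1 0] ++ p.2.2

/-- the tail of the relator for the square of the product -/
def sqTail : ℕ → List ℕ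
  | 0 => [4, 2, 1]
  | 1 => [4, 2, 1, 1]
  | 2 => [4, 2, 1, 1, 1]
  | _ => [4, 2]

/-- the commutator word -/
def commW : List ℕ := uW ++ ([6] ++ uW ++ [7]) ++ winv uW ++ winv ([6] ++ uW ++ [7])

/-- relators of the centralizer -/
def relH : List (List ℕ) :=
  trivW ++ coreW ++ conjD.map conjWord ++ conjX.map conjWord ++
    [[6, 6, 6], [8, 8, 8, 8, 8], [10, 10], [10, 6, 10, 6], [10, 8, 10] ++ winv conjW, [6, 8, 6, 8] ++ sqTail 0, commW]

/-- relators of the even part -/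
def relK (j : ℕ) : List (List ℕ) :=
  trivW ++ coreW ++ conjD.map conjWord ++ [[6, 6, 6], [8, 8, 8, 8, 8], [6, 8, 6, 8] ++ sqTail j, commW, [10]]

theorem core_facts : ∀ l ∈ coreW, (∀ k ∈ l, k < 6) ∧ wcC l = 0 := by decide +kernel

theorem conj_facts : ∀ p ∈ conjD ++ conjX, p.1 < 11 ∧ p.2.1 < 6 ∧ (∀ k ∈ p.2.2, k < 6) ∧
    rmul (appT (ltT p.1) (lgC.getD p.2.1 0)) (wcC p.2.2) = 0 := by decide +kernel

theorem sq_facts : ∀ j : Fin 4, (∀ k ∈ sqTail j.1, k < 6) ∧ rmul (rmul kcode j.1) (wcC (sqTail j.1)) = 0 := by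
  decide +kernel

theorem triv_facts : ∀ l ∈ trivW, ∃ g < 11, l = [ivT.getD g 0, g] := by decide +kernel

end Cfsg.Agent.HSTwoLocal
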