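import Cfsg.Agent.Lib.Spor.HSTwoLocal.Lifts
import Cfsg.Agent.Lib.Spor.HSTwoLocal.WordData
import Cfsg.Agent.Lib.Spor.HSTwoLocal.CertH
import Cfsg.Agent.Lib.Spor.HSTwoLocal.CertK1
import Cfsg.Agent.Lib.Spor.HSTwoLocal.CertK2
import Cfsg.Agent.Lib.Spor.HSTwoLocal.CertK3

/-!
The relations of the centralizer of the involution, and its order.
-/

set_option autoImplicit false
set_option maxRecDepth 100000
set_option maxHeartbeats 1000000
set_option linter.style.haveILetI false

namespace Cfsg.Agent.HSTwoLocal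

open Cfsg.Agent.Spor.PC

/-- closing a list under a property stable by products -/
theorem clos_pred {P : ℕ → Prop} (hmul : ∀ m n, P m → P n → P (omul m n)) {gens : List ℕ} (hg : ∀ g ∈ gens, P g) :
    ∀ n acc, (∀ x ∈ acc, P x) → ∀ x ∈ closG gens n acc, P x
  | 0, _, h, x, hx => h x hx
  | n + 1, acc, h, x, hx => by
    have hstep : ∀ x ∈ closStep gens acc, P x := by
      have inner : ∀ (gs : List ℕ) (a : ℕ), P a → (∀ g ∈ gs, P g) → ∀ S, (∀ x ∈ S, P x) → ∀ y ∈ gs.foldl
          (fun S g => bif S.elem (omul a g) then S else S ++ [omul a g]) S, P y := by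
        intro gs a ha
        induction gs with
        | nil => exact fun _ S hS => hS
        | cons g gs ihg =>
          intro hgs S hS
          rw [List.foldl_cons]
          refine ihg (fun z hz => hgs z (List.mem_cons_of_mem _ hz)) _ ?_
          intro y hy
          cases he : S.elem (omul a g)
          · rw [he] at hy
            rcases List.mem_append.1 hy with hy | hy
            · exact hS y hy
            · rw [List.mem_singleton.1 hy]
              exact hmul _ _ ha (hgs g (List.mem_cons_self ..))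
          · rw [he] at hy; exact hS y hy
      have key : ∀ (l : List ℕ), (∀ x ∈ l, P x) → ∀ S, (∀ x ∈ S, P x) → ∀ y ∈ l.foldl
          (fun S x => gens.foldl (fun S g => bif S.elem (omul x g) then S else S ++ [omul x g]) S) S, P y := by
        intro l
        induction l with
        | nil => exact fun _ S hS => hS
        | cons a l ih =>
          intro hl S hS
          rw [List.foldl_cons]
          exact ih (fun z hz => hl z (List.mem_cons_of_mem _ hz)) _
            (inner gens a (hl a (List.mem_cons_self ..)) hg S hS)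
      exact key acc h acc h
    unfold closG at hx
    cases h1 : Nat.blt 60 acc.length <;> rw [h1] at hx
    · cases h2 : Nat.beq (closStep gens acc).length acc.length <;> rw [h2] at hx
      · exact clos_pred hmul hg n _ hstep x hx
      · exact h x hx
    · exact h x hx

/-- a certificate bounds the group generated by the first letters -/
theorem cert_le {G : Type*} [Group G] {D : Data} {m : ℕ} (hck : Checked D m) (f : ℕ → G)
    (hinv : ∀ k, k < 16 → f (ivT.getD k 0) = (f k)⁻¹) (h15 : f 15 = 1)
    (hiw : (List.range 16).map (ivL D.iw) = ivT) (rels subs : List (List ℕ)) (hnr : D.nr = rels.length)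
    (hnw : D.nw = rels.length + subs.length) (hne : D.ne = 11)
    (hw : ((List.range D.nw).map fun k => wDecode (fld D.words 512 k)) = rels ++ subs)
    (hmv : ((List.range D.ne).map fun k => wDecode (fld D.words 512 (D.nw + k))) = (List.range 11).map fun k => [k])
    (hrel : ∀ l ∈ rels, wev f l = 1) (P : Subgroup G) [Finite P] (hsub : ∀ l ∈ subs, wev f l ∈ P) :
    Finite (Subgroup.closure {z | ∃ k < 11, f k = z}) ∧
      Nat.card (Subgroup.closure {z | ∃ k < 11, f k = z}) ≤ D.nn * Nat.card P := by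
  refine card_le hck f P (fun k hk => ?_) h15 ?_ _ {z | ∃ k < 11, f k = z} rfl ?_
  · have e : ivL D.iw k = ivT.getD k 0 := by
      rw [← hiw]; simp [hk]
    rw [e]; exact hinv k hk
  · intro k hk
    have hval : wDecode (fld D.words 512 k) = (rels ++ subs).getD k [] := by
      rw [← hw]; simp [hk]
    show (k < D.nr → wev f (wDecode (fld D.words 512 k)) = 1) ∧ wev f (wDecode (fld D.words 512 k)) ∈ P
    rw [hval]
    have h1 : k < D.nr → wev f ((rels ++ subs).getD k []) = 1 := fun hk' => by
      have hk2 : k < rels.length := by omega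
      rw [List.getD_eq_getElem?_getD, List.getElem?_append_left hk2, List.getElem?_eq_getElem hk2, Option.getD_some]
      exact hrel _ (List.getElem_mem hk2)
    refine ⟨h1, ?_⟩
    by_cases hk' : k < D.nr
    · rw [h1 hk']; exact one_mem P
    · have hk1 : rels.length ≤ k := by omega
      have hk2 : k - rels.length < subs.length := by omega
      rw [List.getD_eq_getElem?_getD, List.getElem?_append_right hk1, List.getElem?_eq_getElem hk2, Option.getD_some]
      exact hsub _ (List.getElem_mem hk2)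
  · rintro x ⟨k, hk, rfl⟩
    have mem : ∀ j, j < 11 → f j ∈ moves D f := fun j hj => by
      refine ⟨j, hne.symm ▸ hj, ?_⟩
      have := congrArg (fun l : List (List ℕ) => l.getD j []) hmv
      simp [hne, hj] at this
      simp [this]
    refine ⟨mem k hk, ?_⟩
    rw [← hinv k (by omega)]
    refine mem _ ?_
    interval_cases k <;> simp [ivT]

namespace Lifts

variable {G : Type*} [Group G] {L : Loc G} (F : Lifts L)

theorem conj_rel {p : ℕ × ℕ × List ℕ} (hp : p ∈ conjD ++ conjX) : wev F.g (conjWord p) = 1 := by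
  obtain ⟨h1, h2, h3, h4⟩ := conj_facts p hp
  obtain ⟨a1, a2⟩ := F.g_spec p.1 h1
  obtain ⟨l, e⟩ := L.conj_eq a1 a2 (lgC_lt ⟨p.2.1, h2⟩).1
  obtain ⟨c1, c2⟩ := F.wev_code p.2.2 h3
  have er : F.g p.2.1 = L.co.ψ (lgC.getD p.2.1 0) := by rw [g, Loc.glt, if_pos h2]
  show (([p.1, p.2.1, ivT.getD p.1 0] ++ p.2.2).map F.g).prod = 1
  rw [List.map_append, List.prod_append]
  simp only [List.map_cons, List.map_nil, List.prod_cons, List.prod_nil, mul_one]
  rw [show (p.2.2.map F.g).prod = wev F.g p.2.2 from rfl, c2, F.g_inv p.1 (by omega), er, ← mul_assoc (F.g p.1), e,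
    ← L.co.mul _ _ l c1, h4, L.psi_zero]

/-- relators common to both groups -/
theorem base_rel : ∀ l ∈ trivW ++ coreW ++ conjD.map conjWord ++ [[6, 6, 6], [8, 8, 8, 8, 8], commW],
    wev F.g l = 1 := by
  intro l hl
  simp only [List.mem_append, List.mem_map, List.mem_cons, List.not_mem_nil, or_false] at hl
  rcases hl with ((hl | hl) | ⟨p, hp, rfl⟩) | rfl | rfl | rfl
  · obtain ⟨k, hk, rfl⟩ := triv_facts l hl
    show F.g _ * (F.g k * 1) = 1
    rw [F.g_inv k (by omega), mul_one, inv_mul_cancel]
  · obtain ⟨h1, h2⟩ := core_facts l hl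
    rw [(F.wev_code l h1).2, h2, L.psi_zero]
  · exact F.conj_rel (List.mem_append_left _ hp)
  · rw [← F.w3]; simp [wev, g, Loc.glt, pow_succ, mul_assoc]
  · rw [← F.b5]; simp [wev, g, Loc.glt, pow_succ, mul_assoc]
  · have e := F.comm_u.eq
    have i1 := F.wev_winv uW (by decide)
    have i2 := F.wev_winv ([6] ++ uW ++ [7]) (by decide)
    simp only [commW, wev, List.map_append, List.prod_append] at e i1 i2 ⊢
    rw [i1, i2, e]
    group

theorem sq_rel {j : ℕ} (hj : j < 4) (e : F.w * F.b * (F.w * F.b) = L.co.ψ (rmul kcode j)) :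
    wev F.g ([6, 8, 6, 8] ++ sqTail j) = 1 := by
  obtain ⟨h1, h2⟩ := sq_facts ⟨j, hj⟩
  obtain ⟨c1, c2⟩ := F.wev_code _ h1
  have e' : wev F.g [6, 8, 6, 8] = F.w * F.b * (F.w * F.b) := by simp [wev, g, Loc.glt, mul_assoc]
  simp only [wev, List.map_append, List.prod_append] at c2 e' ⊢
  rw [e', c2, e, ← L.co.mul _ _ (rmul_lt ⟨kcode, by decide⟩ ⟨j, by omega⟩) c1, h2, L.psi_zero]

/-- the letters with the odd involution suppressed -/
def g0 (k : ℕ) : G := if k = 10 then 1 else F.g k

theorem g0_inv : ∀ k, k < 16 → F.g0 (ivT.getD k 0) = (F.g0 k)⁻¹ := by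
  intro k hk
  have := F.g_inv k hk
  interval_cases k <;> first | simpa [g0, ivT] using this | simp [g0, ivT]

theorem wev_g0 : ∀ l : List ℕ, (∀ k ∈ l, k ≠ 10) → wev F.g0 l = wev F.g l := by
  intro l hl
  unfold wev
  congr 1
  refine List.map_congr_left fun k hk => ?_
  rw [g0, if_neg (hl k hk)]

/-- the even subgroup -/
def evenK : Subgroup G := Subgroup.closure {z | ∃ k < 11, F.g0 k = z}

theorem g_mem_evenK {k : ℕ} (hk : k < 10) : F.g k ∈ F.evenK :=
  Subgroup.subset_closure ⟨k, by omega, by rw [g0, if_neg (by omega)]⟩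

theorem core_mem_evenK {y : ℕ} (hy : y < 64) : L.co.ψ y ∈ F.evenK := by
  obtain ⟨c1, c2⟩ : ∃ l : List ℕ, (∀ k ∈ l, k < 6) ∧ wcC l = y :=
    ((by decide +kernel : ∀ y : Fin 64, ∃ i : Fin 4, ∃ p q r s : Fin 2,
      wcC (List.replicate i.1 0 ++ List.replicate p.1 2 ++ List.replicate q.1 3 ++ List.replicate r.1 4 ++
        List.replicate s.1 5) = y.1) ⟨y, hy⟩).elim fun i ⟨p, q, r, s, e⟩ => ⟨_, fun k hk => by
      simp only [List.mem_append, List.mem_replicate] at hk
      omega, e⟩
  rw [← c2.2, ← (F.wev_code _ c2.1).2]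
  refine Subgroup.list_prod_mem _ fun z hz => ?_
  obtain ⟨k, hk, rfl⟩ := List.mem_map.1 hz
  exact F.g_mem_evenK ((c2.1 k hk).trans (by norm_num))

theorem realise_even : ∀ m ∈ evA, ∃ u ∈ F.evenK, L.inH u ∧ L.o u = m := by
  intro m hm
  refine clos_pred (P := fun m => ∃ u ∈ F.evenK, L.inH u ∧ L.o u = m) ?_ ?_ _ _ ?_ m (cover_gen.1 m hm)
  · rintro _ _ ⟨u, hu, uh, rfl⟩ ⟨v, hv, vh, rfl⟩
    exact ⟨u * v, mul_mem hu hv, uh.mul vh, L.o_mul uh vh⟩
  · intro x hx
    simp only [List.mem_cons, List.not_mem_nil, or_false] at hx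
    rcases hx with rfl | rfl
    · exact ⟨F.w, F.g_mem_evenK (k := 6) (by norm_num), F.hw, congrArg outT F.iw⟩
    · exact ⟨F.b, F.g_mem_evenK (k := 8) (by norm_num), F.hb, congrArg outT F.ib⟩
  · intro x hx
    rw [List.mem_singleton.1 hx]
    exact ⟨1, one_mem _, Commute.one_left _, by rw [← L.psi_zero, L.o_psi (by norm_num)]⟩

theorem evenK_big [Finite G] : 3840 ≤ Nat.card F.evenK := by
  classical
  have hr : ∀ m : {m // m ∈ evA}, ∃ u ∈ F.evenK, L.inH u ∧ L.o u = m.1 := fun m => F.realise_even m.1 m.2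
  choose u hu hh ho using hr
  let Φ : Fin 64 × {m // m ∈ evA} → F.evenK := fun p => ⟨L.co.ψ p.1 * u p.2, mul_mem (F.core_mem_evenK p.1.2) (hu p.2)⟩
  have hinj : Function.Injective Φ := by
    rintro ⟨r, m⟩ ⟨r', m'⟩ e
    have e' : L.co.ψ r * u m = L.co.ψ r' * u m' := congrArg Subtype.val e
    have em : m = m' := Subtype.ext (by
      have q := congrArg L.o e'
      rw [L.o_mul (L.inH_psi r.2) (hh m), L.o_mul (L.inH_psi r'.2) (hh m'), L.o_psi r.2, L.o_psi r'.2, ho, ho] at q
      have hone : ∀ x ∈ evA, omul oneM x = x := by decide +kernel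
      rwa [hone _ m.2, hone _ m'.2] at q)
    subst em
    exact Prod.ext (Fin.ext (L.co.inj _ _ r.2 r'.2 (mul_right_cancel e'))) rfl
  have := Nat.card_le_card_of_injective Φ hinj
  rw [Nat.card_prod, Nat.card_fin, Nat.card_eq_fintype_card (α := {m // m ∈ evA}),
    Fintype.card_of_subtype evA.toFinset (fun x => List.mem_toFinset), List.toFinset_card_of_nodup ev_facts.2.2.1,
    ev_facts.1] at this
  exact this

/-- the square of the product of the first two generators -/
theorem wb_square [Finite G] : F.w * F.b * (F.w * F.b) = L.co.ψ kcode := by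
  obtain ⟨j, hj, e⟩ := F.wb_sq
  by_cases h0 : j = 0
  · subst h0; rw [e]; congr 1
  exfalso
  have hP : Nat.card (Subgroup.zpowers F.b) ≤ 5 := by
    rw [Nat.card_zpowers]
    exact orderOf_le_of_pow_eq_one (by norm_num) F.b5
  have hrel : ∀ l ∈ relK j, wev F.g0 l = 1 := by
    intro l hl
    by_cases h10 : l = [10] ∨ l = [10, 10]
    · rcases h10 with rfl | rfl <;> simp [wev, g0]
    have ne10 : ∀ j, j < 4 → ∀ l ∈ relK j, (l = [10] ∨ l = [10, 10]) ∨ ∀ k ∈ l, k ≠ 10 := by decide +kernel
    rw [F.wev_g0 l ((ne10 j hj l hl).resolve_left h10)]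
    simp only [relK, List.mem_append, List.mem_cons, List.not_mem_nil, or_false] at hl
    rcases hl with hl | rfl | rfl | rfl | rfl | rfl
    · exact F.base_rel l (List.mem_append_left _ (by simpa only [List.mem_append] using hl))
    · exact F.base_rel _ (List.mem_append_right _ (by simp))
    · exact F.base_rel _ (List.mem_append_right _ (by simp))
    · exact F.sq_rel hj e
    · exact F.base_rel _ (List.mem_append_right _ (by simp))
    · exact absurd (Or.inl rfl) h10
  have hsub : ∀ l ∈ [[8]], wev F.g0 l ∈ Subgroup.zpowers F.b := by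
    intro l hl
    rw [List.mem_singleton.1 hl]
    simp [wev, g0, g, Loc.glt]
  have big := F.evenK_big
  have hbound : Nat.card F.evenK ≤ 384 * 5 := by
    interval_cases j
    · exact absurd rfl h0
    · refine ((cert_le CertK1.checked F.g0 F.g0_inv (by simp [g0, g, Loc.glt]) (by decide +kernel) (relK 1) [[8]]
        (by decide +kernel) (by decide +kernel) rfl (by rw [CertK1.words_ok]; decide +kernel) CertK1.moves_ok hrel
        _ hsub).2).trans ?_
      exact Nat.mul_le_mul (by decide +kernel) hP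
    · refine ((cert_le CertK2.checked F.g0 F.g0_inv (by simp [g0, g, Loc.glt]) (by decide +kernel) (relK 2) [[8]]
        (by decide +kernel) (by decide +kernel) rfl (by rw [CertK2.words_ok]; decide +kernel) CertK2.moves_ok hrel
        _ hsub).2).trans ?_
      exact Nat.mul_le_mul (by decide +kernel) hP
    · refine ((cert_le CertK3.checked F.g0 F.g0_inv (by simp [g0, g, Loc.glt]) (by decide +kernel) (relK 3) [[8]]
        (by decide +kernel) (by decide +kernel) rfl (by rw [CertK3.words_ok]; decide +kernel) CertK3.moves_ok hrel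
        _ hsub).2).trans ?_
      exact Nat.mul_le_mul (by decide +kernel) hP
  omega

theorem rel_H [Finite G] : ∀ l ∈ relH, wev F.g l = 1 := by
  intro l hl
  simp only [relH, List.mem_append, List.mem_cons, List.not_mem_nil, or_false] at hl
  rcases hl with (hl | hl) | rfl | rfl | rfl | rfl | rfl | rfl | rfl
  · exact F.base_rel l (List.mem_append_left _ (by simpa only [List.mem_append] using hl))
  · obtain ⟨p, hp, rfl⟩ := List.mem_map.1 hl
    exact F.conj_rel (List.mem_append_right _ hp)
  · exact F.base_rel _ (List.mem_append_right _ (by simp))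
  · exact F.base_rel _ (List.mem_append_right _ (by simp))
  · simp [wev, g, Loc.glt, F.x2]
  · have e := F.xwx
    rw [show wev F.g [10, 6, 10, 6] = F.x * F.w * F.x * F.w by simp [wev, g, Loc.glt, mul_assoc], e, inv_mul_cancel]
  · have e := F.xbx
    have i1 := F.wev_winv conjW (by decide)
    have e3 : wev F.g [10, 8, 10] = F.x * F.b * F.x := by simp [wev, g, Loc.glt, mul_assoc]
    simp only [wev, List.map_append, List.prod_append] at e i1 e3 ⊢
    rw [e3, i1, e, mul_inv_cancel]
  · exact F.sq_rel (by norm_num) (by rw [F.wb_square]; congr 1)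
  · exact F.base_rel _ (List.mem_append_right _ (by simp))

/-- the centralizer is generated by the letters -/
theorem cent_eq [Finite G] (hS : L.Std) :
    Subgroup.centralizer ({L.t} : Set G) = Subgroup.closure {z | ∃ k < 11, F.g k = z} := by
  refine le_antisymm (fun h hh => ?_) ?_
  · have hin : L.inH h := L.inH_of ⟨h, hh⟩
    set K := Subgroup.closure {z | ∃ k < 11, F.g k = z}
    have hle : F.evenK ≤ K := by
      rw [evenK, Subgroup.closure_le]
      rintro z ⟨k, hk, rfl⟩
      by_cases h10 : k = 10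
      · simp [g0, h10]
      · exact Subgroup.subset_closure ⟨k, hk, by rw [g0, if_neg h10]⟩
    obtain ⟨u, hu, uh, uo⟩ : ∃ u ∈ K, L.inH u ∧ L.o u = L.o h := by
      rcases List.mem_append.1 (hS.1 h hin) with hm | hm
      · obtain ⟨u, hu, uh, uo⟩ := F.realise_even _ hm
        exact ⟨u, hle hu, uh, uo⟩
      · obtain ⟨m, hm', e⟩ := List.mem_map.1 (cover_gen.2 _ hm)
        obtain ⟨u, hu, uh, uo⟩ := F.realise_even m hm'
        refine ⟨F.x * u, mul_mem (Subgroup.subset_closure ⟨10, by norm_num, by simp [g, Loc.glt]⟩) (hle hu),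
          F.hx.mul uh, ?_⟩
        rw [L.o_mul F.hx uh, uo, ← e]
        exact congrArg (fun q => omul q m) (congrArg outT F.ix)
    have hR : u⁻¹ * h ∈ L.R := L.mem_R_of_o (uh.inv.mul hin) (by
      rw [L.o_mul uh.inv hin, ← uo, ← L.o_mul uh.inv uh, inv_mul_cancel, ← L.psi_zero, L.o_psi (by norm_num)])
    obtain ⟨y, hy, ey⟩ := (L.co.mem _).1 hR
    have : u⁻¹ * h ∈ K := ey ▸ hle (F.core_mem_evenK hy)
    simpa using mul_mem hu this
  · rw [Subgroup.closure_le]
    rintro z ⟨k, hk, rfl⟩
    exact (L.toH _ (F.g_spec k hk).1).2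

theorem card_cent [Finite G] : Nat.card (Subgroup.centralizer ({L.t} : Set G)) = 7680 := by
  have hR : L.R.subgroupOf (Subgroup.centralizer ({L.t} : Set G)) = L.ρ.ker := by
    ext x
    rw [Subgroup.mem_subgroupOf, MonoidHom.mem_ker, L.ρ_ker]
  have hle : L.R ≤ Subgroup.centralizer ({L.t} : Set G) := fun x hx => by
    obtain ⟨y, hy, rfl⟩ := (L.co.mem x).1 hx
    exact (L.toH _ (L.inH_psi hy)).2
  have hcard : Nat.card L.R = 64 := by
    let e : Fin 64 → L.R := fun y => ⟨L.co.ψ y, L.psi_mem y.2⟩
    have he : Function.Bijective e := by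
      refine ⟨fun a b h => Fin.ext (L.co.inj _ _ a.2 b.2 (congrArg Subtype.val h)), fun ⟨x, hx⟩ => ?_⟩
      obtain ⟨y, hy, rfl⟩ := (L.co.mem x).1 hx
      exact ⟨⟨y, hy⟩, rfl⟩
    rw [← Nat.card_eq_of_bijective e he, Nat.card_fin]
  have h1 := (L.ρ.ker).card_mul_index
  rw [Subgroup.index_ker, MonoidHom.range_eq_top.2 L.ρ_surj, Subgroup.card_top, s5_card, ← hR,
    Nat.card_congr (Subgroup.subgroupOfEquivOfLe hle).toEquiv, hcard] at h1
  exact h1.symm

end Lifts

end Cfsg.Agent.HSTwoLocal
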