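import Cfsg.Agent.Lib.Spor.HSTwoLocal.GroupData
import Cfsg.Agent.Lib.Spor.HSRecog

/-!
The permutations of the model generate the Higman-Sims group.
-/

set_option autoImplicit false
set_option maxRecDepth 100000
set_option maxHeartbeats 1000000
set_option linter.style.haveILetI false

namespace Cfsg.Agent.HSTwoLocal

open Local.FS.Hundred (code code_injective idC)
open Spor.HSUnique (modelB modelH modelH_spec)
open Spor.HSGraph (autOK lp transport)

/-- the letters with the involution as letter eleven -/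
def pl (k : ℕ) : Equiv.Perm (Fin 100) := if k = 11 then mkPerm sigC sigC else mg k

/-- their packed images -/
def plC (k : ℕ) : ℕ := bif Nat.beq k 11 then sigC else letL.getD k idC

/-- packed value of a word with the involution -/
def cwev2 : List ℕ → ℕ
  | [] => idC
  | k :: l => mu (plC k) (cwev2 l)

/-- the group generated -/
def X0 : Subgroup (Equiv.Perm (Fin 100)) := Subgroup.closure {z | ∃ k < 12, pl k = z}

/-- the inverse of a letter -/
def plJ (k : ℕ) : ℕ := bif Nat.beq k 11 then 11 else ivT.getD k 0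

theorem pl_code : ∀ k : Fin 12, code (pl k.1) = plC k.1 := by decide +kernel

theorem pl_aut : ∀ k : Fin 12, autOK (plL.getD k.1 []) (plL.getD (plJ k.1) []) = true := by decide +kernel

theorem pl_digs : ∀ k : Fin 12, ∀ i : Fin 100, dig (plC k.1) i.1 = (plL.getD k.1 []).getD i.1 0 := by decide +kernel

theorem pl_lp (k : Fin 12) : lp (plL.getD k.1 []) (plL.getD (plJ k.1) []) (pl_aut k) = pl k.1 := by
  refine Equiv.ext fun i => Fin.ext ?_
  rw [← Local.FS.Hundred.nget_code (pl k.1) i.2, pl_code k]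
  exact (pl_digs k i).symm

/-- a letter is a product of two elements of odd order -/
def evenOK (k : ℕ) : Bool :=
  let e := evenW.getD k ([], 0, 0)
  (e.1.all fun j => Nat.blt j 12) && Nat.beq (e.2.1 % 2) 1 && Nat.beq (e.2.2 % 2) 1 &&
    Nat.beq (cwev2 (List.replicate e.2.1 e.1).flatten) idC &&
    Nat.beq (cwev2 (List.replicate e.2.2 (e.1.reverse.map plJ ++ [k])).flatten) idC

theorem even_facts : ∀ k : Fin 12, evenOK k.1 = true ∧ plJ k.1 < 12 ∧ mu (plC (plJ k.1)) (plC k.1) = idC := by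
  decide +kernel

theorem odd_lp : Equiv.Perm.sign (lp Spor.HSGraph.odd Spor.HSGraph.oddInv Spor.HSGraph.odd_ok) = -1 :=
  Spor.HSGraph.odd_sign.1

/-- the words have the stated orders -/
def ordOK (q : ℕ) (w : List ℕ) : Bool :=
  Nat.beq (cwev2 (List.replicate q w).flatten) idC && !(Nat.beq (cwev2 w) idC) && w.all fun k => Nat.blt k 12

/-- two commuting words generating a group of order the square of the prime -/
def sqOK (q : ℕ) (w : List ℕ × List ℕ) : Bool :=
  ordOK q w.1 && ordOK q w.2 && Nat.beq (cwev2 (w.1 ++ w.2)) (cwev2 (w.2 ++ w.1)) &&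
    (List.range q).all fun i => (List.range q).all fun j =>
      (Nat.beq i 0 && Nat.beq j 0) ||
        !(Nat.beq (cwev2 ((List.replicate i w.1).flatten ++ (List.replicate j w.2).flatten)) idC)

theorem ord_facts : ordOK 7 wSeven = true ∧ ordOK 11 wEleven = true ∧ sqOK 5 wFive = true ∧ sqOK 3 wThree = true := by
  decide +kernel

attribute [local irreducible] mu code idC letL sigC plL

theorem cwev2_code : ∀ l : List ℕ, (∀ k ∈ l, k < 12) → code (wev pl l) = cwev2 l ∧ wev pl l ∈ X0
  | [], _ => ⟨by rw [cwev2, wev, List.map_nil, List.prod_nil, code_one], one_mem _⟩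
  | k :: l, h => by
    obtain ⟨a, b⟩ := cwev2_code l fun j hj => h j (List.mem_cons_of_mem _ hj)
    have hk := h k (List.mem_cons_self ..)
    rw [wev_cons, cwev2, code_mu, a, pl_code ⟨k, hk⟩]
    exact ⟨rfl, mul_mem (Subgroup.subset_closure ⟨k, hk, rfl⟩) b⟩

theorem wev_flatten {H : Type*} [Group H] (f : ℕ → H) (n : ℕ) (w : List ℕ) :
    wev f (List.replicate n w).flatten = wev f w ^ n := by
  simp [wev, List.map_flatten, List.prod_flatten]

theorem wev_append {H : Type*} [Group H] (f : ℕ → H) (a b : List ℕ) : wev f (a ++ b) = wev f a * wev f b := by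
  simp [wev]

theorem pl_inv (k : Fin 12) : pl (plJ k.1) = (pl k.1)⁻¹ := by
  obtain ⟨-, h, e⟩ := even_facts k
  refine eq_inv_of_mul_eq_one_left (code_injective ?_)
  rw [code_mu, pl_code ⟨_, h⟩, pl_code k, e, code_one]

theorem wev_rev : ∀ l : List ℕ, (∀ j ∈ l, j < 12) → wev pl (l.reverse.map plJ) = (wev pl l)⁻¹
  | [], _ => by simp [wev]
  | k :: l, h => by
    have h2 := wev_rev l fun j hj => h j (List.mem_cons_of_mem _ hj)
    rw [List.reverse_cons, List.map_append, List.map_singleton, wev_append, h2,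
      show wev pl [plJ k] = pl (plJ k) by simp [wev], wev_cons, mul_inv_rev, pl_inv ⟨k, h k (List.mem_cons_self ..)⟩]

theorem sign_odd {g : Equiv.Perm (Fin 100)} {n : ℕ} (hn : n % 2 = 1) (h : g ^ n = 1) : Equiv.Perm.sign g = 1 := by
  have e := congrArg Equiv.Perm.sign h
  rw [map_pow, map_one] at e
  rcases Int.units_eq_one_or (Equiv.Perm.sign g) with q | q
  · exact q
  · rw [q, Odd.neg_one_pow (Nat.odd_iff.2 hn)] at e
    exact absurd e (by decide)

theorem pl_sign (k : Fin 12) : Equiv.Perm.sign (pl k.1) = 1 := by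
  obtain ⟨h, -, -⟩ := even_facts k
  simp only [evenOK, Bool.and_eq_true, List.all_eq_true, Nat.blt_eq, Nat.beq_eq] at h
  generalize evenW.getD k.1 ([], 0, 0) = e at h
  obtain ⟨⟨⟨⟨hl, hm⟩, hn⟩, h1⟩, h2⟩ := h
  have lt : ∀ n (l : List ℕ), (∀ j ∈ l, j < 12) → ∀ j ∈ (List.replicate n l).flatten, j < 12 := fun n l hl' j hj => by
    obtain ⟨u, hu, hj'⟩ := List.mem_flatten.1 hj
    exact hl' j (List.eq_of_mem_replicate hu ▸ hj')
  have hl2 : ∀ j ∈ e.1.reverse.map plJ ++ [k.1], j < 12 := fun j hj => by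
    rcases List.mem_append.1 hj with hj | hj
    · obtain ⟨i, hi, rfl⟩ := List.mem_map.1 hj
      exact (even_facts ⟨i, hl i (List.mem_reverse.1 hi)⟩).2.1
    · rw [List.mem_singleton.1 hj]; exact k.2
  have a1 : wev pl e.1 ^ e.2.1 = 1 := code_injective (by
    rw [← wev_flatten, (cwev2_code _ (lt _ _ hl)).1, h1, code_one])
  have a2 : ((wev pl e.1)⁻¹ * pl k.1) ^ e.2.2 = 1 := code_injective (by
    rw [← wev_rev _ hl, show pl k.1 = wev pl [k.1] by simp [wev], ← wev_append, ← wev_flatten,
      (cwev2_code _ (lt _ _ hl2)).1, h2, code_one])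
  rw [show pl k.1 = wev pl e.1 * ((wev pl e.1)⁻¹ * pl k.1) by group, map_mul, sign_odd hm a1, sign_odd hn a2, mul_one]

theorem ord_elem {q : ℕ} {w : List ℕ} (hq : q.Prime) (h : ordOK q w = true) :
    ∃ x : ↥X0, (x : Equiv.Perm (Fin 100)) = wev pl w ∧ orderOf x = q := by
  haveI := Fact.mk hq
  simp only [ordOK, Bool.and_eq_true, Nat.beq_eq, Bool.not_eq_true', List.all_eq_true, Nat.blt_eq] at h
  obtain ⟨⟨h1, h2⟩, h3⟩ := h
  obtain ⟨a, b⟩ := cwev2_code w h3
  refine ⟨⟨_, b⟩, rfl, orderOf_eq_prime (Subtype.ext (code_injective ?_)) fun e => ?_⟩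
  · show code (wev pl w ^ q) = code 1
    rw [← wev_flatten, (cwev2_code _ (fun k hk => by
      obtain ⟨l, hl, hk'⟩ := List.mem_flatten.1 hk
      exact h3 k (List.eq_of_mem_replicate hl ▸ hk'))).1, h1, code_one]
  · have e' : wev pl w = 1 := congrArg Subtype.val e
    rw [← a, e', code_one, Nat.beq_refl] at h2
    exact Bool.noConfusion h2

theorem sq_dvd {q : ℕ} {w : List ℕ × List ℕ} (hq : q.Prime) (h : sqOK q w = true) : q * q ∣ Nat.card ↥X0 := by
  simp only [sqOK, Bool.and_eq_true, List.all_eq_true, List.mem_range, Nat.beq_eq, Bool.or_eq_true,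
    Bool.not_eq_true'] at h
  obtain ⟨⟨⟨h1, h2⟩, hc⟩, hind⟩ := h
  obtain ⟨x, ex, ox⟩ := ord_elem hq h1
  obtain ⟨y, ey, oy⟩ := ord_elem hq h2
  have w1 : ∀ k ∈ w.1, k < 12 := by
    simp only [ordOK, Bool.and_eq_true, List.all_eq_true, Nat.blt_eq] at h1; exact h1.2
  have w2 : ∀ k ∈ w.2, k < 12 := by
    simp only [ordOK, Bool.and_eq_true, List.all_eq_true, Nat.blt_eq] at h2; exact h2.2
  have hxy : Commute x y := by
    refine Subtype.ext (code_injective ?_)
    show code ((x : Equiv.Perm (Fin 100)) * y) = code ((y : Equiv.Perm (Fin 100)) * x)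
    rw [ex, ey, ← wev_append, ← wev_append,
      (cwev2_code _ (fun k hk => (List.mem_append.1 hk).elim (w1 k) (w2 k))).1,
      (cwev2_code _ (fun k hk => (List.mem_append.1 hk).elim (w2 k) (w1 k))).1, hc]
  have hcomm : ∀ (a : Subgroup.zpowers x) (b : Subgroup.zpowers y), Commute ((a : ↥X0)) b := by
    rintro ⟨_, i, rfl⟩ ⟨_, j, rfl⟩
    exact (hxy.zpow_left i).zpow_right j
  let f := MonoidHom.noncommCoprod (Subgroup.zpowers x).subtype (Subgroup.zpowers y).subtype hcomm
  have hinj : Function.Injective f := by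
    rw [injective_iff_map_eq_one]
    rintro ⟨⟨a, ha⟩, ⟨b, hb⟩⟩ hab
    obtain ⟨i, hi, rfl⟩ : ∃ i < q, x ^ i = a := by
      obtain ⟨i, rfl⟩ := Subgroup.mem_zpowers_iff.1 ha
      refine ⟨(i % q).toNat, ?_, ?_⟩
      · have := Int.emod_lt_of_pos i (show (0 : ℤ) < q by exact_mod_cast hq.pos)
        have := Int.emod_nonneg i (show (q : ℤ) ≠ 0 by exact_mod_cast hq.ne_zero)
        omega
      · rw [← zpow_natCast, Int.toNat_of_nonneg (Int.emod_nonneg i (by exact_mod_cast hq.ne_zero)), ← ox, zpow_mod_orderOf]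
    obtain ⟨j, hj, rfl⟩ : ∃ j < q, y ^ j = b := by
      obtain ⟨j, rfl⟩ := Subgroup.mem_zpowers_iff.1 hb
      refine ⟨(j % q).toNat, ?_, ?_⟩
      · have := Int.emod_lt_of_pos j (show (0 : ℤ) < q by exact_mod_cast hq.pos)
        have := Int.emod_nonneg j (show (q : ℤ) ≠ 0 by exact_mod_cast hq.ne_zero)
        omega
      · rw [← zpow_natCast, Int.toNat_of_nonneg (Int.emod_nonneg j (by exact_mod_cast hq.ne_zero)), ← oy, zpow_mod_orderOf]
    rcases hind i hi j hj with ⟨i0, j0⟩ | hne
    · subst i0 j0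
      exact Prod.ext (Subtype.ext (pow_zero x)) (Subtype.ext (pow_zero y))
    · exfalso
      have e : (x : Equiv.Perm (Fin 100)) ^ i * (y : Equiv.Perm (Fin 100)) ^ j = 1 := congrArg Subtype.val hab
      rw [ex, ey, ← wev_flatten, ← wev_flatten, ← wev_append] at e
      have hl : ∀ k ∈ (List.replicate i w.1).flatten ++ (List.replicate j w.2).flatten, k < 12 := fun k hk => by
        rcases List.mem_append.1 hk with hk | hk <;> obtain ⟨l, hl, hk'⟩ := List.mem_flatten.1 hk
        · exact w1 k (List.eq_of_mem_replicate hl ▸ hk')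
        · exact w2 k (List.eq_of_mem_replicate hl ▸ hk')
      rw [← (cwev2_code _ hl).1, e, code_one, Nat.beq_refl] at hne
      exact Bool.noConfusion hne
  have hd := Subgroup.card_dvd_of_injective f hinj
  rwa [Nat.card_prod, Nat.card_zpowers, Nat.card_zpowers, ox, oy] at hd

theorem arith {n : ℕ} (h1 : 7680 ∣ n) (h2 : 7 ∣ n) (h3 : 11 ∣ n) (h4 : 25 ∣ n) (h5 : 9 ∣ n) : 8870400 ∣ n := by
  have a : 7680 * 7 ∣ n := Nat.Coprime.mul_dvd_of_dvd_of_dvd (by norm_num) h1 h2
  have b : 7680 * 7 * 11 ∣ n := Nat.Coprime.mul_dvd_of_dvd_of_dvd (by norm_num) a h3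
  have c := Nat.lcm_dvd (Nat.lcm_dvd b h4) h5
  rwa [show Nat.lcm (Nat.lcm (7680 * 7 * 11) 25) 9 = 8870400 by decide +kernel] at c

/-- the generated group is the even automorphism group of the graph -/
theorem x0_equiv (h : 7680 ∣ Nat.card ↥X0) : Nonempty (↥X0 ≃* ↥modelH) ∧ Nat.card ↥X0 = 44352000 := by
  classical
  obtain ⟨hs, hH⟩ := modelH_spec
  have hA := (Spor.HSGraph.hs_group (Fintype.card_fin 22) Spor.HSGraph.model_steiner).1
  set A := Spor.HSGraph.autSub modelB
  haveI : Finite A := Nat.finite_of_card_ne_zero (by rw [hA]; norm_num)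
  have he : (fun b => b.image (Equiv.refl (Fin 22))) '' (Spor.HSGraph.model : Set (Finset (Fin 22))) = modelB := by
    simp
  have hne : ∀ b ∈ modelB, (b : Finset (Fin 22)).Nonempty := fun b hb =>
    Finset.card_pos.1 (by rw [Spor.HSGraph.model_steiner.1 b hb]; norm_num)
  set E := Equiv.ofBijective _ (Spor.HSGraph.vert_bij (Equiv.refl (Fin 22)) he)
  have hmem : X0 ≤ A.comap E.permCongrHom.toMonoidHom := by
    rw [X0, Subgroup.closure_le]
    rintro z ⟨k, hk, rfl⟩
    have e : lp (plL.getD k []) (plL.getD (plJ k) []) (pl_aut ⟨k, hk⟩) = pl k := pl_lp ⟨k, hk⟩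
    show E.permCongr (pl k) ∈ A
    rw [← e]
    exact (transport (Equiv.refl (Fin 22)) he hne (pl_aut ⟨k, hk⟩)).2
  let f : ↥X0 →* ↥A := ((E.permCongrHom.toMonoidHom).comp X0.subtype).codRestrict A fun x => hmem x.2
  have hf : Function.Injective f := fun a b e =>
    Subtype.ext (E.permCongrHom.injective (congrArg Subtype.val e))
  -- the even automorphisms
  let sgn : ↥A →* ℤˣ := Equiv.Perm.sign.comp A.subtype
  have hK : sgn.ker.index = 2 := by
    rw [Subgroup.index_ker, MonoidHom.range_eq_top.2 fun u => ?_, Subgroup.card_top, Nat.card_eq_fintype_card]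
    · rfl
    · rcases Int.units_eq_one_or u with rfl | rfl
      · exact ⟨1, map_one _⟩
      · refine ⟨transport (Equiv.refl (Fin 22)) he hne Spor.HSGraph.odd_ok, ?_⟩
        show Equiv.Perm.sign (E.permCongr _) = -1
        rw [Equiv.Perm.sign_permCongr, odd_lp]
  haveI := hs
  have hHK : modelH = sgn.ker := by
    haveI : (sgn.ker.subgroupOf modelH).Normal := inferInstance
    have hle : modelH ≤ sgn.ker := by
      rcases IsSimpleGroup.eq_bot_or_eq_top_of_normal (sgn.ker.subgroupOf modelH) inferInstance with h | h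
      · exfalso
        have hd : (sgn.ker.subgroupOf modelH).index ≤ 2 :=
          hK ▸ Nat.le_of_dvd (by omega) (Subgroup.relIndex_dvd_index_of_normal sgn.ker modelH)
        rw [h, Subgroup.index_bot, hH] at hd
        omega
      · exact Subgroup.subgroupOf_eq_top.1 h
    refine Subgroup.eq_of_le_of_card_ge hle (le_of_eq ?_)
    have := sgn.ker.card_mul_index
    rw [hK, show Nat.card ↥A = 88704000 from hA] at this
    rw [hH]
    exact Nat.eq_of_mul_eq_mul_right two_pos (this.trans (by norm_num))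
  have hev : ∀ x : ↥X0, f x ∈ modelH := by
    rw [hHK]
    rintro ⟨x, hx⟩
    show Equiv.Perm.sign (E.permCongr x) = 1
    rw [Equiv.Perm.sign_permCongr]
    have : X0 ≤ (Equiv.Perm.sign : Equiv.Perm (Fin 100) →* ℤˣ).ker := by
      rw [X0, Subgroup.closure_le]
      rintro z ⟨k, hk, rfl⟩
      exact pl_sign ⟨k, hk⟩
    exact this hx
  let f' : ↥X0 →* ↥modelH := f.codRestrict modelH hev
  have hf' : Function.Injective f' := fun a b e => hf (congrArg Subtype.val e :)
  obtain ⟨o7, o11, s5, s3⟩ := ord_facts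
  obtain ⟨x7, -, e7⟩ := ord_elem (by norm_num) o7
  obtain ⟨x11, -, e11⟩ := ord_elem (by norm_num) o11
  have hd : 8870400 ∣ Nat.card ↥X0 := arith h (e7 ▸ orderOf_dvd_natCard x7) (e11 ▸ orderOf_dvd_natCard x11)
    (sq_dvd (by norm_num) s5) (sq_dvd (by norm_num) s3)
  have htop : f'.range = ⊤ := by
    by_contra hne'
    haveI : Finite ↥modelH := Nat.finite_of_card_ne_zero (by rw [hH]; norm_num)
    set S := f'.range
    have hS : Nat.card S = Nat.card ↥X0 := (Nat.card_congr (MonoidHom.ofInjective hf').toEquiv).symm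
    have hi : S.index ∣ 5 := by
      have := S.card_mul_index
      rw [hS, hH] at this
      obtain ⟨m, hm⟩ := hd
      exact ⟨m, by rw [hm] at this; nlinarith⟩
    have h5 : S.index = 5 := ((Nat.prime_five).eq_one_or_self_of_dvd _ hi).resolve_left
      (fun e => hne' (Subgroup.index_eq_one.1 e))
    have hq : Nat.card (↥modelH ⧸ S) = 5 := by rw [← Subgroup.index_eq_card, h5]
    let a := MulAction.toPermHom ↥modelH (↥modelH ⧸ S)
    rcases IsSimpleGroup.eq_bot_or_eq_top_of_normal a.ker inferInstance with hb | hb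
    · have := Subgroup.card_dvd_of_injective a ((MonoidHom.ker_eq_bot_iff _).1 hb)
      rw [hH, Nat.card_perm, hq] at this
      exact absurd (Nat.le_of_dvd (by norm_num [Nat.factorial]) this) (by norm_num [Nat.factorial])
    · refine hne' (eq_top_iff.2 fun g _ => ?_)
      have : a g = 1 := MonoidHom.mem_ker.1 (hb ▸ Subgroup.mem_top g)
      have e := congrFun (congrArg DFunLike.coe this) ((1 : ↥modelH) : ↥modelH ⧸ S)
      simp only [a, MulAction.toPermHom_apply, MulAction.toPerm_apply, Equiv.Perm.coe_one, id_eq] at e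
      rw [MulAction.Quotient.smul_coe, smul_eq_mul, mul_one, QuotientGroup.eq, mul_one] at e
      exact inv_mem_iff.1 e
  have hb : Function.Bijective f' := ⟨hf', MonoidHom.range_eq_top.1 htop⟩
  exact ⟨⟨MulEquiv.ofBijective f' hb⟩, (Nat.card_eq_of_bijective f' hb).trans hH⟩

/-- the model group is the Higman-Sims group -/
theorem model_hs : Nonempty (↥modelH ≃* ↥Cfsg.Spor.HS) := by
  obtain ⟨e, -⟩ := Spor.HSUnique.hs_graph_group
  obtain ⟨e'⟩ := Spor.HSUnique.hs_equiv
  exact ⟨e.symm.trans e'⟩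

end Cfsg.Agent.HSTwoLocal
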