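import Cfsg.Agent.Lib.Spor.HSTwoLocal.Relations
import Cfsg.Agent.Lib.Spor.HSTwoLocal.ModelGroup

/-!
The subgroup generated by the centralizer and the twist involution is the Higman-Sims group.
-/

set_option autoImplicit false
set_option maxRecDepth 100000
set_option maxHeartbeats 1000000
set_option linter.style.haveILetI false

namespace Cfsg.Agent.HSTwoLocal

open Spor.DCoset
open Local.FS.Hundred (code code_injective idC)

/-- product of a relation in the model -/
def relProd (c : Cert) (zs : List (List ℕ × List ℕ)) : ℕ :=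
  zs.foldr (fun z r => mu (mu (c.ev mu z.1) sigC) r) idC

theorem model_rels : (∀ zs ∈ DcMain.cert.rels, relProd DcMain.cert zs = idC) ∧
    (∀ w ∈ DcMain.cert.cg, mu (DcMain.cert.ev mu w.1) sigC = mu sigC (DcMain.cert.ev mu w.2)) ∧
    mu sigC sigC = idC := by decide +kernel

theorem plC_eleven : plC 11 = sigC := rfl

attribute [local irreducible] mu code idC letL sigC plL pl plC mkPerm mg aL rL coreL repL DcMain.cert

theorem sigP_code : code (pl 11) = sigC := (pl_code ⟨11, by omega⟩).trans plC_eleven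

theorem pl_lt {k : ℕ} (hk : k < 11) : pl k = mg k := by
  rw [pl, if_neg (by omega)]

namespace Lifts

variable {G : Type*} [Group G] {L : Loc G} {F : Lifts L}

namespace Twist

variable {φ : ↥(Subgroup.centralizer ({L.t} : Set G)) →* Equiv.Perm (Fin 100)} (T : F.Twist) (M : F.IsModel φ)

/-- the group generated by the centralizer and the twist -/
def X : Subgroup G := Subgroup.closure ((Subgroup.centralizer ({L.t} : Set G) : Set G) ∪ {T.σ})

theorem cent_le_X : Subgroup.centralizer ({L.t} : Set G) ≤ T.X := fun x hx => Subgroup.subset_closure (Or.inl hx)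

theorem sigma_mem : T.σ ∈ T.X := Subgroup.subset_closure (Or.inr rfl)

include M

/-- the group generated acts on the hundred points as the model group -/
theorem exists_embed [Finite G] (hS : L.Std) : ∃ ι : ↥T.X →* Equiv.Perm (Fin 100), Function.Injective ι ∧
    ι.range = X0 ∧ (∀ h : ↥(Subgroup.centralizer ({L.t} : Set G)), ι ⟨h, T.cent_le_X h.2⟩ = φ h) ∧
    ι ⟨T.σ, T.sigma_mem⟩ = pl 11 ∧ Nat.card ↥T.X = 44352000 ∧ IsSimpleGroup ↥T.X ∧
    Nonempty (↥T.X ≃* ↥Cfsg.Spor.HS) := by
  classical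
  obtain ⟨R, S, hφ, hσ, hcd⟩ : ∃ (R : Rep ↥(Subgroup.centralizer ({L.t} : Set G)) mu DcMain.cert) (S : Sys R G),
      S.φ = (Subgroup.centralizer ({L.t} : Set G)).subtype ∧ S.σ = T.σ ∧
        ∀ w, code (φ (R.wel w)) = DcMain.cert.ev mu w := by
    obtain ⟨⟨S, hφ, hσ⟩, -⟩ := T.main_sys M hS
    exact ⟨_, S, hφ, hσ, fun w => (M.repC hS DcMain.cert main_head.1 main_head.2).cd_wel w⟩
  let sp : Equiv.Perm (Fin 100) := pl 11
  have hspC : code sp = sigC := sigP_code
  let S' : Sys R (G × Equiv.Perm (Fin 100)) :=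
    { φ := (Subgroup.centralizer ({L.t} : Set G)).subtype.prod φ
      σ := (T.σ, sp)
      sq := Prod.ext T.sq (code_injective (by
        show code (sp * sp) = code 1
        rw [code_mu, hspC, model_rels.2.2, code_one]))
      twist := fun w hw => by
        have h := S.twist w hw
        rw [hφ, hσ] at h
        refine Prod.ext h (code_injective ?_)
        show code (φ (R.wel w.1) * sp) = code (sp * φ (R.wel w.2))
        rw [code_mu, code_mu, hcd, hcd, hspC]
        exact model_rels.2.1 w hw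
      rel := fun zs hzs => by
        have h := S.rel zs hzs
        rw [hφ, hσ] at h
        refine Prod.ext ?_ (code_injective ?_)
        · rw [← MonoidHom.coe_fst, map_list_prod, List.map_map]
          exact h
        · rw [← MonoidHom.coe_snd, map_list_prod, List.map_map, map_one, code_one, ← model_rels.1 zs hzs]
          clear h hzs
          induction zs with
          | nil => exact code_one
          | cons z zs ih =>
            rw [List.map_cons, List.prod_cons, code_mu, ih]
            show mu (code (φ (R.wel z.1) * sp)) _ = mu (mu (DcMain.cert.ev mu z.1) sigC) _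
            rw [code_mu, hcd, hspC]
            rfl }
  set K := Subgroup.closure (Set.range S'.φ ∪ {S'.σ}) with hK
  have hb : Nat.card K ≤ 7680 * 5775 := by
    have := Spor.DCoset.card_le S' main_ok card_cent main_nodup
    rwa [main_total] at this
  -- the generators
  have htop : Subgroup.closure (Set.range fun k : Fin 8 => F.gH (gSel.getD k.1 0)) = ⊤ := IsModel.rep_top hS
  have hφX : φ.range ≤ X0 := by
    rw [MonoidHom.range_eq_map, ← htop, MonoidHom.map_closure, Subgroup.closure_le]
    rintro _ ⟨_, ⟨k, rfl⟩, rfl⟩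
    have hl : gSel.getD k.1 0 < 11 := (by decide : ∀ k : Fin 8, gSel.getD k.1 0 < 11) k
    exact Subgroup.subset_closure ⟨_, hl.trans (by norm_num), (pl_lt hl).trans (M.2 _ hl).symm⟩
  have hsnd : K.map (MonoidHom.snd G (Equiv.Perm (Fin 100))) = X0 := by
    refine le_antisymm ?_ ?_
    · rw [Subgroup.map_le_iff_le_comap, Subgroup.closure_le]
      rintro z (⟨h, rfl⟩ | hz)
      · exact hφX ⟨h, rfl⟩
      · rw [Set.mem_singleton_iff.1 hz]
        exact Subgroup.subset_closure ⟨11, by norm_num, rfl⟩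
    · rw [X0, Subgroup.closure_le]
      rintro z ⟨k, hk, rfl⟩
      by_cases h11 : k = 11
      · subst h11
        exact ⟨S'.σ, Subgroup.subset_closure (Or.inr rfl), rfl⟩
      · refine ⟨S'.φ (F.gH k), Subgroup.subset_closure (Or.inl ⟨_, rfl⟩), ?_⟩
        show φ (F.gH k) = pl k
        rw [M.2 k (by omega), pl_lt (by omega)]
  have hdvd : 7680 ∣ Nat.card ↥X0 := by
    rw [← card_cent (L := L)]
    refine Subgroup.card_dvd_of_injective (φ.codRestrict X0 fun h => hφX ⟨h, rfl⟩) fun a b e => ?_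
    exact M.1 (congrArg Subtype.val e)
  obtain ⟨⟨eX⟩, hcard⟩ := x0_equiv hdvd
  obtain ⟨hs, hH⟩ := Spor.HSUnique.modelH_spec
  haveI := hs
  haveI : IsSimpleGroup ↥X0 := eX.isSimpleGroup
  let p2 : ↥K →* ↥X0 := ((MonoidHom.snd G _).comp K.subtype).codRestrict X0 fun z => hsnd ▸ ⟨z, z.2, rfl⟩
  have p2surj : Function.Surjective p2 := by
    rintro ⟨y, hy⟩
    obtain ⟨z, hz, e⟩ := hsnd.symm ▸ hy
    exact ⟨⟨z, hz⟩, Subtype.ext e⟩
  have p2bij := (Nat.bijective_iff_surjective_and_card p2).2
    ⟨p2surj, le_antisymm (hb.trans (by rw [hcard])) (Nat.card_le_card_of_surjective p2 p2surj)⟩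
  haveI : IsSimpleGroup ↥K := (MulEquiv.ofBijective p2 p2bij).isSimpleGroup
  have hfst : K.map (MonoidHom.fst G (Equiv.Perm (Fin 100))) = T.X := by
    refine le_antisymm ?_ ?_
    · rw [Subgroup.map_le_iff_le_comap, Subgroup.closure_le]
      rintro z (⟨h, rfl⟩ | hz)
      · exact T.cent_le_X h.2
      · rw [Set.mem_singleton_iff.1 hz]
        exact T.sigma_mem
    · rw [X, Subgroup.closure_le]
      rintro z (hz | hz)
      · exact ⟨S'.φ ⟨z, hz⟩, Subgroup.subset_closure (Or.inl ⟨_, rfl⟩), rfl⟩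
      · rw [Set.mem_singleton_iff.1 hz]
        exact ⟨S'.σ, Subgroup.subset_closure (Or.inr rfl), rfl⟩
  let p1 : ↥K →* ↥T.X := ((MonoidHom.fst G _).comp K.subtype).codRestrict T.X fun z => hfst ▸ ⟨z, z.2, rfl⟩
  have p1surj : Function.Surjective p1 := by
    rintro ⟨y, hy⟩
    obtain ⟨z, hz, e⟩ := hfst.symm ▸ hy
    exact ⟨⟨z, hz⟩, Subtype.ext e⟩
  have p1inj : Function.Injective p1 := by
    rw [← MonoidHom.ker_eq_bot_iff]
    rcases IsSimpleGroup.eq_bot_or_eq_top_of_normal p1.ker inferInstance with h | h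
    · exact h
    · exfalso
      have hm : (⟨S'.σ, Subgroup.subset_closure (Or.inr rfl)⟩ : ↥K) ∈ p1.ker := h ▸ Subgroup.mem_top _
      have e : T.σ = 1 := congrArg Subtype.val (MonoidHom.mem_ker.1 hm)
      exact T.not_mem M (e ▸ one_mem _)
  let e1 := MulEquiv.ofBijective p1 ⟨p1inj, p1surj⟩
  let e2 := MulEquiv.ofBijective p2 p2bij
  let ι : ↥T.X →* Equiv.Perm (Fin 100) := X0.subtype.comp (e1.symm.trans e2).toMonoidHom
  have hval : ∀ z : ↥K, ι (p1 z) = z.1.2 := fun z => by
    show ((e2 (e1.symm (e1 z))) : Equiv.Perm (Fin 100)) = _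
    rw [e1.symm_apply_apply]
    rfl
  obtain ⟨ehs⟩ := model_hs
  refine ⟨ι, fun a b e => (e1.symm.trans e2).injective (Subtype.ext e), ?_, fun h => ?_, ?_, ?_, ?_, ?_⟩
  · ext y
    constructor
    · rintro ⟨x, rfl⟩; exact ((e1.symm.trans e2) x).2
    · intro hy
      refine ⟨(e1.symm.trans e2).symm ⟨y, hy⟩, ?_⟩
      show (((e1.symm.trans e2) ((e1.symm.trans e2).symm ⟨y, hy⟩)) : Equiv.Perm (Fin 100)) = y
      rw [MulEquiv.apply_symm_apply]
  · exact hval ⟨S'.φ h, Subgroup.subset_closure (Or.inl ⟨h, rfl⟩)⟩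
  · exact hval ⟨S'.σ, Subgroup.subset_closure (Or.inr rfl)⟩
  · rw [Nat.card_congr (e1.symm.trans e2).toEquiv, hcard]
  · exact ((e1.symm.trans e2).trans eX).isSimpleGroup
  · exact ⟨((e1.symm.trans e2).trans eX).trans ehs⟩

end Twist

end Lifts

end Cfsg.Agent.HSTwoLocal
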