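import Cfsg.Agent.Lib.Spor.HSTwoLocal.NormalFacts

/-!
Tuples of three generators of the centralizer of the involution modulo its 2-core, and finite facts about them.
-/

set_option autoImplicit false
set_option maxRecDepth 100000
set_option maxHeartbeats 1000000
set_option synthInstance.maxSize 1000

namespace Cfsg.Agent.HSTwoLocal

/-- the element of order three -/
def twT : Tup := (1, 10, 12, 48, 16)

/-- the element of order five -/
def tbT : Tup := (1, 23, 41, 59, 31)

/-- the odd involution -/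
def txT : Tup := (3, 10, 6, 32, 16)

/-- codes of the letters inside the 2-core -/
def lgC : List ℕ := [1, 3, 4, 8, 16, 32]

/-- code of a word in these letters -/
def wcC : List ℕ → ℕ
  | [] => 0
  | k :: w => rmul (lgC.getD k 0) (wcC w)

/-- the inverse letter -/
def ivT : List ℕ := [1, 0, 2, 3, 4, 5, 7, 6, 9, 8, 10, 11, 12, 13, 14, 15]

/-- the inverse word -/
def winv (w : List ℕ) : List ℕ := w.reverse.map fun k => ivT.getD k 0

/-- tuples of the letters -/
def ltT (k : ℕ) : Tup :=
  if k < 6 then innT (lgC.getD k 0) else if k = 6 then twT else if k = 7 then compT twT twT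
  else if k = 8 then tbT else if k = 9 then compT (compT tbT tbT) (compT tbT tbT) else txT

/-- tuple of a word -/
def wT : List ℕ → Tup
  | [] => idT
  | k :: w => compT (ltT k) (wT w)

/-- the code of the square of the product of the first two generators -/
def kcode : ℕ := 21

/-- the word inverted by conjugation -/
def conjW : List ℕ := [0, 3, 4, 5, 8, 7, 8, 8, 8, 6, 9, 5, 4, 3, 1]

/-- a word centralising the normal elementary subgroup -/
def uW : List ℕ := [9, 6, 8, 8]

theorem gen_mem : outT twT ∈ evA ++ oddA ∧ outT tbT ∈ evA ++ oddA ∧ outT txT ∈ evA ++ oddA ∧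
    okT twT = true ∧ okT tbT = true ∧ okT txT = true := by decide +kernel

theorem shift_w : ∀ i j k l : Fin 4, okT (1, 8 + i.1, 12 + j.1, 48 + k.1, 16 + l.1) = true →
    ∃ r : Fin 16, compT (innT (4 * r.1)) (1, 8 + i.1, 12 + j.1, 48 + k.1, 16 + l.1) = twT := by decide +kernel

theorem shift_b : ∀ i j k l : Fin 4, okT (1, 20 + i.1, 40 + j.1, 56 + k.1, 28 + l.1) = true →
    ∃ r : Fin 16, compT (innT (4 * r.1)) (1, 20 + i.1, 40 + j.1, 56 + k.1, 28 + l.1) = tbT := by decide +kernel

theorem shift_x : ∀ i j k l : Fin 4, okT (3, 8 + i.1, 4 + j.1, 32 + k.1, 16 + l.1) = true →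
    ∃ r : Fin 16, compT (innT (4 * r.1)) (3, 8 + i.1, 4 + j.1, 32 + k.1, 16 + l.1) = txT := by decide +kernel

theorem tuple_eqs : compT (compT twT twT) twT = idT ∧ compT (compT (compT (compT tbT tbT) tbT) tbT) tbT = idT ∧
    compT txT txT = idT ∧ compT (compT txT twT) txT = compT twT twT ∧
    compT (compT txT tbT) txT = wT conjW ∧ wT [6, 8, 6, 8] = innT kcode ∧
    wT uW = (1, 4, 8, 31, 38) ∧ wT ([6] ++ uW ++ [7]) = (1, 4, 8, 24, 47) := by decide +kernel

theorem inner_small : innT 0 = idT ∧ ∀ i : Fin 4, innT i.1 = idT := by decide +kernel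

theorem inner_code : ∀ r : Fin 64, ∀ g ∈ [1, 4, 8, 16, 32],
    rmul (rmul r.1 g) (rinv r.1) < 64 := by decide +kernel

theorem square_shift : ∀ r : Fin 64, ∀ i : Fin 4, rmul (rmul r.1 (appT txT r.1)) i.1 = 0 →
    appT txT i.1 = i.1 → i.1 = 0 := by decide +kernel

theorem odd_conj : ∀ m ∈ evA ++ oddA, colM m 0 = 1 → colM m 1 = 3 → omul m m = oneM →
    ∃ e ∈ evA, omul e m = omul (outT txT) e := by decide +kernel

theorem centre_root : ∀ i : Fin 4, rpow i.1 4 = 0 ∧ rpow i.1 1 = i.1 ∧ (rpow i.1 3 = 0 → i.1 = 0) ∧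
    (rpow i.1 5 = 0 → i.1 = 0) := by decide +kernel

theorem centre_mul : ∀ i j : Fin 4, rmul i.1 j.1 = rmul j.1 i.1 ∧ rmul i.1 j.1 < 4 := by decide +kernel

theorem cover_gen : (∀ m ∈ evA, m ∈ closG [outT twT, outT tbT] 20 [oneM]) ∧
    ∀ m ∈ oddA, m ∈ evA.map (omul (outT txT)) := by decide +kernel

end Cfsg.Agent.HSTwoLocal
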