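import Cfsg.Agent.Lib.Spor.HSTwoLocal.Normal
import Cfsg.Agent.Lib.Spor.HSTwoLocal.LiftFacts

/-!
Generators of the centralizer of the involution with prescribed action on its 2-core.
-/

set_option autoImplicit false
set_option maxRecDepth 100000
set_option maxHeartbeats 1000000
set_option linter.style.haveILetI false

namespace Cfsg.Agent.HSTwoLocal

/-- value of a word -/
def wev {G : Type*} [Group G] (f : ℕ → G) (l : List ℕ) : G := (l.map f).prod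

namespace Loc

variable {G : Type*} [Group G] (L : Loc G)

theorem psi_inv {r : ℕ} (hr : r < 64) : (L.co.ψ r)⁻¹ = L.co.ψ (rinv r) := by
  obtain ⟨l, -, -, -, e⟩ := rinv_spec ⟨r, hr⟩
  refine inv_eq_of_mul_eq_one_right ?_
  rw [← L.co.mul r _ hr l, e, L.psi_zero]

theorem conj_code {r x : ℕ} (hr : r < 64) (hx : x < 64) :
    L.cd (L.co.ψ r * L.co.ψ x * (L.co.ψ r)⁻¹) = rmul (rmul r x) (rinv r) := by
  have l := (rinv_spec ⟨r, hr⟩).1
  have l2 := rmul_lt ⟨r, hr⟩ ⟨x, hx⟩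
  rw [L.psi_inv hr, ← L.co.mul _ _ hr hx, ← L.co.mul _ _ l2 l]
  exact L.cd_self (rmul_lt ⟨_, l2⟩ ⟨_, l⟩)

theorem im_psi {r : ℕ} (hr : r < 64) : L.im (L.co.ψ r) = innT r := by
  simp only [im, innT]
  rw [L.conj_code hr (by norm_num), L.conj_code hr (by norm_num), L.conj_code hr (by norm_num),
    L.conj_code hr (by norm_num), L.conj_code hr (by norm_num)]

theorem im_one : L.im 1 = idT := by
  rw [← L.psi_zero, L.im_psi (by norm_num), inner_small.1]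

/-- the effect of an element with a known tuple -/
theorem conj_eq {h : G} (hh : L.inH h) {T : Tup} (e : L.im h = T) {x : ℕ} (hx : x < 64) :
    appT T x < 64 ∧ h * L.co.ψ x * h⁻¹ = L.co.ψ (appT T x) := by
  obtain ⟨l, e'⟩ := L.act hh hx
  rw [e] at l e'
  exact ⟨l, e'.symm⟩

theorem central {h : G} (hh : L.inH h) (e : L.im h = idT) : ∃ i < 4, L.co.ψ i = h := by
  refine L.cent_R hh fun x hx => ?_
  obtain ⟨y, hy, rfl⟩ := (L.co.mem x).1 hx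
  obtain ⟨-, e'⟩ := L.conj_eq hh e hy
  rw [appT_id ⟨y, hy⟩, mul_inv_eq_iff_eq_mul] at e'
  exact e'

/-- a power fixed by the inner shift -/
theorem adjust {h : G} (hh : L.inH h) {T : Tup} (e : L.im h = T) (hT : T.1 = 1) {i : ℕ} (hi : i < 4) :
    Commute h (L.co.ψ i) := by
  obtain ⟨l, e'⟩ := L.conj_eq hh e (x := i) (by omega)
  have key : appT T i = rpow 1 i := by
    have h4 : i / 4 = 0 := by omega
    have h8 : i / 8 = 0 := by omega
    have h16 : i / 16 = 0 := by omega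
    have h32 : i / 32 = 0 := by omega
    show rmul (rmul (rmul (rmul (rpow T.1 (i % 4)) (rpow T.2.1 (i / 4 % 2))) (rpow T.2.2.1 (i / 8 % 2)))
      (rpow T.2.2.2.1 (i / 16 % 2))) (rpow T.2.2.2.2 (i / 32 % 2)) = _
    rw [hT, h4, h8, h16, h32, Nat.mod_eq_of_lt hi]
    exact (by decide +kernel : ∀ i : Fin 4, rmul (rmul (rmul (rmul (rpow 1 i.1) 0) 0) 0) 0 = rpow 1 i.1) ⟨i, hi⟩
  rw [key, (by decide +kernel : ∀ i : Fin 4, rpow 1 i.1 = i.1) ⟨i, hi⟩, mul_inv_eq_iff_eq_mul] at e'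
  exact e'

theorem im_shift {h : G} (hh : L.inH h) {i : ℕ} (hi : i < 4) :
    L.inH (L.co.ψ i * h) ∧ L.im (L.co.ψ i * h) = L.im h := by
  refine ⟨(L.inH_psi (by omega)).mul hh, ?_⟩
  rw [L.im_mul (L.inH_psi (by omega)) hh, L.im_psi (by omega), inner_small.2 ⟨i, hi⟩]
  obtain ⟨h1, h2, h3, h4, h5, -⟩ := okT_bounds (L.im_ok hh)
  simp only [compT, appT_id ⟨_, h1⟩, appT_id ⟨_, h2⟩, appT_id ⟨_, h3⟩, appT_id ⟨_, h4⟩, appT_id ⟨_, h5⟩]

theorem root_one {h : G} {T : Tup} (hh : L.inH h) (e : L.im h = T) (hT : T.1 = 1) {n : ℕ} (hn : n = 3 ∨ n = 5)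
    (hpow : L.im (h ^ n) = idT) : ∃ h', L.inH h' ∧ L.im h' = T ∧ h' ^ n = 1 := by
  obtain ⟨i, hi, hie⟩ := L.central (hh.pow n) hpow
  obtain ⟨j, hj, hsum⟩ : ∃ j < 4, rmul (rpow j n) i = 0 := by
    rcases hn with rfl | rfl
    · exact (by decide +kernel : ∀ i : Fin 4, ∃ j < 4, rmul (rpow j 3) i.1 = 0) ⟨i, hi⟩
    · exact (by decide +kernel : ∀ i : Fin 4, ∃ j < 4, rmul (rpow j 5) i.1 = 0) ⟨i, hi⟩
  obtain ⟨h1, h2⟩ := L.im_shift hh hj
  refine ⟨_, h1, h2.trans e, ?_⟩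
  obtain ⟨l, e'⟩ := L.psi_rpow (x := j) (by omega) n
  rw [((L.adjust hh e hT hj).symm).mul_pow, ← e', ← hie, ← L.co.mul _ _ l (by omega), hsum, L.psi_zero]

/-- elements with the same tuple and the same odd order coincide -/
theorem root_unique {g h : G} (hg : L.inH g) (hh : L.inH h) {T : Tup} (eg : L.im g = T) (eh : L.im h = T)
    (hT : T.1 = 1) {n : ℕ} (hn : n = 3 ∨ n = 5) (pg : g ^ n = 1) (ph : h ^ n = 1) : g = h := by
  have hi : L.im (h⁻¹ * g) = idT := by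
    rw [L.im_mul hh.inv hg, eg, ← eh, ← L.im_mul hh.inv hh, inv_mul_cancel, L.im_one]
  obtain ⟨i, hi4, e⟩ := L.central (hh.inv.mul hg) hi
  have hc : Commute h (L.co.ψ i) := L.adjust hh eh hT hi4
  have e1 : L.co.ψ i ^ n = 1 := by
    have : (h * L.co.ψ i) ^ n = 1 := by rw [e, mul_inv_cancel_left, pg]
    rwa [hc.mul_pow, ph, one_mul] at this
  obtain ⟨l, e2⟩ := L.psi_rpow (x := i) (by omega) n
  have hz : rpow i n = 0 := L.co.inj _ _ l (by norm_num) (by rw [e2, e1, L.psi_zero])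
  have hi0 : i = 0 := by
    rcases hn with rfl | rfl
    · exact (centre_root ⟨i, hi4⟩).2.2.1 hz
    · exact (centre_root ⟨i, hi4⟩).2.2.2 hz
  rw [hi0, L.psi_zero] at e
  exact inv_mul_eq_one.1 e.symm ▸ rfl

/-- a realised image is realised with the given tuple -/
theorem exists_shift {h : G} (hh : L.inH h) {T : Tup} (hT : okT T = true) (ho : L.o h = outT T)
    (dec : ∀ i j k l : Fin 4, okT (T.1, 4 * (T.2.1 / 4) + i.1, 4 * (T.2.2.1 / 4) + j.1, 4 * (T.2.2.2.1 / 4) + k.1,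
      4 * (T.2.2.2.2 / 4) + l.1) = true → ∃ r : Fin 16, compT (innT (4 * r.1)) (T.1, 4 * (T.2.1 / 4) + i.1,
      4 * (T.2.2.1 / 4) + j.1, 4 * (T.2.2.2.1 / 4) + k.1, 4 * (T.2.2.2.2 / 4) + l.1) = T) :
    ∃ r, r < 64 ∧ L.inH (L.co.ψ r * h) ∧ L.im (L.co.ψ r * h) = T := by
  have hS := L.im_ok hh
  obtain ⟨s1, s2, s3, s4, s5, s6⟩ := okT_bounds hS
  obtain ⟨t1, t2, t3, t4, t5, t6⟩ := okT_bounds hT
  obtain ⟨a0, a1, a2, a3, a4⟩ := colM_outT s2 s3 s4 s5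
  obtain ⟨b0, b1, b2, b3, b4⟩ := colM_outT t2 t3 t4 t5
  have ho' : outT (L.im h) = outT T := ho
  rw [ho'] at a0 a1 a2 a3 a4
  have e1 : (L.im h).1 = T.1 := by
    have := a4.symm.trans b4
    rcases s6 with p | p <;> rcases t6 with q | q <;> rw [p, q] at this ⊢ <;> first | rfl | exact absurd this (by decide)
  have e : L.im h = (T.1, 4 * (T.2.1 / 4) + (L.im h).2.1 % 4, 4 * (T.2.2.1 / 4) + (L.im h).2.2.1 % 4,
      4 * (T.2.2.2.1 / 4) + (L.im h).2.2.2.1 % 4, 4 * (T.2.2.2.2 / 4) + (L.im h).2.2.2.2 % 4) := by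
    rw [← a0.symm.trans b0, ← a1.symm.trans b1, ← a2.symm.trans b2, ← a3.symm.trans b3, ← e1,
      Nat.div_add_mod, Nat.div_add_mod, Nat.div_add_mod, Nat.div_add_mod]
  rw [e] at hS
  obtain ⟨r, hr⟩ := dec ⟨_, Nat.mod_lt _ (by norm_num)⟩ ⟨_, Nat.mod_lt _ (by norm_num)⟩ ⟨_, Nat.mod_lt _ (by norm_num)⟩
    ⟨_, Nat.mod_lt _ (by norm_num)⟩ hS
  have hr64 : 4 * r.1 < 64 := by omega
  refine ⟨_, hr64, (L.inH_psi hr64).mul hh, ?_⟩
  rw [L.im_mul (L.inH_psi hr64) hh, L.im_psi hr64, e]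
  exact hr

variable (w b x : G)

/-- the letters -/
def glt (k : ℕ) : G :=
  if k < 6 then L.co.ψ (lgC.getD k 0) else if k = 6 then w else if k = 7 then w⁻¹ else if k = 8 then b
  else if k = 9 then b⁻¹ else if k = 10 then x else 1

end Loc

/-- three generators over the 2-core -/
structure Lifts {G : Type*} [Group G] (L : Loc G) where
  w : G
  b : G
  x : G
  hw : L.inH w
  hb : L.inH b
  hx : L.inH x
  iw : L.im w = twT
  ib : L.im b = tbT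
  ix : L.im x = txT
  w3 : w ^ 3 = 1
  b5 : b ^ 5 = 1
  x2 : x * x = 1

namespace Lifts

variable {G : Type*} [Group G] {L : Loc G} (F : Lifts L)

/-- the letters -/
abbrev g (k : ℕ) : G := L.glt F.w F.b F.x k

theorem lgC_lt : ∀ k : Fin 6, lgC.getD k.1 0 < 64 ∧ lgC.getD (ivT.getD k.1 0) 0 = rinv (lgC.getD k.1 0) ∧
    ivT.getD k.1 0 < 6 := by decide +kernel

theorem g_inv : ∀ k, k < 16 → F.g (ivT.getD k 0) = (F.g k)⁻¹ := by
  intro k hk
  by_cases h : k < 6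
  · obtain ⟨h1, h2, h3⟩ := lgC_lt ⟨k, h⟩
    rw [g, g, Loc.glt, if_pos h3, Loc.glt, if_pos h, h2, L.psi_inv h1]
  · interval_cases k <;> simp [g, Loc.glt, ivT]
    exact eq_inv_of_mul_eq_one_left F.x2

theorem g_spec : ∀ k, k < 11 → L.inH (F.g k) ∧ L.im (F.g k) = ltT k := by
  intro k hk
  by_cases h : k < 6
  · obtain ⟨h1, -, -⟩ := lgC_lt ⟨k, h⟩
    simp only [g, Loc.glt, if_pos h, ltT]
    exact ⟨L.inH_psi h1, L.im_psi h1⟩
  · interval_cases k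
    · exact ⟨F.hw, F.iw⟩
    · refine ⟨F.hw.inv, ?_⟩
      show L.im F.w⁻¹ = compT twT twT
      have e : F.w⁻¹ = F.w * F.w := inv_eq_of_mul_eq_one_right (by rw [← F.w3, pow_succ, pow_two, mul_assoc])
      rw [e, L.im_mul F.hw F.hw, F.iw]
    · exact ⟨F.hb, F.ib⟩
    · refine ⟨F.hb.inv, ?_⟩
      show L.im F.b⁻¹ = compT (compT tbT tbT) (compT tbT tbT)
      have e : F.b⁻¹ = (F.b * F.b) * (F.b * F.b) := inv_eq_of_mul_eq_one_right (by
        rw [← F.b5]; simp [pow_succ, mul_assoc])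
      rw [e, L.im_mul (F.hb.mul F.hb) (F.hb.mul F.hb), L.im_mul F.hb F.hb, F.ib]
    · exact ⟨F.hx, F.ix⟩

theorem wev_spec : ∀ l : List ℕ, (∀ k ∈ l, k < 11) → L.inH (wev F.g l) ∧ L.im (wev F.g l) = wT l
  | [], _ => ⟨Commute.one_left _, L.im_one⟩
  | k :: l, h => by
    obtain ⟨a1, a2⟩ := wev_spec l fun j hj => h j (List.mem_cons_of_mem _ hj)
    obtain ⟨b1, b2⟩ := F.g_spec k (h k (List.mem_cons_self ..))
    refine ⟨?_, ?_⟩
    · exact b1.mul a1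
    · show L.im (F.g k * wev F.g l) = compT (ltT k) (wT l)
      rw [L.im_mul b1 a1, a2, b2]

theorem wev_code : ∀ l : List ℕ, (∀ k ∈ l, k < 6) → wcC l < 64 ∧ wev F.g l = L.co.ψ (wcC l)
  | [], _ => ⟨by show (0 : ℕ) < 64; norm_num, L.psi_zero.symm⟩
  | k :: l, h => by
    obtain ⟨h1, h2⟩ := wev_code l fun j hj => h j (List.mem_cons_of_mem _ hj)
    have hk := h k (List.mem_cons_self ..)
    refine ⟨rmul_lt ⟨_, (lgC_lt ⟨k, hk⟩).1⟩ ⟨_, h1⟩, ?_⟩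
    show F.g k * wev F.g l = L.co.ψ (rmul _ _)
    rw [L.co.mul _ _ (lgC_lt ⟨k, hk⟩).1 h1, ← h2, g, Loc.glt, if_pos hk]

theorem wev_winv : ∀ l : List ℕ, (∀ k ∈ l, k < 16) → wev F.g (winv l) = (wev F.g l)⁻¹
  | [], _ => by simp [wev, winv]
  | k :: l, h => by
    have h2 := wev_winv l fun j hj => h j (List.mem_cons_of_mem _ hj)
    simp only [wev, winv, List.reverse_cons, List.map_append, List.prod_append, List.map_cons, List.map_nil,
      List.prod_cons, List.prod_nil, mul_one, mul_inv_rev] at h2 ⊢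
    rw [h2, F.g_inv k (h k (List.mem_cons_self ..))]

theorem xwx : F.x * F.w * F.x = F.w⁻¹ := by
  have hxi : F.x⁻¹ = F.x := inv_eq_of_mul_eq_one_right F.x2
  refine L.root_unique (T := compT twT twT) ((F.hx.mul F.hw).mul F.hx) F.hw.inv ?_ (F.g_spec 7 (by norm_num)).2
    (by decide +kernel) (Or.inl rfl) ?_ (by rw [inv_pow, F.w3, inv_one])
  · rw [L.im_mul (F.hx.mul F.hw) F.hx, L.im_mul F.hx F.hw, F.ix, F.iw, tuple_eqs.2.2.2.1]
  · rw [show F.x * F.w * F.x = F.x * F.w * F.x⁻¹ by rw [hxi], conj_pow, F.w3, mul_one, mul_inv_cancel]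

theorem xbx : F.x * F.b * F.x = wev F.g conjW := by
  have hxi : F.x⁻¹ = F.x := inv_eq_of_mul_eq_one_right F.x2
  obtain ⟨s1, s2⟩ := F.wev_spec conjW (by decide)
  refine L.root_unique (T := wT conjW) ((F.hx.mul F.hb).mul F.hx) s1 ?_ s2 (by decide +kernel) (Or.inr rfl) ?_ ?_
  · rw [L.im_mul (F.hx.mul F.hb) F.hx, L.im_mul F.hx F.hb, F.ix, F.ib, tuple_eqs.2.2.2.2.1]
  · rw [show F.x * F.b * F.x = F.x * F.b * F.x⁻¹ by rw [hxi], conj_pow, F.b5, mul_one, mul_inv_cancel]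
  · set z := wev F.g [0, 3, 4, 5, 8, 7] with hz
    have e : wev F.g conjW = z * F.b ^ 3 * z⁻¹ := by
      rw [hz, ← F.wev_winv _ (by decide)]
      simp [wev, conjW, winv, ivT, g, Loc.glt, lgC, pow_succ, mul_assoc]
    rw [e, conj_pow, ← pow_mul, show 3 * 5 = 5 * 3 from rfl, pow_mul, F.b5, one_pow, mul_one, mul_inv_cancel]

theorem wb_sq : ∃ j < 4, F.w * F.b * (F.w * F.b) = L.co.ψ (rmul kcode j) := by
  obtain ⟨s1, s2⟩ := F.wev_spec [6, 8, 6, 8] (by decide)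
  have e : wev F.g [6, 8, 6, 8] = F.w * F.b * (F.w * F.b) := by simp [wev, g, Loc.glt, mul_assoc]
  rw [e] at s1 s2
  have hk : kcode < 64 := by decide
  have hc : L.im ((L.co.ψ kcode)⁻¹ * (F.w * F.b * (F.w * F.b))) = idT := by
    rw [L.im_mul (L.inH_psi hk).inv s1, s2, tuple_eqs.2.2.2.2.2.1, ← L.im_psi hk,
      ← L.im_mul (L.inH_psi hk).inv (L.inH_psi hk), inv_mul_cancel, L.im_one]
  obtain ⟨i, hi, ei⟩ := L.central ((L.inH_psi hk).inv.mul s1) hc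
  exact ⟨i, hi, by rw [L.co.mul _ _ hk (by omega), ei, mul_inv_cancel_left]⟩

theorem comm_u : Commute (wev F.g uW) (wev F.g ([6] ++ uW ++ [7])) := by
  have key : ∀ l, (∀ k ∈ l, k < 11) → appT (wT l) 4 = 4 → appT (wT l) 8 = 8 → ∀ v ∈ L.V, Commute (wev F.g l) v := by
    intro l hl a4 a8
    obtain ⟨s1, s2⟩ := F.wev_spec l hl
    have cm : ∀ a, a < 64 → appT (wT l) a = a → Commute (wev F.g l) (L.co.ψ a) := fun a ha e => by
      have := (L.conj_eq s1 s2 ha).2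
      rw [e, mul_inv_eq_iff_eq_mul] at this
      exact this
    exact L.cent_V s1 (cm 4 (by norm_num) a4) (cm 8 (by norm_num) a8)
  exact L.cent_comm _ _ (key uW (by decide) (by rw [tuple_eqs.2.2.2.2.2.2.1]; decide +kernel)
      (by rw [tuple_eqs.2.2.2.2.2.2.1]; decide +kernel))
    (key ([6] ++ uW ++ [7]) (by decide) (by rw [tuple_eqs.2.2.2.2.2.2.2]; decide +kernel)
      (by rw [tuple_eqs.2.2.2.2.2.2.2]; decide +kernel))

end Lifts

namespace Loc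

variable {G : Type*} [Group G] {L : Loc G}

/-- an involution in the class of the third generator -/
theorem exists_invol [Finite G] (hS : L.Std) : ∃ h, L.inH h ∧ L.o h = outT txT ∧ h * h = 1 := by
  obtain ⟨g, g2, g4, g8⟩ := L.move 2 3 4 (by norm_num) (by norm_num) (by norm_num) (by decide)
  set h := g * L.co.ψ 32 * g⁻¹ with hh'
  have hcj : ∀ a b, g * L.co.ψ a * g⁻¹ = L.co.ψ b → ∀ c, c < 64 → a < 64 → rmul 32 a = rmul c 32 →
      h * L.co.ψ b * h⁻¹ = g * L.co.ψ c * g⁻¹ := by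
    intro a b e c hc ha he
    have hc' : L.co.ψ 32 * L.co.ψ a = L.co.ψ c * L.co.ψ 32 := by
      rw [← L.co.mul _ _ (by norm_num) ha, ← L.co.mul _ _ hc (by norm_num), he]
    rw [← e, hh']
    calc g * L.co.ψ 32 * g⁻¹ * (g * L.co.ψ a * g⁻¹) * (g * L.co.ψ 32 * g⁻¹)⁻¹
        = g * (L.co.ψ 32 * L.co.ψ a) * (L.co.ψ 32)⁻¹ * g⁻¹ := by group
      _ = _ := by rw [hc']; group
  have g2' : g * L.co.ψ 2 * g⁻¹ = L.co.ψ 4 := g2
  have g4' : g * L.co.ψ 4 * g⁻¹ = L.co.ψ 6 := g4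
  have g8' : g * L.co.ψ 8 * g⁻¹ = L.co.ψ 8 := g8
  have f4 : h * L.co.ψ 4 * h⁻¹ = L.co.ψ 4 := by
    rw [hcj 2 4 g2' 2 (by norm_num) (by norm_num) (by decide +kernel), g2']
  have f6 : h * L.co.ψ 6 * h⁻¹ = L.co.ψ 6 := by
    rw [hcj 4 6 g4' 4 (by norm_num) (by norm_num) (by decide +kernel), g4']
  have f8 : h * L.co.ψ 8 * h⁻¹ = L.co.ψ 12 := by
    rw [hcj 8 8 g8' (rmul 2 8) (by decide +kernel) (by norm_num) (by decide +kernel), L.co.mul _ _ (by norm_num) (by norm_num),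
      show g * (L.co.ψ 2 * L.co.ψ 8) * g⁻¹ = (g * L.co.ψ 2 * g⁻¹) * (g * L.co.ψ 8 * g⁻¹) by group, g2', g8',
      ← L.co.mul _ _ (by norm_num) (by norm_num)]
    exact congrArg _ (by decide +kernel)
  have f2 : h * L.co.ψ 2 * h⁻¹ = L.co.ψ 2 := by
    have e : L.co.ψ 2 = L.co.ψ 6 * L.co.ψ 4 := by
      rw [← L.co.mul _ _ (by norm_num) (by norm_num), show rmul 6 4 = 2 by decide +kernel]
    rw [e]
    calc h * (L.co.ψ 6 * L.co.ψ 4) * h⁻¹ = (h * L.co.ψ 6 * h⁻¹) * (h * L.co.ψ 4 * h⁻¹) := by group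
      _ = _ := by rw [f6, f4]
  have hh : L.inH h := mul_inv_eq_iff_eq_mul.1 f2
  have hsq : h * h = 1 := by
    rw [hh', show g * L.co.ψ 32 * g⁻¹ * (g * L.co.ψ 32 * g⁻¹) = g * (L.co.ψ 32 * L.co.ψ 32) * g⁻¹ by group,
      ← L.co.mul _ _ (by norm_num) (by norm_num), show rmul 32 32 = 0 by decide +kernel, L.psi_zero]
    group
  obtain ⟨b1, b2, b3, b4, b5, -⟩ := okT_bounds (L.im_ok hh)
  obtain ⟨c0, c1, -, -, -⟩ := colM_outT b2 b3 b4 b5
  have a4 : (L.im h).2.1 = 4 := L.conj_psi_cols hh 4 (by norm_num) (by norm_num) f4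
  have a8 : (L.im h).2.2.1 = 12 := L.conj_psi_cols hh 8 (by norm_num) (by norm_num) f8
  rw [a4] at c0; rw [a8] at c1
  have hm2 : omul (L.o h) (L.o h) = oneM := by
    rw [← L.o_mul hh hh, hsq, ← L.psi_zero, L.o_psi (by norm_num)]
  obtain ⟨e, he, hc⟩ := odd_conj _ (hS.1 h hh) c0 c1 hm2
  obtain ⟨u, hu, rfl⟩ := hS.2 e (List.mem_append_left _ he)
  obtain ⟨v, hv, hvx⟩ := hS.2 _ gen_mem.2.2.1
  refine ⟨u * h * u⁻¹, (hu.mul hh).mul hu.inv, ?_, ?_⟩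
  · rw [← hvx, ← L.o_mul hu hh, ← L.o_mul hv hu] at hc
    rw [← hvx]
    refine (L.rho_eq_iff ((hu.mul hh).mul hu.inv) hv).1 ?_
    have q := (L.rho_eq_iff (hu.mul hh) (hv.mul hu)).2 hc
    show L.ρ (L.toH (u * h) (hu.mul hh) * (L.toH u hu)⁻¹) = _
    rw [map_mul, q, ← map_mul]
    refine congrArg L.ρ (Subtype.ext ?_)
    show v * u * u⁻¹ = v
    exact mul_inv_cancel_right v u
  · rw [show u * h * u⁻¹ * (u * h * u⁻¹) = u * (h * h) * u⁻¹ by group, hsq]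
    group

/-- the generators exist -/
theorem exists_lifts [Finite G] (hS : L.Std) : Nonempty (Lifts L) := by
  obtain ⟨mw, mb, -, okw, okb, okx⟩ := gen_mem
  obtain ⟨h₁, hh₁, o₁⟩ := hS.2 _ mw
  obtain ⟨h₂, hh₂, o₂⟩ := hS.2 _ mb
  obtain ⟨h₃, hh₃, o₃, sq₃⟩ := L.exists_invol hS
  obtain ⟨r₁, -, i₁, e₁⟩ := L.exists_shift hh₁ okw o₁ shift_w
  obtain ⟨r₂, -, i₂, e₂⟩ := L.exists_shift hh₂ okb o₂ shift_b
  obtain ⟨r₃, hr₃, i₃, e₃⟩ := L.exists_shift hh₃ okx o₃ shift_x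
  obtain ⟨w, hw, iw, w3⟩ := L.root_one i₁ e₁ (by decide) (Or.inl rfl) (by
    rw [pow_succ, pow_two, L.im_mul (i₁.mul i₁) i₁, L.im_mul i₁ i₁, e₁]; exact tuple_eqs.1)
  obtain ⟨b, hb, ib, b5⟩ := L.root_one i₂ e₂ (by decide) (Or.inr rfl) (by
    simp only [pow_succ, pow_zero, one_mul]
    rw [L.im_mul (((i₂.mul i₂).mul i₂).mul i₂) i₂, L.im_mul ((i₂.mul i₂).mul i₂) i₂, L.im_mul (i₂.mul i₂) i₂,
      L.im_mul i₂ i₂, e₂]
    exact tuple_eqs.2.1)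
  set x := L.co.ψ r₃ * h₃ with hx
  obtain ⟨i, hi, ei⟩ := L.central (i₃.mul i₃) (by rw [L.im_mul i₃ i₃, e₃]; exact tuple_eqs.2.2.1)
  have x2 : x * x = 1 := by
    obtain ⟨lr, e'⟩ := L.conj_eq i₃ e₃ ((rinv_spec ⟨r₃, hr₃⟩).1)
    obtain ⟨li, ei'⟩ := L.conj_eq i₃ e₃ (x := i) (by omega)
    have lr' := (rinv_spec ⟨r₃, hr₃⟩).1
    have fix : appT txT i = i := by
      refine L.co.inj _ _ li (by omega) ?_
      rw [← ei', ei]; group
    have key : rmul (rmul (rinv r₃) (appT txT (rinv r₃))) i = 0 := by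
      refine L.co.inj _ _ (rmul_lt ⟨_, rmul_lt ⟨_, lr'⟩ ⟨_, lr⟩⟩ ⟨i, by omega⟩) (by norm_num) ?_
      rw [L.co.mul _ _ (rmul_lt ⟨_, lr'⟩ ⟨_, lr⟩) (by omega), L.co.mul _ _ lr' lr, ← e', ← L.psi_inv hr₃, ei, hx,
        L.psi_zero]
      calc _ = h₃ * h₃ := by group
        _ = 1 := sq₃
    have e0 : i = 0 := square_shift ⟨_, lr'⟩ ⟨i, hi⟩ key fix
    rw [← ei, e0, L.psi_zero]
  exact ⟨⟨w, b, x, hw, hb, i₃, iw, ib, e₃, w3, b5, x2⟩⟩

end Loc

end Cfsg.Agent.HSTwoLocal
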