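import Cfsg.Agent.Lib.Spor.HSTwoLocal.RGroup
import Cfsg.Agent.Lib.Spor.GTwoTwoLocal.Lift
import Cfsg.Prelude.Def_CaseTheorems

/-!
The local data: the centralizer of the involution over its 2-core, and the normalizer of the elementary abelian
subgroup of order eight inducing all of its automorphisms.
-/

set_option autoImplicit false
set_option linter.style.haveILetI false

namespace Cfsg.Agent.HSTwoLocal

/-- a basis of the elementary abelian group of order eight, by numbers -/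
def isB (i j k : ℕ) : Bool :=
  Nat.blt 0 i && Nat.blt 0 j && Nat.blt 0 k && !(Nat.beq i j) && !(Nat.beq i k) && !(Nat.beq j k) &&
    !(Nat.beq (Nat.xor i j) k)

theorem isB_count : (Finset.univ.filter fun p : Fin 8 × Fin 8 × Fin 8 => isB p.1.1 p.2.1.1 p.2.2.1 = true).card = 168 := by
  decide +kernel

theorem even_codes : ∀ m n : Fin 8, rmul (2 * m.1) (2 * n.1) = 2 * Nat.xor m.1 n.1 ∧ 2 * m.1 < 16 := by decide +kernel

/-- the local data -/
structure Loc (G : Type*) [Group G] where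
  t : G
  R : Subgroup G
  V : Subgroup G
  co : RCoord t R V
  ρ : ↥(Subgroup.centralizer ({t} : Set G)) →* Equiv.Perm (Fin 5)
  ρ_surj : Function.Surjective ρ
  ρ_ker : ∀ h, ρ h = 1 ↔ (h : G) ∈ R
  move : ∀ i j k : ℕ, i < 8 → j < 8 → k < 8 → isB i j k = true →
    ∃ g : G, g * co.ψ 2 * g⁻¹ = co.ψ (2 * i) ∧ g * co.ψ 4 * g⁻¹ = co.ψ (2 * j) ∧ g * co.ψ 8 * g⁻¹ = co.ψ (2 * k)
  cent_comm : ∀ x y : G, (∀ v ∈ V, Commute x v) → (∀ v ∈ V, Commute y v) → Commute x y
  cent_four : ∀ x : G, (∀ v ∈ V, Commute x v) → x ^ 4 = 1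
  cent_sq : ∀ x : G, (∀ v ∈ V, Commute x v) → x ^ 2 ∈ V
  cent_inv : ∀ x : G, (∀ v ∈ V, Commute x v) → x ^ 2 = 1 → x ∈ V
  cent_big : ∀ S : Finset G, S.card < 64 → ∃ x, (∀ v ∈ V, Commute x v) ∧ x ∉ S

theorem z4_invol : (Finset.univ.filter fun x : ZMod 4 × ZMod 4 × ZMod 4 => x + x = 0).card = 8 := by decide +kernel

theorem s5_card : Nat.card (Equiv.Perm (Fin 5)) = 120 := by
  rw [Nat.card_eq_fintype_card, Fintype.card_perm, Fintype.card_fin]; rfl

variable {G : Type*} [Group G]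

/-- the local data exist -/
theorem exists_loc [Finite G] (t : G) (ht : orderOf t = 2) (H : Subgroup G)
    (hH : H = Subgroup.centralizer ({t} : Set G)) (R : Subgroup G) (hR : R = (Cfsg.pCore 2 H).map H.subtype)
    (Cy E : Subgroup G) (hCy : IsCyclic Cy) (hCycard : Nat.card Cy = 4)
    (hCyle : Cy ≤ R ⊓ Subgroup.centralizer (R : Set G)) (hEle : E ≤ R) (hEex : Cfsg.IsExtraspecial 2 E)
    (hEcard : Nat.card E = 32) (hprod : Cy ⊔ E = R) (hmeet : Cy ⊓ E = E ⊓ Subgroup.centralizer (E : Set G))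
    (eH : H ⧸ Cfsg.pCore 2 H ≃* Equiv.Perm (Fin 5))
    (V : Subgroup G) (hVcomm : IsMulCommutative V) (hVexp : ∀ v ∈ V, v ^ 2 = 1) (hVcard : Nat.card V = 8)
    (hVR : V ≤ R) (M : Subgroup G) (hM : M = Subgroup.normalizer (V : Set G))
    (eOM : Cfsg.pCore 2 M ≃* Multiplicative (ZMod 4 × ZMod 4 × ZMod 4))
    (eM : M ⧸ Cfsg.pCore 2 M ≃* GL (Fin 3) (ZMod 2)) : Nonempty (Loc G) := by
  classical
  haveI : Fact (Nat.Prime 2) := ⟨Nat.prime_two⟩
  obtain ⟨co⟩ := exists_coord t ht H hH R hR Cy E hCy hCycard hCyle hEle hEex hEcard hprod hmeet V hVcomm hVexp hVcard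
    hVR
  set O := Cfsg.pCore 2 M with hO
  -- the 2-core of the normalizer
  have Ocard : Nat.card O = 64 := by
    rw [Nat.card_congr eOM.toEquiv, Nat.card_congr Multiplicative.toAdd]; simp
  have Ocomm : ∀ x y : O, x * y = y * x := fun x y => eOM.injective (by rw [map_mul, map_mul, mul_comm])
  have Ofour : ∀ x : O, x ^ 4 = 1 := fun x => eOM.injective (by
    rw [map_pow, map_one]
    refine Multiplicative.toAdd.injective ?_
    rw [toAdd_pow, toAdd_one]
    exact (by decide +kernel : ∀ v : ZMod 4 × ZMod 4 × ZMod 4, 4 • v = 0) _)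
  have hVM : V ≤ M := hM ▸ Subgroup.le_normalizer
  have hVO : ∀ v ∈ V, ∀ h : v ∈ M, (⟨v, h⟩ : M) ∈ O := by
    haveI : (V.subgroupOf M).Normal := by rw [hM]; infer_instance
    have hp : IsPGroup 2 (V.subgroupOf M) := fun x => ⟨1, Subtype.ext (Subtype.ext (by
      simpa using hVexp _ x.2))⟩
    exact fun v hv h => Solv.normal_le_pCore hp (show (⟨v, h⟩ : M) ∈ V.subgroupOf M from hv)
  have Ocent : ∀ x : O, ∀ v ∈ V, Commute ((x : M) : G) v := fun x v hv =>
    congrArg (fun y : O => ((y : M) : G)) (Ocomm x ⟨⟨v, hVM hv⟩, hVO v hv (hVM hv)⟩)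
  let eSL : GL (Fin 3) (ZMod 2) ≃* Matrix.SpecialLinearGroup (Fin 3) (ZMod 2) :=
    (MulEquiv.ofBijective Matrix.SpecialLinearGroup.toGL ⟨Matrix.SpecialLinearGroup.toGL_injective, fun g =>
      ⟨⟨g.1, GTwoTwoLocal.zmod2_one _ (by
        intro e
        have := Matrix.GeneralLinearGroup.det g
        exact (Matrix.GeneralLinearGroup.det g).ne_zero (by
          rw [Matrix.GeneralLinearGroup.val_det_apply]; exact e))⟩, Units.ext rfl⟩⟩).symm
  haveI := GTwoTwoLocal.sl32_simple
  haveI : IsSimpleGroup (M ⧸ O) := (eM.trans eSL).isSimpleGroup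
  have Mcard7 : 7 ∣ Nat.card M := by
    have h1 : 7 ∣ Nat.card (M ⧸ O) := by
      rw [Nat.card_congr eM.toEquiv, Matrix.card_GL_field]; decide
    exact dvd_trans h1 (Subgroup.card_quotient_dvd_card _)
  have Hcard : Nat.card H = 7680 := by
    rw [(Cfsg.pCore 2 H).card_eq_card_quotient_mul_card_subgroup, Nat.card_congr eH.toEquiv, s5_card]
    have : Nat.card (Cfsg.pCore 2 H) = 64 := by
      have h1 : Nat.card R = 64 := by
        let j : Fin 64 → R := fun x => ⟨co.ψ x.1, (co.mem _).2 ⟨x.1, x.2, rfl⟩⟩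
        have hj : Function.Bijective j := ⟨fun x y e => Fin.ext (co.inj _ _ x.2 y.2 (congrArg Subtype.val e)), fun g => by
          obtain ⟨x, hx, e⟩ := (co.mem _).1 g.2
          exact ⟨⟨x, hx⟩, Subtype.ext e⟩⟩
        rw [← Nat.card_eq_of_bijective j hj, Nat.card_fin]
      rw [← h1, hR, Nat.card_congr ((Cfsg.pCore 2 H).equivMapOfInjective _ H.subtype_injective).toEquiv]
    rw [this]
  let C : Subgroup M := (Subgroup.centralizer (V : Set G)).subgroupOf M
  have memC : ∀ m : M, m ∈ C ↔ ∀ v ∈ V, Commute (m : G) v := fun m => by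
    simp only [C, Subgroup.mem_subgroupOf, Subgroup.mem_centralizer_iff, SetLike.mem_coe]
    exact ⟨fun h v hv => (h v hv).symm, fun h v hv => (h v hv).symm⟩
  haveI : C.Normal := ⟨fun n hn g => (memC _).2 fun v hv => by
    have hw : (g : G)⁻¹ * v * g ∈ V := by
      have := (Subgroup.mem_normalizer_iff.1 (le_of_eq hM (inv_mem g.2)) v).1 hv
      simpa using this
    have := (memC n).1 hn _ hw
    show (g : G) * n * (g : G)⁻¹ * v = v * ((g : G) * n * (g : G)⁻¹)
    calc (g : G) * n * (g : G)⁻¹ * v = g * (n * ((g : G)⁻¹ * v * g)) * (g : G)⁻¹ := by group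
      _ = v * ((g : G) * n * (g : G)⁻¹) := by rw [this.eq]; group⟩
  have hOC : O ≤ C := fun x hx => (memC x).2 fun v hv => Ocent ⟨x, hx⟩ v hv
  have hCO : C ≤ O := by
    rcases Subgroup.Normal.eq_bot_or_eq_top (inferInstance : (C.map (QuotientGroup.mk' O)).Normal) with e | e
    · rwa [Subgroup.map_eq_bot_iff, QuotientGroup.ker_mk'] at e
    · exfalso
      have h2 := congrArg (Subgroup.comap (QuotientGroup.mk' O)) e
      rw [Subgroup.comap_top, Subgroup.comap_map_eq, QuotientGroup.ker_mk', sup_eq_left.2 hOC] at h2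
      have tV : t ∈ V := (co.memV _).2 ⟨2, by norm_num, by norm_num, co.two⟩
      have hMH : M ≤ H := fun m hm => by
        rw [hH, Subgroup.mem_centralizer_singleton_iff]
        exact ((memC ⟨m, hm⟩).1 (h2 ▸ Subgroup.mem_top _) t tV).eq
      have := dvd_trans Mcard7 (Subgroup.card_dvd_of_le hMH)
      rw [Hcard] at this
      norm_num at this
  have centO : ∀ x : G, (∀ v ∈ V, Commute x v) → ∃ h : x ∈ M, (⟨x, h⟩ : M) ∈ O := by
    intro x hx
    have hxM : x ∈ M := by
      rw [hM, Subgroup.mem_normalizer_iff]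
      intro v
      refine ⟨fun hv => by rw [(hx v hv).eq, mul_inv_cancel_right]; exact hv, fun hv => ?_⟩
      have e := (hx _ hv).eq
      have : v = x * v * x⁻¹ := by
        calc v = x⁻¹ * ((x * v * x⁻¹) * x) := by group
          _ = x⁻¹ * (x * (x * v * x⁻¹)) := by rw [← e]
          _ = x * v * x⁻¹ := by group
      rw [this]; exact hv
    exact ⟨hxM, hCO ((memC ⟨x, hxM⟩).2 hx)⟩
  have cent_inv : ∀ x : G, (∀ v ∈ V, Commute x v) → x ^ 2 = 1 → x ∈ V := by
    intro x hx hx2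
    obtain ⟨hM', hxO⟩ := centO x hx
    haveI : Fintype O := Fintype.ofFinite O
    let j : V → {y : O // y * y = 1} := fun v => ⟨⟨⟨v.1, hVM v.2⟩, hVO v.1 v.2 _⟩,
      Subtype.ext (Subtype.ext (by rw [← pow_two] ; exact hVexp _ v.2))⟩
    have hj : Function.Injective j := fun v w e =>
      Subtype.ext (congrArg (fun y : {y : O // y * y = 1} => (((y : O) : M) : G)) e)
    have hcard : Nat.card {y : O // y * y = 1} = 8 := by
      let e : {y : O // y * y = 1} ≃ {v : ZMod 4 × ZMod 4 × ZMod 4 // v + v = 0} :=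
        (eOM.toEquiv.trans Multiplicative.toAdd).subtypeEquiv fun y => by
          show y * y = 1 ↔ (eOM y).toAdd + (eOM y).toAdd = 0
          rw [← toAdd_mul, ← map_mul, toAdd_eq_zero, MulEquiv.map_eq_one_iff]
      rw [Nat.card_congr e, Nat.card_eq_fintype_card, Fintype.card_subtype]
      exact z4_invol
    have hb := (Nat.bijective_iff_injective_and_card j).2 ⟨hj, by rw [hVcard, hcard]⟩
    have h4 : (⟨⟨x, hM'⟩, hxO⟩ : O) * (⟨⟨x, hM'⟩, hxO⟩ : O) = 1 :=
      Subtype.ext (Subtype.ext (by rw [← pow_two]; exact hx2))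
    obtain ⟨v, e⟩ := hb.2 ⟨_, h4⟩
    have := congrArg (fun y : {y : O // y * y = 1} => (((y : O) : M) : G)) e
    simp [j] at this
    rw [← this]; exact v.2
  have cent_sq : ∀ x : G, (∀ v ∈ V, Commute x v) → x ^ 2 ∈ V := by
    intro x hx
    obtain ⟨hM', hxO⟩ := centO x hx
    refine cent_inv _ (fun v hv => (hx v hv).pow_left 2) ?_
    rw [← pow_mul]
    exact congrArg (fun w : O => ((w : M) : G)) (Ofour ⟨⟨x, hM'⟩, hxO⟩)
  let ρ : ↥(Subgroup.centralizer ({t} : Set G)) →* Equiv.Perm (Fin 5) :=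
    (eH.toMonoidHom.comp (QuotientGroup.mk' _)).comp (MulEquiv.subgroupCongr hH.symm).toMonoidHom
  refine ⟨{
    t := t, R := R, V := V, co := co, ρ := ρ
    ρ_surj := eH.surjective.comp (QuotientGroup.mk'_surjective _) |>.comp (MulEquiv.subgroupCongr hH.symm).surjective
    ρ_ker := fun h => ?_
    move := fun i j k hi hj hk hb => ?_
    cent_comm := fun x y hx hy => ?_
    cent_four := fun x hx => ?_
    cent_sq := cent_sq
    cent_inv := cent_inv
    cent_big := fun S hS => ?_ }⟩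
  · show eH (QuotientGroup.mk _) = 1 ↔ _
    rw [MulEquiv.map_eq_one_iff, QuotientGroup.eq_one_iff, hR]
    constructor
    · exact fun hh => ⟨_, hh, rfl⟩
    · rintro ⟨w, hw, e⟩
      rwa [show (MulEquiv.subgroupCongr hH.symm).toMonoidHom h = w from Subtype.ext e.symm]
  · let T := {p : Fin 8 × Fin 8 × Fin 8 // isB p.1.1 p.2.1.1 p.2.2.1 = true}
    have hT : Nat.card T = 168 := by rw [Nat.card_eq_fintype_card, Fintype.card_subtype]; exact isB_count
    have vmem : ∀ n : Fin 8, co.ψ (2 * n.1) ∈ V := fun n =>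
      (co.memV _).2 ⟨2 * n.1, (even_codes n n).2, by omega, rfl⟩
    have vinj : ∀ a b : Fin 8, co.ψ (2 * a.1) = co.ψ (2 * b.1) → a = b := fun a b e =>
      Fin.ext (by have := co.inj _ _ (by omega) (by omega) e; omega)
    have cvx : ∀ (m : M) (n : Fin 8), ∃ n' : Fin 8, (m : G) * co.ψ (2 * n.1) * (m : G)⁻¹ = co.ψ (2 * n'.1) := by
      intro m n
      have := (Subgroup.mem_normalizer_iff.1 (le_of_eq hM m.2) _).1 (vmem n)
      obtain ⟨x, hx, hx2, e⟩ := (co.memV _).1 this
      exact ⟨⟨x / 2, by omega⟩, by rw [show 2 * (x / 2) = x by omega, e]⟩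
    choose nx hnx using cvx
    have nmul : ∀ m (a b : Fin 8), (nx m ⟨Nat.xor a.1 b.1, Nat.xor_lt_two_pow (n := 3) a.2 b.2⟩).1 =
        Nat.xor (nx m a).1 (nx m b).1 := by
      intro m a b
      have hl := Nat.xor_lt_two_pow (n := 3) (nx m a).2 (nx m b).2
      refine congrArg Fin.val (vinj _ ⟨_, hl⟩ ?_)
      show _ = co.ψ (2 * Nat.xor (nx m a).1 (nx m b).1)
      rw [← hnx, show co.ψ (2 * Nat.xor (nx m a).1 (nx m b).1) = co.ψ (2 * (nx m a).1) * co.ψ (2 * (nx m b).1) by
          rw [← co.mul _ _ (by omega) (by omega), (even_codes _ _).1],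
        ← hnx, ← hnx]
      show (m : G) * co.ψ (2 * Nat.xor a.1 b.1) * (m : G)⁻¹ = _
      rw [show co.ψ (2 * Nat.xor a.1 b.1) = co.ψ (2 * a.1) * co.ψ (2 * b.1) by
          rw [← co.mul _ _ (by omega) (by omega), (even_codes _ _).1]]
      group
    have ninj : ∀ m, Function.Injective (nx m) := fun m a b e => vinj a b (by
      have h1 := hnx m a; have h2 := hnx m b
      rw [e, ← h2] at h1
      simpa using h1)
    have hz : ∀ m, nx m 0 = 0 := by
      intro m
      have := nmul m 0 0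
      refine Fin.ext ?_
      simpa using this
    have hisB : ∀ m, isB (nx m 1).1 (nx m 2).1 (nx m 4).1 = true := by
      intro m
      have d : ∀ a b : Fin 8, a ≠ b → (nx m a).1 ≠ (nx m b).1 := fun a b h e => h (ninj m (Fin.ext e))
      have p : ∀ a : Fin 8, a ≠ 0 → 0 < (nx m a).1 := fun a h => Nat.pos_of_ne_zero fun e =>
        h (ninj m (Fin.ext (by rw [hz]; exact e)))
      have h3 : Nat.xor (nx m 1).1 (nx m 2).1 ≠ (nx m 4).1 := by
        rw [← nmul m 1 2]; exact d _ _ (by decide)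
      simp only [isB, Bool.and_eq_true, Bool.not_eq_true', Nat.blt_eq]
      refine ⟨⟨⟨⟨⟨⟨p 1 (by decide), p 2 (by decide)⟩, p 4 (by decide)⟩, ?_⟩, ?_⟩, ?_⟩, ?_⟩
      all_goals refine Bool.eq_false_iff.2 fun e => ?_
      · exact d 1 2 (by decide) (Nat.eq_of_beq_eq_true e)
      · exact d 1 4 (by decide) (Nat.eq_of_beq_eq_true e)
      · exact d 2 4 (by decide) (Nat.eq_of_beq_eq_true e)
      · exact h3 (Nat.eq_of_beq_eq_true e)
    let img : M → T := fun m => ⟨(nx m 1, nx m 2, nx m 4), hisB m⟩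
    let Ψ : M ⧸ O → T := fun q => img q.out
    have hΨ : Function.Injective Ψ := by
      intro p q e
      have e1 := congrArg (fun x : T => x.1) e
      simp only [Ψ, img, Prod.mk.injEq] at e1
      obtain ⟨ea, eb, ec⟩ := e1
      set m := p.out with hm
      set n := q.out with hn'
      have fx : ∀ a : Fin 8, nx m a = nx n a → Commute ((n⁻¹ * m : M) : G) (co.ψ (2 * a.1)) := fun a ex => by
        have h1 := hnx m a; have h2 := hnx n a
        rw [ex, ← h2] at h1
        show ((n : G)⁻¹ * m) * _ = _ * ((n : G)⁻¹ * m)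
        calc (n : G)⁻¹ * m * co.ψ (2 * a.1) = (n : G)⁻¹ * ((m : G) * co.ψ (2 * a.1) * (m : G)⁻¹) * m := by group
          _ = co.ψ (2 * a.1) * ((n : G)⁻¹ * m) := by rw [h1]; group
      have hall : n⁻¹ * m ∈ C := by
        refine (memC _).2 fun v hv => ?_
        obtain ⟨x, hx, hx2, rfl⟩ := (co.memV _).1 hv
        have dec : ∀ b : Fin 8, ∃ p q r : Fin 2, b.1 = Nat.xor (Nat.xor (p.1 * 1) (q.1 * 2)) (r.1 * 4) := by
          decide
        obtain ⟨p', q', r', eb'⟩ := dec ⟨x / 2, by omega⟩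
        have e2 : co.ψ x = co.ψ (2 * (p'.1 * 1)) * co.ψ (2 * (q'.1 * 2)) * co.ψ (2 * (r'.1 * 4)) := by
          have l1 := (even_codes ⟨p'.1 * 1, by omega⟩ ⟨q'.1 * 2, by omega⟩).1
          have l2 := (even_codes ⟨Nat.xor (p'.1 * 1) (q'.1 * 2), Nat.xor_lt_two_pow (n := 3) (by omega) (by omega)⟩
            ⟨r'.1 * 4, by omega⟩).1
          simp only at l1 l2 eb'
          have hl : 2 * Nat.xor (p'.1 * 1) (q'.1 * 2) < 64 := lt_of_lt_of_le
            (even_codes ⟨Nat.xor (p'.1 * 1) (q'.1 * 2), Nat.xor_lt_two_pow (n := 3) (by omega) (by omega)⟩ 0).2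
            (by norm_num)
          rw [← co.mul _ _ (by omega) (by omega), l1, ← co.mul _ _ hl (by omega), l2, ← eb']
          congr 1; omega
        have c0 : ∀ y : G, Commute y (co.ψ 0) := fun y => by
          have h := co.mul 0 0 (by norm_num) (by norm_num)
          rw [show rmul 0 0 = 0 by decide +kernel] at h
          rw [left_eq_mul.1 h]; exact Commute.one_right _
        have cf : ∀ (p : Fin 2) (a : Fin 8), nx m a = nx n a →
            Commute ((n⁻¹ * m : M) : G) (co.ψ (2 * (p.1 * a.1))) := fun p a ex => by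
          fin_cases p
          · simpa using c0 _
          · simpa using fx a ex
        rw [e2]
        exact ((cf p' 1 ea).mul_right (cf q' 2 eb)).mul_right (cf r' 4 ec)
      rw [← QuotientGroup.out_eq' p, ← QuotientGroup.out_eq' q, QuotientGroup.eq, ← hm, ← hn']
      have h5 := inv_mem (hCO hall)
      rwa [mul_inv_rev, inv_inv] at h5
    have hb' := (Nat.bijective_iff_injective_and_card Ψ).2 ⟨hΨ, by
      rw [hT, Nat.card_congr eM.toEquiv, Matrix.card_GL_field]; decide⟩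
    obtain ⟨q, hq⟩ := hb'.2 ⟨(⟨i, hi⟩, ⟨j, hj⟩, ⟨k, hk⟩), hb⟩
    have e1 := congrArg (fun x : T => x.1) hq
    simp only [Ψ, img, Prod.mk.injEq] at e1
    refine ⟨(q.out : G), ?_, ?_, ?_⟩
    · have := hnx q.out 1; rw [e1.1] at this; simpa using this
    · have := hnx q.out 2; rw [e1.2.1] at this; simpa using this
    · have := hnx q.out 4; rw [e1.2.2] at this; simpa using this
  · obtain ⟨h1, h1'⟩ := centO x hx
    obtain ⟨h2, h2'⟩ := centO y hy
    exact congrArg (fun w : O => ((w : M) : G)) (Ocomm ⟨⟨x, h1⟩, h1'⟩ ⟨⟨y, h2⟩, h2'⟩)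
  · obtain ⟨h1, h1'⟩ := centO x hx
    exact congrArg (fun w : O => ((w : M) : G)) (Ofour ⟨⟨x, h1⟩, h1'⟩)
  · by_contra hno
    push Not at hno
    let j : O → S := fun y => ⟨((y : M) : G), hno _ (fun v hv => Ocent y v hv)⟩
    have hj : Function.Injective j := fun a b e => Subtype.ext (Subtype.ext (congrArg (fun w : S => (w : G)) e))
    have := Nat.card_le_card_of_injective j hj
    rw [Ocard, Nat.card_eq_fintype_card, Fintype.card_coe] at this
    omega

end Cfsg.Agent.HSTwoLocal
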