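import Cfsg.Agent.Lib.Spor.HSTwoLocal.NormalFacts

/-!
The image of the centralizer of the involution in the outer automorphisms of its 2-core, after a change of
coordinates.
-/

set_option autoImplicit false
set_option maxRecDepth 100000
set_option maxHeartbeats 1000000
set_option linter.style.haveILetI false

namespace Cfsg.Agent.HSTwoLocal

namespace Loc

variable {G : Type*} [Group G] (L : Loc G)

theorem o_shape {h : G} (hh : L.inH h) : ∃ A B C D : Fin 16, ∃ e : Fin 2, L.o h = mkM A.1 B.1 C.1 D.1 e.1 ∧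
    sympC A.1 B.1 C.1 D.1 = true ∧ A.1 = (L.im h).2.1 / 4 ∧ B.1 = (L.im h).2.2.1 / 4 ∧
    ((L.im h).1 = 1 ↔ e.1 = 0) := by
  have hok := L.im_ok hh
  obtain ⟨h1, h2, h3, h4, h5, h6⟩ := okT_bounds hok
  simp only [okT, Bool.and_eq_true, Nat.blt_eq, Bool.or_eq_true, Nat.beq_eq] at hok
  obtain ⟨⟨⟨⟨⟨⟨-, r1⟩, r2⟩, r3⟩, r4⟩, r5⟩, r6⟩ := hok
  set T := L.im h
  refine ⟨⟨T.2.1 / 4, by omega⟩, ⟨T.2.2.1 / 4, by omega⟩, ⟨T.2.2.2.1 / 4, by omega⟩, ⟨T.2.2.2.2 / 4, by omega⟩,
    ⟨bif Nat.beq T.1 3 then 1 else 0, by cases Nat.beq T.1 3 <;> norm_num⟩, rfl, ?_, rfl, rfl, ?_⟩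
  · simp only [sympC, Bool.and_eq_true, Nat.beq_eq]
    refine ⟨⟨⟨⟨⟨?_, ?_⟩, ?_⟩, ?_⟩, ?_⟩, ?_⟩
    · exact (sym_codes ⟨_, h2⟩ ⟨_, h4⟩).2 r5
    · exact (sym_codes ⟨_, h3⟩ ⟨_, h5⟩).2 r6
    · exact (sym_codes ⟨_, h2⟩ ⟨_, h3⟩).1 r1
    · exact (sym_codes ⟨_, h2⟩ ⟨_, h5⟩).1 r3
    · exact (sym_codes ⟨_, h3⟩ ⟨_, h4⟩).1 r4
    · exact (sym_codes ⟨_, h4⟩ ⟨_, h5⟩).1 r2
  · rcases h6 with e | e <;> rw [e] <;> decide

theorem o_bit {h : G} (hh : L.inH h) : ((L.im h).1 = 1 ↔ L.o h < 65536) ∧ L.o h < 131072 := by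
  obtain ⟨A, B, C, D, e, he, -, -, -, hb⟩ := L.o_shape hh
  refine ⟨?_, ?_⟩
  · rw [hb, he]; simp only [mkM]; omega
  · rw [he]; simp only [mkM]; omega

/-- the sign of a permutation is read off the induced map -/
theorem sign_bit {h : G} (hh : L.inH h) : Equiv.Perm.sign (L.ρ (L.toH h hh)) = 1 ↔ L.o h < 65536 := by
  classical
  let e : ℕ → ℤˣ := fun m => if m < 65536 then 1 else -1
  choose pre hpre using L.ρ_surj
  have hin : ∀ s, L.inH (pre s : G) := fun s => L.inH_of _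
  have emul : ∀ a b : G, L.inH a → L.inH b → e (L.o (a * b)) = e (L.o a) * e (L.o b) := by
    intro a b ha hb
    rw [L.o_mul ha hb]
    have l1 := (L.o_bit ha).2
    have l2 := (L.o_bit hb).2
    have key : omul (L.o a) (L.o b) / 65536 = (L.o a / 65536 + L.o b / 65536) % 2 := by
      unfold omul
      have hl : ∀ m k, linM m k < 16 := fun m k => by
        unfold linM selV colM
        refine Nat.xor_lt_two_pow (n := 4) (Nat.xor_lt_two_pow (n := 4) (Nat.xor_lt_two_pow (n := 4) ?_ ?_) ?_) ?_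
        all_goals (cases (Nat.beq _ 1) <;> first | exact Nat.mod_lt _ (by norm_num) | norm_num)
      have := hl (L.o a) (colM (L.o b) 0); have := hl (L.o a) (colM (L.o b) 1)
      have := hl (L.o a) (colM (L.o b) 2); have := hl (L.o a) (colM (L.o b) 3)
      show _ = (_ + _) % 2
      rw [show Nat.mod (L.o a / 65536 + L.o b / 65536) 2 = (L.o a / 65536 + L.o b / 65536) % 2 from rfl]
      omega
    simp only [e]
    split_ifs <;> first | rfl | (exfalso; omega)
  let χ : Equiv.Perm (Fin 5) →* ℤˣ := MonoidHom.mk' (fun s => e (L.o (pre s : G))) fun s u => by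
    rw [← emul _ _ (hin s) (hin u)]
    refine congrArg e ((L.rho_eq_iff (hin _) ((hin s).mul (hin u))).1 ?_)
    show L.ρ (pre (s * u)) = L.ρ (pre s * pre u)
    rw [hpre, map_mul, hpre, hpre]
  have hval : ∀ {x : G} (hx : L.inH x), χ (L.ρ (L.toH x hx)) = e (L.o x) := fun {x} hx =>
    congrArg e ((L.rho_eq_iff (hin _) hx).1 (by
      show L.ρ (pre (L.ρ (L.toH x hx))) = _
      rw [hpre]))
  have hsurj : Function.Surjective χ := by
    intro v
    obtain ⟨x, hx, hx3⟩ := L.exists_inverter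
    rcases Int.units_eq_one_or v with rfl | rfl
    · exact ⟨1, map_one χ⟩
    · refine ⟨L.ρ (L.toH x hx), ?_⟩
      rw [hval hx]
      have : ¬ L.o x < 65536 := fun hlt => by
        rw [((L.o_bit hx).1).2 hlt] at hx3; norm_num at hx3
      simp [e, this]
  rw [← Equiv.Perm.eq_sign_of_surjective_hom hsurj, hval hh]
  simp only [e]
  split_ifs with q
  · simp [q]
  · simp [q]

/-- a realised map -/
def Real (m : ℕ) : Prop := ∃ h, L.inH h ∧ L.o h = m

theorem real_one : L.Real oneM := ⟨L.co.ψ 0, L.inH_psi (by norm_num), L.o_psi (by norm_num)⟩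

theorem real_mul {m n : ℕ} (hm : L.Real m) (hn : L.Real n) : L.Real (omul m n) := by
  obtain ⟨g, hg, rfl⟩ := hm
  obtain ⟨h, hh, rfl⟩ := hn
  exact ⟨g * h, hg.mul hh, L.o_mul hg hh⟩

theorem real_clos {gens : List ℕ} (hg : ∀ g ∈ gens, L.Real g) : ∀ n acc, (∀ x ∈ acc, L.Real x) →
    ∀ x ∈ closG gens n acc, L.Real x
  | 0, _, h, x, hx => h x hx
  | n + 1, acc, h, x, hx => by
    have hstep : ∀ x ∈ closStep gens acc, L.Real x := by
      have key : ∀ (l : List ℕ), (∀ x ∈ l, L.Real x) → ∀ S, (∀ x ∈ S, L.Real x) → ∀ y ∈ l.foldl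
          (fun S x => gens.foldl (fun S g => bif S.elem (omul x g) then S else S ++ [omul x g]) S) S, L.Real y := by
        intro l
        induction l with
        | nil => exact fun _ S hS => hS
        | cons a l ih =>
          intro hl S hS
          rw [List.foldl_cons]
          refine ih (fun z hz => hl z (List.mem_cons_of_mem _ hz)) _ ?_
          have inner : ∀ (gs : List ℕ), (∀ g ∈ gs, L.Real g) → ∀ S, (∀ x ∈ S, L.Real x) → ∀ y ∈ gs.foldl
              (fun S g => bif S.elem (omul a g) then S else S ++ [omul a g]) S, L.Real y := by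
            intro gs
            induction gs with
            | nil => exact fun _ S hS => hS
            | cons g gs ihg =>
              intro hgs S hS
              rw [List.foldl_cons]
              refine ihg (fun z hz => hgs z (List.mem_cons_of_mem _ hz)) _ ?_
              intro y hy
              cases he : S.elem (omul a g)
              · rw [he] at hy
                rcases List.mem_append.1 hy with hy | hy
                · exact hS y hy
                · rw [List.mem_singleton.1 hy]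
                  exact L.real_mul (hl a (List.mem_cons_self ..)) (hgs g (List.mem_cons_self ..))
              · rw [he] at hy; exact hS y hy
          exact inner gens hg S hS
      exact key acc h acc h
    unfold closG at hx
    cases h1 : Nat.blt 60 acc.length <;> rw [h1] at hx
    · cases h2 : Nat.beq (closStep gens acc).length acc.length <;> rw [h2] at hx
      · exact real_clos hg n _ hstep x hx
      · exact h x hx
    · exact h x hx

/-- even realised maps are at most sixty -/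
theorem even_bound {l : List ℕ} (hnd : l.Nodup) (hl : ∀ m ∈ l, L.Real m ∧ m < 65536) : l.length ≤ 60 ∧
    (l.length = 60 → ∀ h, L.inH h → L.o h < 65536 → L.o h ∈ l) := by
  classical
  let A := {s : Equiv.Perm (Fin 5) // Equiv.Perm.sign s = 1}
  have hA : Fintype.card A = 60 := by rw [Fintype.card_subtype]; exact s5_facts.2
  have hre : ∀ m : {m // m ∈ l}, ∃ h, L.inH h ∧ L.o h = m.1 := fun m => (hl m.1 m.2).1
  choose f hf hfo using hre
  let F : {m // m ∈ l} → A := fun m => ⟨L.ρ (L.toH (f m) (hf m)),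
    (L.sign_bit (hf m)).2 (by rw [hfo m]; exact (hl m.1 m.2).2)⟩
  have hF : Function.Injective F := fun a b e => Subtype.ext (by
    rw [← hfo a, ← hfo b]
    exact (L.rho_eq_iff (hf a) (hf b)).1 (congrArg Subtype.val e))
  have hcard : Fintype.card {m // m ∈ l} = l.length := by
    rw [Fintype.card_of_subtype l.toFinset (fun x => List.mem_toFinset), List.toFinset_card_of_nodup hnd]
  refine ⟨?_, fun he h hh hlt => ?_⟩
  · rw [← hcard, ← hA]; exact Fintype.card_le_of_injective F hF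
  · have hb := (Fintype.bijective_iff_injective_and_card F).2 ⟨hF, by rw [hcard, he, hA]⟩
    obtain ⟨m, hm⟩ := hb.2 ⟨_, (L.sign_bit hh).2 hlt⟩
    rw [← (L.rho_eq_iff (hf m) hh).1 (congrArg Subtype.val hm), hfo m]
    exact m.2

theorem conj_psi_cols {g : G} {a : ℕ} (hh : L.inH g) (x : ℕ) (hx : x < 64) (ha : a < 64)
    (e : g * L.co.ψ x * g⁻¹ = L.co.ψ a) : L.cd (g * L.co.ψ x * g⁻¹) = a := by rw [e, L.cd_self ha]

/-- two independent elements trivial on the plane -/
theorem exists_k [Finite G] : ∃ x y : G, (∀ v ∈ L.V, Commute x v) ∧ (∀ v ∈ L.V, Commute y v) ∧ L.inH x ∧ L.inH y ∧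
    L.o x ∈ k8L ∧ L.o y ∈ k8L ∧ L.o x ≠ oneM ∧ L.o y ≠ oneM ∧ L.o x ≠ L.o y := by
  classical
  have cV : ∀ v ∈ L.V, Commute (L.co.ψ 1) v := fun v hv => by
    obtain ⟨i, hi, rfl⟩ := L.mem_V hv
    show L.co.ψ 1 * L.co.ψ (2 * i) = L.co.ψ (2 * i) * L.co.ψ 1
    rw [← L.co.mul _ _ (by norm_num) (by omega), ← L.co.mul _ _ (by omega) (by norm_num)]
    exact congrArg _ ((by decide +kernel : ∀ i : Fin 64, rmul 1 i.1 = rmul i.1 1) ⟨2 * i, by omega⟩)
  have hk : ∀ x, (∀ v ∈ L.V, Commute x v) → L.inH x ∧ L.o x ∈ k8L := by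
    intro x hx
    have m2 : ∀ a, a < 16 → a % 2 = 0 → Commute x (L.co.ψ a) := fun a h1 h2 =>
      hx _ ((L.co.memV _).2 ⟨a, h1, h2, rfl⟩)
    have hh : L.inH x := m2 2 (by norm_num) (by norm_num)
    refine ⟨hh, ?_⟩
    have e1 : (L.im x).1 = 1 := L.cd_fix 1 (by norm_num) (L.cent_comm x _ hx cV)
    obtain ⟨A, B, C, D, e, he, hs, hA, hB, hb⟩ := L.o_shape hh
    have a4 : (L.im x).2.1 = 4 := L.cd_fix 4 (by norm_num) (m2 4 (by norm_num) (by norm_num))
    have a8 : (L.im x).2.2.1 = 8 := L.cd_fix 8 (by norm_num) (m2 8 (by norm_num) (by norm_num))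
    rw [he, hb.1 e1]
    rw [a4] at hA; rw [a8] at hB
    have : A.1 = 1 := by omega
    have : B.1 = 2 := by omega
    rw [‹A.1 = 1›, ‹B.1 = 2›] at hs ⊢
    exact k8_mem C D hs
  let S : Finset G := (Finset.range 16).image L.co.ψ
  have hin : ∀ x, (∀ v ∈ L.V, Commute x v) → L.o x = oneM → x ∈ S := by
    intro x hx ho
    obtain ⟨hh, -⟩ := hk x hx
    obtain ⟨r, hr, rfl⟩ := (L.co.mem x).1 (L.mem_R_of_o hh ho)
    have key : ∀ r : Fin 64, rmul r.1 4 = rmul 4 r.1 → rmul r.1 8 = rmul 8 r.1 → r.1 < 16 := by decide +kernel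
    have c4 := hx _ ((L.co.memV _).2 ⟨4, by norm_num, by norm_num, rfl⟩)
    have c8 := hx _ ((L.co.memV _).2 ⟨8, by norm_num, by norm_num, rfl⟩)
    refine Finset.mem_image.2 ⟨r, Finset.mem_range.2 (key ⟨r, hr⟩ ?_ ?_), rfl⟩
    · exact L.co.inj _ _ (rmul_lt ⟨r, hr⟩ ⟨4, by norm_num⟩) (rmul_lt ⟨4, by norm_num⟩ ⟨r, hr⟩) (by
        rw [L.co.mul _ _ hr (by norm_num), L.co.mul _ _ (by norm_num) hr]; exact c4.eq)
    · exact L.co.inj _ _ (rmul_lt ⟨r, hr⟩ ⟨8, by norm_num⟩) (rmul_lt ⟨8, by norm_num⟩ ⟨r, hr⟩) (by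
        rw [L.co.mul _ _ hr (by norm_num), L.co.mul _ _ (by norm_num) hr]; exact c8.eq)
  have hS : S.card ≤ 16 := Finset.card_image_le.trans (by simp)
  obtain ⟨x, hx, hxS⟩ := L.cent_big S (by omega)
  obtain ⟨y, hy, hyS⟩ := L.cent_big (S ∪ S.image (x * ·)) ((Finset.card_union_le _ _).trans_lt (by
    have := Finset.card_image_le (s := S) (f := (x * ·))
    omega))
  obtain ⟨hxh, hxk⟩ := hk x hx
  obtain ⟨hyh, hyk⟩ := hk y hy
  refine ⟨x, y, hx, hy, hxh, hyh, hxk, hyk, fun e => hxS (hin x hx e),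
    fun e => hyS (Finset.mem_union_left _ (hin y hy e)), fun e => hyS (Finset.mem_union_right _ ?_)⟩
  have hz : ∀ v ∈ L.V, Commute (x⁻¹ * y) v := fun v hv => (hx v hv).inv_left.mul_left (hy v hv)
  have : L.o (x⁻¹ * y) = oneM := by
    rw [L.o_mul hxh.inv hyh, ← e, ← L.o_mul hxh.inv hxh, inv_mul_cancel, ← L.psi_zero, L.o_psi (by norm_num)]
  exact Finset.mem_image.2 ⟨_, hin _ hz this, by group⟩

/-- a fixed alternating group of degree four lies in the image -/
theorem real_four [Finite G] : L.Real wA ∧ L.Real kA ∧ wA < 65536 ∧ kA < 65536 := by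
  obtain ⟨x, y, hx, hy, hxh, hyh, hxk, hyk, nx, ny, nxy⟩ := L.exists_k
  obtain ⟨g, g2, g4, g8⟩ := L.move 1 4 6 (by norm_num) (by norm_num) (by norm_num) (by decide)
  have hgh : L.inH g := mul_inv_eq_iff_eq_mul.1 (by simpa using g2)
  obtain ⟨A, B, C, D, e, he, hs, hA, hB, -⟩ := L.o_shape hgh
  have a4 : (L.im g).2.1 = 8 := L.conj_psi_cols hgh 4 (by norm_num) (by norm_num) g4
  have a8 : (L.im g).2.2.1 = 12 := L.conj_psi_cols hgh 8 (by norm_num) (by norm_num) g8
  rw [a4] at hA; rw [a8] at hB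
  have eA : A.1 = 2 := by omega
  have eB : B.1 = 3 := by omega
  rw [eA, eB] at hs he
  set w := g ^ 4 with hw
  have hwh : L.inH w := hgh.pow 4
  have how : L.o w ∈ o3L := by
    have : L.o w = omul (omul (omul (L.o g) (L.o g)) (L.o g)) (L.o g) := by
      rw [← L.o_mul hgh hgh, ← L.o_mul (hgh.mul hgh) hgh, ← L.o_mul ((hgh.mul hgh).mul hgh) hgh, hw, pow_succ,
        pow_succ, pow_two]
    rw [this, he]
    exact pow4_o3 C D e hs
  obtain ⟨hw3, hwlt⟩ := o3_facts _ how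
  -- the conjugates stay trivial on the plane
  have gV : ∀ z, (∀ v ∈ L.V, Commute z v) → ∀ v ∈ L.V, Commute (g * z * g⁻¹) v := by
    intro z hz
    have inV : ∀ a, a < 16 → a % 2 = 0 → Commute z (L.co.ψ a) := fun a h1 h2 =>
      hz _ ((L.co.memV _).2 ⟨a, h1, h2, rfl⟩)
    have cj : ∀ a b, g * L.co.ψ a * g⁻¹ = L.co.ψ b → Commute z (L.co.ψ a) →
        Commute (g * z * g⁻¹) (L.co.ψ b) := fun a b e h => by
      rw [← e]
      show g * z * g⁻¹ * (g * L.co.ψ a * g⁻¹) = g * L.co.ψ a * g⁻¹ * (g * z * g⁻¹)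
      calc g * z * g⁻¹ * (g * L.co.ψ a * g⁻¹) = g * (z * L.co.ψ a) * g⁻¹ := by group
        _ = _ := by rw [h.eq]; group
    refine L.cent_V (cj 2 2 g2 (inV 2 (by norm_num) (by norm_num))) ?_ (cj 4 8 g4 (inV 4 (by norm_num) (by norm_num)))
    have h12 : g * L.co.ψ (rmul 4 8) * g⁻¹ = L.co.ψ 4 := by
      rw [L.co.mul 4 8 (by norm_num) (by norm_num), show g * (L.co.ψ 4 * L.co.ψ 8) * g⁻¹ =
        (g * L.co.ψ 4 * g⁻¹) * (g * L.co.ψ 8 * g⁻¹) by group, g4, g8, ← L.co.mul _ _ (by norm_num) (by norm_num)]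
      exact congrArg _ (by decide +kernel)
    exact cj _ 4 h12 (inV _ (by decide +kernel) (by decide +kernel))
  have wV : ∀ z, (∀ v ∈ L.V, Commute z v) → ∀ v ∈ L.V, Commute (w * z * w⁻¹) v := by
    intro z hz
    have := gV _ (gV _ (gV _ (gV z hz)))
    convert this using 3
    simp only [hw, pow_succ, pow_zero, one_mul, mul_inv_rev, mul_assoc]
  have oinv : L.o w⁻¹ = omul (L.o w) (L.o w) := by
    rw [← L.o_mul hwh hwh]
    refine (L.rho_eq_iff hwh.inv (hwh.mul hwh)).1 ?_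
    have h3 : L.ρ (L.toH w hwh) ^ 3 = 1 := by
      have e3 : L.ρ (L.toH (w * (w * w)) (hwh.mul (hwh.mul hwh))) = L.ρ (L.toH _ (L.inH_psi (x := 0) (by norm_num))) :=
        (L.rho_eq_iff _ _).2 (by rw [L.o_mul hwh (hwh.mul hwh), L.o_mul hwh hwh, hw3, L.o_psi (by norm_num)])
      rw [(L.ρ_ker (L.toH _ (L.inH_psi (x := 0) (by norm_num)))).2 (L.psi_mem (by norm_num))] at e3
      rw [← e3, pow_succ, pow_two, mul_assoc, ← map_mul, ← map_mul]
      rfl
    show L.ρ (L.toH w hwh)⁻¹ = L.ρ (L.toH w hwh * L.toH w hwh)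
    rw [map_inv, map_mul]
    refine inv_eq_of_mul_eq_one_right ?_
    rw [← h3, pow_succ, pow_two, mul_assoc]
  -- conjugates of the two elements lie in the same four-group
  have conjmem : ∀ z, (∀ v ∈ L.V, Commute z v) → L.inH z → L.o z ∈ k8L → L.o z ≠ oneM → L.o z < 65536 →
      omul (omul (L.o w) (L.o z)) (omul (L.o w) (L.o w)) ∈ [L.o x, L.o y, omul (L.o x) (L.o y)] := by
    intro z hzV hzh hzk hzne hzlt
    have hc := wV z hzV
    set z' := w * z * w⁻¹ with hz'
    have hz'h : L.inH z' := (hwh.mul hzh).mul hwh.inv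
    have eo : L.o z' = omul (omul (L.o w) (L.o z)) (omul (L.o w) (L.o w)) := by
      rw [hz', L.o_mul (hwh.mul hzh) hwh.inv, L.o_mul hwh hzh, oinv]
    rw [← eo]
    set P := fun (u : G) (hu : L.inH u) => L.ρ (L.toH u hu) with hP
    have comm : ∀ a b (ha : L.inH a) (hb : L.inH b), (∀ v ∈ L.V, Commute a v) → (∀ v ∈ L.V, Commute b v) →
        P a ha * P b hb = P b hb * P a ha := fun a b ha hb va vb => by
      simp only [hP]
      rw [← map_mul, ← map_mul]
      exact congrArg L.ρ (Subtype.ext (L.cent_comm a b va vb).eq)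
    have one_iff : ∀ a (ha : L.inH a), P a ha = 1 ↔ L.o a = oneM := by
      intro a ha
      rw [← L.o_psi (x := 0) (by norm_num), ← L.rho_eq_iff ha (L.inH_psi (by norm_num)),
        (L.ρ_ker (L.toH _ (L.inH_psi (x := 0) (by norm_num)))).2 (L.psi_mem (by norm_num))]
    have ev : ∀ a (ha : L.inH a), L.o a ∈ k8L → Equiv.Perm.sign (P a ha) = 1 ∧ P a ha * P a ha = 1 := by
      intro a ha hk
      obtain ⟨l, sq, -⟩ := k8_facts _ hk
      refine ⟨(L.sign_bit ha).2 l, ?_⟩
      simp only [hP]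
      rw [← map_mul]
      show L.ρ (L.toH (a * a) (ha.mul ha)) = 1
      exact (one_iff _ _).2 (by rw [L.o_mul ha ha, sq])
    have ek : L.o z' ∈ k8L := by
      have hk8 : ∀ u, (∀ v ∈ L.V, Commute u v) → L.inH u → L.o u ∈ k8L := by
        intro u hu huh
        obtain ⟨A, B, C, D, e, he, hs, hA, hB, hb⟩ := L.o_shape huh
        have u4 : (L.im u).2.1 = 4 := L.cd_fix 4 (by norm_num) (hu _ ((L.co.memV _).2 ⟨4, by norm_num, by norm_num, rfl⟩))
        have u8 : (L.im u).2.2.1 = 8 := L.cd_fix 8 (by norm_num) (hu _ ((L.co.memV _).2 ⟨8, by norm_num, by norm_num, rfl⟩))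
        rw [u4] at hA; rw [u8] at hB
        have eA : A.1 = 1 := by omega
        have eB : B.1 = 2 := by omega
        have u1 : (L.im u).1 = 1 := L.cd_fix 1 (by norm_num) (L.cent_comm u _ hu (fun v hv => by
          obtain ⟨i, hi, rfl⟩ := L.mem_V hv
          show L.co.ψ 1 * L.co.ψ (2 * i) = L.co.ψ (2 * i) * L.co.ψ 1
          rw [← L.co.mul _ _ (by norm_num) (by omega), ← L.co.mul _ _ (by omega) (by norm_num)]
          exact congrArg _ ((by decide +kernel : ∀ i : Fin 64, rmul 1 i.1 = rmul i.1 1) ⟨2 * i, by omega⟩)))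
        rw [eA, eB] at hs he
        rw [he, hb.1 u1]
        exact k8_mem C D hs
      exact hk8 z' hc hz'h
    obtain ⟨sx, qx⟩ := ev x hxh hxk
    obtain ⟨sy, qy⟩ := ev y hyh hyk
    obtain ⟨sz, qz⟩ := ev z' hz'h ek
    have hne : L.o z' ≠ oneM := by
      intro h1
      have := (one_iff z' hz'h).2 h1
      simp only [hP] at this
      have h' : L.ρ (L.toH w hwh) * L.ρ (L.toH z hzh) * (L.ρ (L.toH w hwh))⁻¹ = 1 := by
        rw [← map_inv, ← map_mul, ← map_mul]; exact this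
      rw [conj_eq_one_iff] at h'
      exact hzne ((one_iff z hzh).1 h')
    rcases alt_five _ _ _ ⟨sx, sy, sz, qx, qy, qz, comm x y hxh hyh hx hy, comm x z' hxh hz'h hx hc,
      comm y z' hyh hz'h hy hc, fun h => nx ((one_iff x hxh).1 h), fun h => ny ((one_iff y hyh).1 h),
      fun h => nxy ((L.rho_eq_iff hxh hyh).1 h)⟩ with h | h | h | h
    · exact absurd ((one_iff z' hz'h).1 h) hne
    · simp [(L.rho_eq_iff hz'h hxh).1 h]
    · simp [(L.rho_eq_iff hz'h hyh).1 h]
    · have : L.o z' = L.o (x * y) := (L.rho_eq_iff hz'h (hxh.mul hyh)).1 (by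
        simp only [hP] at h
        rw [h, ← map_mul]; rfl)
      simp [this, L.o_mul hxh hyh]
  obtain ⟨hxlt, -⟩ := k8_facts _ hxk
  obtain ⟨hylt, -⟩ := k8_facts _ hyk
  obtain ⟨m1, m2⟩ := four_facts _ how _ hxk _ hyk nx ny nxy (conjmem x hx hxh hxk nx hxlt)
    (conjmem y hy hyh hyk ny hylt)
  have hre : ∀ u ∈ closG [L.o w, L.o x, L.o y] 24 [oneM], L.Real u :=
    L.real_clos (by
      intro u hu
      simp only [List.mem_cons, List.not_mem_nil, or_false] at hu
      rcases hu with rfl | rfl | rfl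
      exacts [⟨w, hwh, rfl⟩, ⟨x, hxh, rfl⟩, ⟨y, hyh, rfl⟩]) _ _
      (fun u hu => by rw [List.mem_singleton.1 hu]; exact L.real_one)
  exact ⟨hre _ m1, hre _ m2, by decide, by decide⟩

/-- the even part is one of two lists -/
theorem even_cases [Finite G] :
    (∀ h, L.inH h → L.o h < 65536 → L.o h ∈ evA) ∧ (∀ m ∈ evA, L.Real m ∧ m < 65536) ∨
      (∀ h, L.inH h → L.o h < 65536 → L.o h ∈ evB) ∧ (∀ m ∈ evB, L.Real m ∧ m < 65536) := by
  obtain ⟨rw', rk, lw, lk⟩ := L.real_four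
  obtain ⟨s, hs5, hs1⟩ := s5_facts.1
  obtain ⟨b', hb'⟩ := L.ρ_surj s
  have hbh := L.inH_of b'
  have eb : L.ρ (L.toH (b' : G) hbh) = s := hb'
  have hblt : L.o (b' : G) < 65536 := (L.sign_bit hbh).1 (by
    rw [eb]
    have h5 : Equiv.Perm.sign s ^ 5 = 1 := by rw [← map_pow, hs5, map_one]
    rcases Int.units_eq_one_or (Equiv.Perm.sign s) with q | q
    · exact q
    · rw [q] at h5; exact absurd h5 (by decide))
  have hb5 : L.o (b' : G) ∈ o5L := by
    obtain ⟨A, B, C, D, e, he, hsy, -, -, -⟩ := L.o_shape hbh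
    have he0 : e.1 = 0 := by rw [he] at hblt; simp only [mkM] at hblt; omega
    rw [he0] at he
    rw [he]
    refine five_mem A B C D hsy ?_ ?_
    · rw [← he]; unfold om5
      rw [← L.o_mul hbh hbh, ← L.o_mul (hbh.mul hbh) hbh, ← L.o_mul ((hbh.mul hbh).mul hbh) hbh,
        ← L.o_mul (((hbh.mul hbh).mul hbh).mul hbh) hbh, ← L.o_psi (x := 0) (by norm_num)]
      refine (L.rho_eq_iff ((((hbh.mul hbh).mul hbh).mul hbh).mul hbh) (L.inH_psi (by norm_num))).1 ?_
      rw [(L.ρ_ker (L.toH _ (L.inH_psi (x := 0) (by norm_num)))).2 (L.psi_mem (by norm_num))]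
      show L.ρ (L.toH _ hbh * L.toH _ hbh * L.toH _ hbh * L.toH _ hbh * L.toH _ hbh) = 1
      rw [map_mul, map_mul, map_mul, map_mul, eb, ← hs5]
      simp [pow_succ]
    · rw [← he, ← L.o_psi (x := 0) (by norm_num)]
      intro e'
      apply hs1
      rw [← eb, (L.rho_eq_iff hbh (L.inH_psi (by norm_num))).2 e',
        (L.ρ_ker (L.toH _ (L.inH_psi (x := 0) (by norm_num)))).2 (L.psi_mem (by norm_num))]
  have h4 : ∀ a ∈ a4L, L.Real a := fun a ha => L.real_clos (by
      intro v hv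
      simp only [List.mem_cons, List.not_mem_nil, or_false] at hv
      rcases hv with rfl | rfl
      exacts [rw', rk]) _ _ (fun v hv => by rw [List.mem_singleton.1 hv]; exact L.real_one) a (a4_mem a ha).1
  have hgen : ∀ m ∈ genB (L.o (b' : G)), L.Real m := by
    have hb : L.Real (L.o (b' : G)) := ⟨_, hbh, rfl⟩
    intro m hm
    obtain ⟨a, ha, hm⟩ := List.mem_flatMap.1 hm
    simp only [List.mem_cons, List.not_mem_nil, or_false] at hm
    rcases hm with rfl | rfl | rfl | rfl | rfl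
    exacts [h4 _ ha, L.real_mul (h4 _ ha) hb, L.real_mul (h4 _ ha) (L.real_mul hb hb),
      L.real_mul (h4 _ ha) (L.real_mul hb (L.real_mul hb hb)),
      L.real_mul (h4 _ ha) (L.real_mul hb (L.real_mul hb (L.real_mul hb hb)))]
  obtain ⟨lA, lB, ndA, ndB, -, smA, smB⟩ := ev_facts
  rcases five_bad _ hb5 with h | h | ⟨a, ha, hbad⟩
  · have hA : ∀ m ∈ evA, L.Real m ∧ m < 65536 := fun m hm => ⟨hgen m (five_genA _ hb5 h m hm), smA m hm⟩
    exact Or.inl ⟨(L.even_bound ndA hA).2 lA, hA⟩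
  · have hB : ∀ m ∈ evB, L.Real m ∧ m < 65536 := fun m hm => ⟨hgen m (five_genB _ hb5 h m hm), smB m hm⟩
    exact Or.inr ⟨(L.even_bound ndB hB).2 lB, hB⟩
  · exfalso
    have ha4 : a ∈ a4L := by
      simp only [List.mem_cons, List.not_mem_nil, or_false] at ha
      rcases ha with rfl | rfl | rfl | rfl <;> decide
    obtain ⟨x, hx, hxa⟩ := h4 a ha4
    set P := fun (u : G) (hu : L.inH u) => L.ρ (L.toH u hu) with hP
    set p := x * (b' : G) with hp
    have hph : L.inH p := hx.mul hbh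
    have hsign : Equiv.Perm.sign (P p hph) = 1 := by
      show Equiv.Perm.sign (L.ρ (L.toH x hx * L.toH _ hbh)) = 1
      rw [map_mul, map_mul, (L.sign_bit hx).2 (by rw [hxa]; exact (a4_mem a ha4).2), (L.sign_bit hbh).2 hblt]
      rfl
    have one_iff : ∀ u (hu : L.inH u), P u hu = 1 → L.o u = oneM := by
      intro u hu h1
      rw [← L.o_psi (x := 0) (by norm_num)]
      refine (L.rho_eq_iff hu (L.inH_psi (by norm_num))).1 ?_
      rw [(L.ρ_ker (L.toH _ (L.inH_psi (x := 0) (by norm_num)))).2 (L.psi_mem (by norm_num))]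
      exact h1
    have om : omul a (L.o (b' : G)) = L.o p := by rw [hp, L.o_mul hx hbh, hxa]
    rw [om] at hbad
    simp only [badOrd, Bool.and_eq_true, Bool.not_eq_true'] at hbad
    obtain ⟨⟨⟨b1, b2⟩, b3⟩, b5⟩ := hbad
    have n1 := Nat.ne_of_beq_eq_false b1
    have n2 := Nat.ne_of_beq_eq_false b2
    have n3 := Nat.ne_of_beq_eq_false b3
    have n5 := Nat.ne_of_beq_eq_false b5
    rcases even_ord _ hsign with q | q | q | q
    · exact n1 (one_iff p hph q)
    · refine n2 ?_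
      rw [← L.o_mul hph hph]
      exact one_iff _ (hph.mul hph) ((map_mul L.ρ _ _).trans q)
    · refine n3 ?_
      rw [← L.o_mul hph hph, ← L.o_mul hph (hph.mul hph)]
      refine one_iff _ (hph.mul (hph.mul hph)) (Eq.trans ?_ q)
      show L.ρ (L.toH p hph * (L.toH p hph * L.toH p hph)) = _
      rw [map_mul, map_mul]
    · refine n5 ?_
      unfold om5
      rw [← L.o_mul hph hph, ← L.o_mul (hph.mul hph) hph, ← L.o_mul ((hph.mul hph).mul hph) hph,
        ← L.o_mul (((hph.mul hph).mul hph).mul hph) hph]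
      refine one_iff _ ((((hph.mul hph).mul hph).mul hph).mul hph) (Eq.trans ?_ q)
      show L.ρ (L.toH p hph * L.toH p hph * L.toH p hph * L.toH p hph * L.toH p hph) = _
      rw [map_mul, map_mul, map_mul, map_mul]

/-- the standard position -/
def Std : Prop := (∀ h, L.inH h → L.o h ∈ evA ++ oddA) ∧ ∀ m ∈ evA ++ oddA, L.Real m

theorem std_of_even [Finite G] (h1 : ∀ h, L.inH h → L.o h < 65536 → L.o h ∈ evA)
    (h2 : ∀ m ∈ evA, L.Real m ∧ m < 65536) : L.Std := by
  obtain ⟨g, g2, g4, g8⟩ := L.move 2 3 4 (by norm_num) (by norm_num) (by norm_num) (by decide)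
  set h := g * L.co.ψ 32 * g⁻¹ with hh'
  have hcj : ∀ a b, g * L.co.ψ a * g⁻¹ = L.co.ψ b → a < 64 → rmul 32 a = rmul a 32 → h * L.co.ψ b * h⁻¹ = L.co.ψ b := by
    intro a b e ha hc
    have hc' : L.co.ψ 32 * L.co.ψ a = L.co.ψ a * L.co.ψ 32 := by
      rw [← L.co.mul _ _ (by norm_num) ha, ← L.co.mul _ _ ha (by norm_num), hc]
    rw [← e, hh']
    calc g * L.co.ψ 32 * g⁻¹ * (g * L.co.ψ a * g⁻¹) * (g * L.co.ψ 32 * g⁻¹)⁻¹
        = g * (L.co.ψ 32 * L.co.ψ a) * (L.co.ψ 32)⁻¹ * g⁻¹ := by group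
      _ = _ := by rw [hc']; group
  have f4 : h * L.co.ψ 4 * h⁻¹ = L.co.ψ 4 := hcj 2 4 g2 (by norm_num) (by decide +kernel)
  have f6 : h * L.co.ψ 6 * h⁻¹ = L.co.ψ 6 := hcj 4 6 g4 (by norm_num) (by decide +kernel)
  have f2 : h * L.co.ψ 2 * h⁻¹ = L.co.ψ 2 := by
    have e : L.co.ψ 2 = L.co.ψ 6 * L.co.ψ 4 := by
      rw [← L.co.mul _ _ (by norm_num) (by norm_num), show rmul 6 4 = 2 by decide +kernel]
    rw [e]
    calc h * (L.co.ψ 6 * L.co.ψ 4) * h⁻¹ = (h * L.co.ψ 6 * h⁻¹) * (h * L.co.ψ 4 * h⁻¹) := by group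
      _ = _ := by rw [f6, f4]
  have hh : L.inH h := mul_inv_eq_iff_eq_mul.1 f2
  have f8 : h * L.co.ψ 8 * h⁻¹ = L.co.ψ 12 := by
    have g8' : g * L.co.ψ 8 * g⁻¹ = L.co.ψ 8 := g8
    have e : L.co.ψ 32 * L.co.ψ 8 * (L.co.ψ 32)⁻¹ = L.co.ψ 10 := by
      rw [mul_inv_eq_iff_eq_mul, ← L.co.mul _ _ (by norm_num) (by norm_num), ← L.co.mul _ _ (by norm_num) (by norm_num)]
      exact congrArg _ (by decide +kernel)
    conv_lhs => rw [← g8', hh']
    calc g * L.co.ψ 32 * g⁻¹ * (g * L.co.ψ 8 * g⁻¹) * (g * L.co.ψ 32 * g⁻¹)⁻¹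
        = g * (L.co.ψ 32 * L.co.ψ 8 * (L.co.ψ 32)⁻¹) * g⁻¹ := by group
      _ = g * (L.co.ψ 2 * L.co.ψ 8) * g⁻¹ := by
          rw [e, ← L.co.mul _ _ (by norm_num) (by norm_num), show rmul 2 8 = 10 by decide +kernel]
      _ = (g * L.co.ψ 2 * g⁻¹) * (g * L.co.ψ 8 * g⁻¹) := by group
      _ = _ := by
          rw [g2, g8', ← L.co.mul _ _ (by norm_num) (by norm_num), show rmul (2 * 2) 8 = 12 by decide +kernel]
  obtain ⟨A, B, C, D, e, he, hs, hA, hB, -⟩ := L.o_shape hh
  have hA' : (L.im h).2.1 = 4 := L.conj_psi_cols hh 4 (by norm_num) (by norm_num) f4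
  rw [hA'] at hA
  have hB' : (L.im h).2.2.1 = 12 := L.conj_psi_cols hh 8 (by norm_num) (by norm_num) f8
  rw [hB'] at hB
  have eA : A.1 = 1 := by omega
  have eB : B.1 = 3 := by omega
  rw [eA, eB] at hs he
  have he1 : e.1 = 1 := by
    by_contra hne
    have he0 : e.1 = 0 := by omega
    rw [he0] at he
    have hm := h1 h hh (by rw [he]; simp only [mkM]; omega)
    rw [he] at hm
    obtain ⟨c0, c1⟩ := (by decide +kernel : ∀ C D : Fin 16,
      colM (mkM 1 3 C.1 D.1 0) 0 = 1 ∧ colM (mkM 1 3 C.1 D.1 0) 1 = 3) C D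
    exact odd_facts.1 _ (List.mem_append_left _ hm) c0 c1
  rw [he1] at he
  have odd_lt : ¬ L.o h < 65536 := by rw [he]; simp only [mkM]; omega
  have mult : ∀ a b, L.inH a → L.inH b → (L.o (a * b) < 65536 ↔ (L.o a < 65536 ↔ L.o b < 65536)) := by
    intro a b ha hb
    rw [← L.sign_bit (ha.mul hb), ← L.sign_bit ha, ← L.sign_bit hb]
    show Equiv.Perm.sign (L.ρ (L.toH a ha * L.toH b hb)) = 1 ↔ _
    rw [map_mul, map_mul]
    rcases Int.units_eq_one_or (Equiv.Perm.sign (L.ρ (L.toH a ha))) with p | p <;>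
      rcases Int.units_eq_one_or (Equiv.Perm.sign (L.ρ (L.toH b hb))) with q | q <;> simp [p, q]
  have hcl := odd_facts.2 C D hs (fun j hj => by
      obtain ⟨⟨u, hu, rfl⟩, hlt⟩ := h2 j hj
      rw [← he, ← L.o_mul hh hu, ← L.o_mul (hh.mul hu) hh]
      refine h1 _ ((hh.mul hu).mul hh) ?_
      rw [mult _ _ (hh.mul hu) hh, mult _ _ hh hu]
      simp [odd_lt, hlt])
    (fun j hj hc => by
      obtain ⟨⟨u, hu, rfl⟩, hlt⟩ := h2 j hj
      rw [← he, ← L.o_mul hh hu] at hc
      have hz : ¬ L.o (h * u) < 65536 := by rw [hc]; simp [oneM]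
      have hcomm : ∀ s, L.ρ (L.toH (h * u) (hh.mul hu)) * s = s * L.ρ (L.toH (h * u) (hh.mul hu)) := by
        intro s
        obtain ⟨v, rfl⟩ := L.ρ_surj s
        rw [← map_mul, ← map_mul]
        refine (L.rho_eq_iff ((hh.mul hu).mul (L.inH_of v)) ((L.inH_of v).mul (hh.mul hu))).2 ?_
        rw [L.o_mul (hh.mul hu) (L.inH_of v), L.o_mul (L.inH_of v) (hh.mul hu), hc]
        exact central_comm _
      have := central_facts.2 _ hcomm
      apply hz
      rw [← L.sign_bit (hh.mul hu), this]; simp)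
  have hodd : ∀ u, L.inH u → ¬ L.o u < 65536 → L.o u ∈ oddA := by
    intro u hu hlt
    have hin : L.inH (h⁻¹ * u) := hh.inv.mul hu
    have hev : L.o (h⁻¹ * u) < 65536 := by
      have := mult h (h⁻¹ * u) hh hin
      rw [mul_inv_cancel_left] at this
      simp [hlt, odd_lt] at this
      exact this
    have := hcl _ (h1 _ hin hev)
    rwa [← he, ← L.o_mul hh hin, mul_inv_cancel_left] at this
  refine ⟨fun u hu => ?_, fun m hm => ?_⟩
  · by_cases q : L.o u < 65536
    · exact List.mem_append_left _ (h1 u hu q)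
    · exact List.mem_append_right _ (hodd u hu q)
  · rcases List.mem_append.1 hm with hm | hm
    · exact (h2 m hm).1
    · have hnd : (evA.map (omul (mkM 1 3 C.1 D.1 1))).Nodup := by
        refine List.Nodup.map_on (fun a ha b hb e => ?_) ev_facts.2.2.1
        obtain ⟨⟨u, hu, rfl⟩, -⟩ := h2 a ha
        obtain ⟨⟨v, hv, rfl⟩, -⟩ := h2 b hb
        rw [← he, ← L.o_mul hh hu, ← L.o_mul hh hv] at e
        have e' := (L.rho_eq_iff (hh.mul hu) (hh.mul hv)).2 e
        refine (L.rho_eq_iff hu hv).1 ?_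
        have l : ∀ u (hu : L.inH u), L.toH (h * u) (hh.mul hu) = L.toH h hh * L.toH u hu := fun _ _ => rfl
        rw [l u hu, l v hv, map_mul, map_mul] at e'
        exact mul_left_cancel e'
      have hsub : evA.map (omul (mkM 1 3 C.1 D.1 1)) ⊆ oddA := fun x hx => by
        obtain ⟨j, hj, rfl⟩ := List.mem_map.1 hx
        exact hcl j hj
      have hp := (hnd.subperm hsub).perm_of_length_le (by rw [List.length_map, ev_facts.1, ev_facts.2.2.2.2.1])
      obtain ⟨j, hj, rfl⟩ := List.mem_map.1 (hp.mem_iff.2 hm)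
      obtain ⟨⟨u, hu, rfl⟩, -⟩ := h2 j hj
      exact ⟨h * u, hh.mul hu, by rw [L.o_mul hh hu, he]⟩

include L in
/-- coordinates in standard position exist -/
theorem exists_std [Finite G] : ∃ L' : Loc G, L'.Std := by
  rcases L.even_cases with ⟨h1, h2⟩ | ⟨h1, h2⟩
  · exact ⟨L, L.std_of_even h1 h2⟩
  obtain ⟨pok, pmul, pinj, psurj, pfix, m, hm, hne⟩ := phi_facts
  have plt : ∀ x, x < 64 → appT phiT x < 64 := fun x hx => (appT_quot pok hx).1
  let co' : RCoord L.t L.R L.V :=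
    { ψ := fun x => L.co.ψ (appT phiT x)
      mul := fun x y hx hy => by
        show L.co.ψ (appT phiT (rmul x y)) = L.co.ψ (appT phiT x) * L.co.ψ (appT phiT y)
        rw [← L.co.mul _ _ (plt x hx) (plt y hy)]
        exact congrArg _ (pmul ⟨x, hx⟩ ⟨y, hy⟩)
      inj := fun x y hx hy e => congrArg Fin.val (pinj ⟨x, hx⟩ ⟨y, hy⟩ (L.co.inj _ _ (plt x hx) (plt y hy) e))
      mem := fun g => by
        refine ⟨fun hg => ?_, fun ⟨x, hx, e⟩ => e ▸ L.psi_mem (plt x hx)⟩
        obtain ⟨y, hy, rfl⟩ := (L.co.mem g).1 hg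
        obtain ⟨x, hx⟩ := psurj ⟨y, hy⟩
        exact ⟨x.1, x.2, congrArg L.co.ψ hx⟩
      memV := fun g => by
        refine (L.co.memV g).trans ⟨?_, ?_⟩ <;> rintro ⟨x, hx, hx2, e⟩ <;> refine ⟨x, hx, hx2, ?_⟩
        · have := pfix ⟨x / 2, by omega⟩
          simp only [show 2 * (x / 2) = x by omega] at this
          show L.co.ψ (appT phiT x) = g
          rw [this, e]
        · have := pfix ⟨x / 2, by omega⟩
          simp only [show 2 * (x / 2) = x by omega] at this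
          rw [← e]
          show L.co.ψ x = L.co.ψ (appT phiT x)
          rw [this]
      two := by
        show L.co.ψ (appT phiT 2) = L.t
        rw [show appT phiT 2 = 2 from pfix 1, L.co.two] }
  let L' : Loc G :=
    { t := L.t, R := L.R, V := L.V, co := co', ρ := L.ρ, ρ_surj := L.ρ_surj, ρ_ker := L.ρ_ker
      move := fun i j k hi hj hk hb => by
        obtain ⟨g, e1, e2, e3⟩ := L.move i j k hi hj hk hb
        have fx : ∀ a, a < 8 → co'.ψ (2 * a) = L.co.ψ (2 * a) := fun a ha => congrArg L.co.ψ (pfix ⟨a, ha⟩)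
        refine ⟨g, ?_, ?_, ?_⟩
        · rw [fx i hi, show co'.ψ 2 = L.co.ψ 2 from fx 1 (by norm_num)]; exact e1
        · rw [fx j hj, show co'.ψ 4 = L.co.ψ 4 from fx 2 (by norm_num)]; exact e2
        · rw [fx k hk, show co'.ψ 8 = L.co.ψ 8 from fx 4 (by norm_num)]; exact e3
      cent_comm := L.cent_comm, cent_four := L.cent_four, cent_sq := L.cent_sq, cent_inv := L.cent_inv
      cent_big := L.cent_big }
  rcases L'.even_cases with ⟨h1', h2'⟩ | ⟨h1', h2'⟩
  · exact ⟨L', L'.std_of_even h1' h2'⟩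
  exfalso
  obtain ⟨⟨u, hu', hum⟩, hlt⟩ := h2' m hm
  have hu : L.inH u := by
    show Commute u (L.co.ψ 2)
    have : L'.co.ψ 2 = L.co.ψ 2 := congrArg L.co.ψ (pfix 1)
    rw [← this]; exact hu'
  -- the two tuples are related through the change of coordinates
  have key : ∀ x, x < 64 → appT phiT (L'.cd (u * L'.co.ψ x * u⁻¹)) = L.cd (u * L.co.ψ (appT phiT x) * u⁻¹) := by
    intro x hx
    refine L.co.inj _ _ (plt _ (L'.cd_lt _)) (L.cd_lt _) ?_
    rw [L.psi_im hu (plt x hx)]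
    exact L'.psi_im hu' hx
  have hcomp : compT phiT (L'.im u) = compT (L.im u) phiT := by
    have e2 : ∀ a, a < 64 → appT (L.im u) a = L.cd (u * L.co.ψ a * u⁻¹) := fun a ha =>
      L.co.inj _ _ (L.act hu ha).1 (L.cd_lt _) (by rw [(L.act hu ha).2, L.psi_im hu ha])
    have g1 : appT phiT 1 = phiT.1 := by decide +kernel
    have g4 : appT phiT 4 = phiT.2.1 := by decide +kernel
    have g8 : appT phiT 8 = phiT.2.2.1 := by decide +kernel
    have g16 : appT phiT 16 = phiT.2.2.2.1 := by decide +kernel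
    have g32 : appT phiT 32 = phiT.2.2.2.2 := by decide +kernel
    obtain ⟨b1, b2, b3, b4, b5, -⟩ := okT_bounds pok
    simp only [compT]
    rw [e2 _ b1, e2 _ b2, e2 _ b3, e2 _ b4, e2 _ b5]
    simp only [im]
    rw [key 1 (by norm_num), key 4 (by norm_num), key 8 (by norm_num), key 16 (by norm_num), key 32 (by norm_num),
      g1, g4, g8, g16, g32]
  have ho := congrArg outT hcomp
  rw [outT_comp pok (L'.im_ok hu'), outT_comp (L.im_ok hu) pok] at ho
  have hum' : outT (L'.im u) = m := hum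
  rw [hum'] at ho
  have hbit : L.o u < 65536 := by
    by_contra hc
    exact absurd ((L.sign_bit hu).1 ((L'.sign_bit hu').2 (by rw [hum]; exact hlt))) hc
  exact hne _ (h1 u hu hbit) ho

end Loc

end Cfsg.Agent.HSTwoLocal
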