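import Cfsg.Agent.Lib.Spor.HSTwoLocal.Coord

/-!
Finite data: the possible images of the centralizer of the involution in the outer automorphisms of its 2-core.
-/

set_option autoImplicit false

namespace Cfsg.Agent.HSTwoLocal

/-- elements of order three stabilising the isotropic plane -/
def o3L : List ℕ :=
  [19506, 24370, 27954, 32306, 51219, 56083, 59667, 64019]

/-- maps trivial on the isotropic plane -/
def k8L : List ℕ :=
  [33825, 34081, 38433, 38689, 42017, 42273, 46625, 46881]

/-- a fixed element of order three -/
def wA : ℕ := 19506

/-- a fixed involution -/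
def kA : ℕ := 38689

/-- elements of order five -/
def o5L : List ℕ :=
  [5083, 5114, 6347, 6355, 6514, 6634, 7010, 7107, 8599, 8630, 9159, 9173, 9188, 9686,
    9715, 9911, 9973, 10134, 10180, 10211, 12685, 12718, 12732, 12895, 12926, 15438, 15549, 15698,
    15727, 15756, 15938, 16047, 16958, 17020, 18078, 18136, 19132, 19190, 20120, 20182, 22424, 22461,
    22687, 22727, 23871, 24039, 24429, 24520, 25115, 25181, 27021, 27108, 27417, 27506, 27556, 28036,
    28137, 28477, 28498, 28587, 29209, 29244, 30092, 30123, 30201, 31003, 31074, 31109, 31810, 31989,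
    32332, 32421, 37295, 37303, 38751, 38838, 38990, 39126, 40878, 40903, 41279, 41374, 42366, 42459,
    43887, 43893, 43972, 44703, 44757, 44862, 44900, 45003, 45373, 45452, 45462, 46743, 46842, 47686,
    47847, 48269, 48374, 48444, 48471, 48618, 50136, 50151, 51103, 51172, 51992, 52143, 53079, 53156,
    54040, 54261, 54702, 54774, 55366, 55454, 56229, 56264, 58138, 58308, 58361, 59229, 59322, 59331,
    59757, 59780, 60093, 60147, 60772, 60809, 62844, 62857, 62931, 63164, 63189, 63770, 63861, 63971,
    64076, 64233, 64645, 64698]

/-- the first possible even part -/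
def evA : List ℕ :=
  [5064, 5083, 5097, 5114, 8580, 8599, 8613, 8630, 12876, 12895, 12909, 12926, 19506, 19582,
    19638, 19706, 24370, 24429, 24471, 24520, 27954, 27999, 28036, 28137, 32306, 32332, 32421, 32475,
    33825, 33901, 33957, 34025, 38689, 38751, 38838, 38856, 42273, 42366, 42372, 42459, 46625, 46668,
    46743, 46842, 51219, 51295, 51351, 51419, 56083, 56190, 56229, 56264, 59667, 59757, 59780, 59898,
    64019, 64076, 64182, 64233]

/-- the second possible even part -/
def evB : List ℕ :=
  [6347, 6634, 6905, 7128, 9349, 9636, 9911, 10134, 15438, 15727, 15996, 16221, 17020, 18136,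
    18582, 19506, 21103, 22506, 23223, 24370, 25181, 25803, 27556, 27954, 29262, 30201, 31109, 32306,
    33188, 33825, 35196, 36089, 37303, 38689, 38990, 40664, 41349, 42273, 43887, 45003, 45462, 46625,
    47709, 48618, 50136, 50287, 51219, 53156, 54219, 54862, 56083, 56982, 58361, 59229, 59667, 60855,
    62442, 62844, 64019, 64645]

/-- the odd part -/
def oddA : List ℕ :=
  [70216, 70234, 70251, 70265, 74692, 74710, 74727, 74741, 78220, 78238, 78255, 78269, 83986, 84058,
    84126, 84182, 88594, 88648, 88765, 88807, 92946, 93049, 93103, 93124, 96530, 96619, 96652, 96757,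
    101425, 101497, 101565, 101621, 106033, 106056, 106159, 106198, 110385, 110443, 110494, 110532, 113969, 114010,
    114060, 114151, 115747, 115819, 115887, 115943, 120355, 120392, 120478, 120565, 124707, 124762, 124861, 124868,
    128291, 128377, 128396, 128470]

/-- change of coordinates exchanging the two possibilities -/
def phiT : Tup := (1, 4, 8, 16, 41)

end Cfsg.Agent.HSTwoLocal
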