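import Cfsg.Agent.Lib.Spor.HSTwoLocal.Action
import Cfsg.Agent.Lib.Spor.HSTwoLocal.OutData

/-!
Finite facts on the outer automorphisms of the 2-core.
-/

set_option autoImplicit false
set_option maxRecDepth 100000
set_option maxHeartbeats 1000000
set_option linter.style.haveILetI false

namespace Cfsg.Agent.HSTwoLocal

/-- the form on the quotient -/
def symW (u v : ℕ) : ℕ :=
  Nat.mod (Nat.mod u 2 * Nat.mod (v / 4) 2 + Nat.mod (u / 2) 2 * Nat.mod (v / 8) 2 + Nat.mod v 2 * Nat.mod (u / 4) 2 +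
    Nat.mod (v / 2) 2 * Nat.mod (u / 8) 2) 2

/-- a symplectic map given by its columns -/
def sympC (A B C D : ℕ) : Bool :=
  Nat.beq (symW A C) 1 && Nat.beq (symW B D) 1 && Nat.beq (symW A B) 0 && Nat.beq (symW A D) 0 &&
    Nat.beq (symW B C) 0 && Nat.beq (symW C D) 0

/-- a map from its columns -/
def mkM (A B C D e : ℕ) : ℕ := A + 16 * B + 256 * C + 4096 * D + 65536 * e

/-- fifth power -/
def om5 (m : ℕ) : ℕ := omul (omul (omul (omul m m) m) m) m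

/-- one step of the closure -/
def closStep (gens : List ℕ) (acc : List ℕ) : List ℕ :=
  acc.foldl (fun S x => gens.foldl (fun S g => bif S.elem (omul x g) then S else S ++ [omul x g]) S) acc

/-- the closure, stopped when it is too large -/
def closG (gens : List ℕ) : ℕ → List ℕ → List ℕ
  | 0, acc => acc
  | n + 1, acc =>
    bif Nat.blt 60 acc.length then acc else
      bif Nat.beq (closStep gens acc).length acc.length then acc else closG gens n (closStep gens acc)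

theorem sym_codes : ∀ x y : Fin 64, (rmul x.1 y.1 = rmul y.1 x.1 → symW (x.1 / 4) (y.1 / 4) = 0) ∧
    (rmul y.1 x.1 = rmul 2 (rmul x.1 y.1) → symW (x.1 / 4) (y.1 / 4) = 1) := by decide +kernel

theorem pow4_o3 : ∀ C D : Fin 16, ∀ e : Fin 2, sympC 2 3 C.1 D.1 = true →
    omul (omul (omul (mkM 2 3 C.1 D.1 e.1) (mkM 2 3 C.1 D.1 e.1)) (mkM 2 3 C.1 D.1 e.1)) (mkM 2 3 C.1 D.1 e.1) ∈ o3L := by
  decide +kernel

theorem o3_facts : ∀ w ∈ o3L, omul w (omul w w) = oneM ∧ w < 65536 := by decide +kernel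

theorem k8_mem : ∀ C D : Fin 16, sympC 1 2 C.1 D.1 = true → mkM 1 2 C.1 D.1 0 ∈ k8L := by decide +kernel

theorem k8_facts : ∀ a ∈ k8L, a < 65536 ∧ omul a a = oneM ∧ omul a oneM = a ∧ omul oneM a = a ∧
    ∀ b ∈ k8L, omul a b = omul b a ∧ omul a (omul a b) = b ∧ omul a b ∈ k8L := by decide +kernel

theorem four_facts : ∀ w ∈ o3L, ∀ k₁ ∈ k8L, ∀ k₂ ∈ k8L, k₁ ≠ oneM → k₂ ≠ oneM → k₁ ≠ k₂ →
    omul (omul w k₁) (omul w w) ∈ [k₁, k₂, omul k₁ k₂] → omul (omul w k₂) (omul w w) ∈ [k₁, k₂, omul k₁ k₂] →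
    wA ∈ closG [w, k₁, k₂] 24 [oneM] ∧ kA ∈ closG [w, k₁, k₂] 24 [oneM] := by decide +kernel

theorem five_mem : ∀ A B C D : Fin 16, sympC A.1 B.1 C.1 D.1 = true → om5 (mkM A.1 B.1 C.1 D.1 0) = oneM →
    mkM A.1 B.1 C.1 D.1 0 ≠ oneM → mkM A.1 B.1 C.1 D.1 0 ∈ o5L := by decide +kernel

/-- the fixed alternating group of degree four -/
def a4L : List ℕ :=
  [19506, 24370, 27954, 32306, 33825, 38689, 42273, 46625, 51219, 56083, 59667, 64019]

/-- products of the fixed subgroup with powers -/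
def genB (b : ℕ) : List ℕ :=
  a4L.flatMap fun a =>
    [a, omul a b, omul a (omul b b), omul a (omul b (omul b b)), omul a (omul b (omul b (omul b b)))]

theorem a4_mem : ∀ a ∈ a4L, a ∈ closG [wA, kA] 12 [oneM] ∧ a < 65536 := by decide +kernel

/-- the order is impossible in the alternating group -/
def badOrd (m : ℕ) : Bool :=
  (!Nat.beq m oneM) && (!Nat.beq (omul m m) oneM) && (!Nat.beq (omul m (omul m m)) oneM) && (!Nat.beq (om5 m) oneM)

theorem five_bad : ∀ b ∈ o5L, b ∈ evA ∨ b ∈ evB ∨ ∃ a ∈ [19506, 51219, 27954, 59667], badOrd (omul a b) = true := by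
  decide +kernel

theorem five_genA : ∀ b ∈ o5L, b ∈ evA → ∀ m ∈ evA, m ∈ genB b := by decide +kernel

theorem five_genB : ∀ b ∈ o5L, b ∈ evB → ∀ m ∈ evB, m ∈ genB b := by decide +kernel

theorem ev_facts : evA.length = 60 ∧ evB.length = 60 ∧ evA.Nodup ∧ evB.Nodup ∧ oddA.length = 60 ∧
    (∀ m ∈ evA, m < 65536) ∧ (∀ m ∈ evB, m < 65536) := by decide +kernel

theorem even_ord : ∀ s : Equiv.Perm (Fin 5), Equiv.Perm.sign s = 1 →
    s = 1 ∨ s * s = 1 ∨ s * (s * s) = 1 ∨ s * s * s * s * s = 1 := by decide +kernel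

theorem odd_facts : (∀ m ∈ evA ++ evB, colM m 0 = 1 → colM m 1 ≠ 3) ∧
    ∀ C D : Fin 16, sympC 1 3 C.1 D.1 = true → (∀ j ∈ evA, omul (omul (mkM 1 3 C.1 D.1 1) j) (mkM 1 3 C.1 D.1 1) ∈ evA) →
      (∀ j ∈ evA, omul (mkM 1 3 C.1 D.1 1) j ≠ oneM + 65536) →
      ∀ j ∈ evA, omul (mkM 1 3 C.1 D.1 1) j ∈ oddA := by decide +kernel

theorem central_facts : (∀ m ∈ evA ++ oddA, omul m (oneM + 65536) = omul (oneM + 65536) m) ∧
    ∀ s : Equiv.Perm (Fin 5), (∀ u : Equiv.Perm (Fin 5), s * u = u * s) → s = 1 := by decide +kernel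

theorem phi_facts : okT phiT = true ∧ (∀ x y : Fin 64, appT phiT (rmul x.1 y.1) = rmul (appT phiT x.1) (appT phiT y.1)) ∧
    (∀ x y : Fin 64, appT phiT x.1 = appT phiT y.1 → x = y) ∧ (∀ y : Fin 64, ∃ x : Fin 64, appT phiT x.1 = y.1) ∧
    (∀ i : Fin 8, appT phiT (2 * i.1) = 2 * i.1) ∧
    ∃ m ∈ evB, ∀ n ∈ evB, omul (outT phiT) m ≠ omul n (outT phiT) := by decide +kernel

/-- even involutions and the identity -/
def evInv : Finset (Equiv.Perm (Fin 5)) := Finset.univ.filter fun s => Equiv.Perm.sign s = 1 ∧ s * s = 1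

theorem alt_five_aux : ∀ a ∈ evInv, ∀ b ∈ evInv, ∀ c ∈ evInv,
    a * b ≠ b * a ∨ a * c ≠ c * a ∨ b * c ≠ c * b ∨ a = 1 ∨ b = 1 ∨ a = b ∨ c = 1 ∨ c = a ∨ c = b ∨ c = a * b := by
  decide +kernel

theorem alt_five (a b c : Equiv.Perm (Fin 5))
    (h : Equiv.Perm.sign a = 1 ∧ Equiv.Perm.sign b = 1 ∧ Equiv.Perm.sign c = 1 ∧ a * a = 1 ∧ b * b = 1 ∧ c * c = 1 ∧
      a * b = b * a ∧ a * c = c * a ∧ b * c = c * b ∧ a ≠ 1 ∧ b ≠ 1 ∧ a ≠ b) :
    c = 1 ∨ c = a ∨ c = b ∨ c = a * b := by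
  obtain ⟨sa, sb, sc, qa, qb, qc, ab, ac, bc, na, nb, nab⟩ := h
  rcases alt_five_aux a (by simp [evInv, sa, qa]) b (by simp [evInv, sb, qb]) c (by simp [evInv, sc, qc]) with
    h | h | h | h | h | h | h
  exacts [absurd ab h, absurd ac h, absurd bc h, absurd h na, absurd h nb, absurd h nab, h]

theorem s5_facts : (∃ s : Equiv.Perm (Fin 5), s ^ 5 = 1 ∧ s ≠ 1) ∧
    (Finset.univ.filter fun s : Equiv.Perm (Fin 5) => Equiv.Perm.sign s = 1).card = 60 := by decide +kernel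

theorem central_comm (m : ℕ) : omul (oneM + 65536) m = omul m (oneM + 65536) := by
  have h : ∀ w : Fin 16, linM (oneM + 65536) w.1 = w.1 := by decide +kernel
  have hl : ∀ k, colM m k < 16 := fun k => Nat.mod_lt _ (by norm_num)
  obtain ⟨c0, c1, c2, c3⟩ : colM (oneM + 65536) 0 = 1 ∧ colM (oneM + 65536) 1 = 2 ∧ colM (oneM + 65536) 2 = 4 ∧
      colM (oneM + 65536) 3 = 8 := by decide
  have e0 : linM m 1 = colM m 0 := by
    show ((colM m 0 ^^^ 0) ^^^ 0) ^^^ 0 = _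
    simp
  have e1 : linM m 2 = colM m 1 := by
    show ((0 ^^^ colM m 1) ^^^ 0) ^^^ 0 = _
    simp
  have e2 : linM m 4 = colM m 2 := by
    show ((0 ^^^ 0) ^^^ colM m 2) ^^^ 0 = _
    simp
  have e3 : linM m 8 = colM m 3 := by
    show ((0 ^^^ 0) ^^^ 0) ^^^ colM m 3 = _
    simp
  unfold omul
  rw [h ⟨_, hl 0⟩, h ⟨_, hl 1⟩, h ⟨_, hl 2⟩, h ⟨_, hl 3⟩, c0, c1, c2, c3, e0, e1, e2, e3, Nat.add_comm (m / 65536)]

end Cfsg.Agent.HSTwoLocal
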