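import Cfsg.Agent.Lib.Spor.HSTwoLocal.Coord
import Cfsg.Agent.Lib.Solv.Cores
import Cfsg.Prelude.Def_Transfer

/-!
A central product of a cyclic group of order four and an extraspecial group of order 32 in coordinates adapted to
an elementary abelian subgroup of order eight.
-/

set_option autoImplicit false
set_option linter.style.haveILetI false

namespace Cfsg.Agent.HSTwoLocal

/-- coordinates on a subgroup of order 64 with `V` in normal position -/
structure RCoord {G : Type*} [Group G] (t : G) (R V : Subgroup G) where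
  ψ : ℕ → G
  mul : ∀ x y, x < 64 → y < 64 → ψ (rmul x y) = ψ x * ψ y
  inj : ∀ x y, x < 64 → y < 64 → ψ x = ψ y → x = y
  mem : ∀ g, g ∈ R ↔ ∃ x, x < 64 ∧ ψ x = g
  memV : ∀ g, g ∈ V ↔ ∃ x, x < 16 ∧ x % 2 = 0 ∧ ψ x = g
  two : ψ 2 = t

variable {G : Type*} [Group G]

/-- products of two normal forms -/
theorem nf_mul {t c a₁ a₂ b₁ b₂ : G} (ht : c ^ 2 = t) (ca : Commute c a₁) (ca' : Commute c a₂) (cb : Commute c b₁)
    (cb' : Commute c b₂) (hb : Commute b₁ b₂) (ha : Commute a₁ a₂) (h11 : b₁ * a₁ = t * (a₁ * b₁))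
    (h12 : Commute b₁ a₂) (h21 : Commute b₂ a₁) (h22 : b₂ * a₂ = t * (a₂ * b₂)) (i p q r s j p' q' r' s' : ℕ)
    (hr : r < 2) (hs : s < 2) (hp' : p' < 2) (hq' : q' < 2) :
    c ^ i * a₁ ^ p * a₂ ^ q * b₁ ^ r * b₂ ^ s * (c ^ j * a₁ ^ p' * a₂ ^ q' * b₁ ^ r' * b₂ ^ s') =
      c ^ (i + j + 2 * (r * p' + s * q')) * a₁ ^ (p + p') * a₂ ^ (q + q') * b₁ ^ (r + r') * b₂ ^ (s + s') := by
  have e1 : b₁ ^ r * a₁ ^ p' = c ^ (2 * (r * p')) * (a₁ ^ p' * b₁ ^ r) := by
    interval_cases r <;> interval_cases p' <;> simp [h11, ← ht]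
  have e2 : b₂ ^ s * a₂ ^ q' = c ^ (2 * (s * q')) * (a₂ ^ q' * b₂ ^ s) := by
    interval_cases s <;> interval_cases q' <;> simp [h22, ← ht]
  have hc : ∀ {x : G}, Commute c x → ∀ n m : ℕ, Commute (c ^ n) (x ^ m) := fun h n m => h.pow_pow n m
  calc c ^ i * a₁ ^ p * a₂ ^ q * b₁ ^ r * b₂ ^ s * (c ^ j * a₁ ^ p' * a₂ ^ q' * b₁ ^ r' * b₂ ^ s')
      = c ^ i * a₁ ^ p * a₂ ^ q * b₁ ^ r * (b₂ ^ s * c ^ j) * a₁ ^ p' * a₂ ^ q' * b₁ ^ r' * b₂ ^ s' := by group
    _ = c ^ i * a₁ ^ p * a₂ ^ q * (b₁ ^ r * c ^ j) * (b₂ ^ s * a₁ ^ p') * a₂ ^ q' * b₁ ^ r' * b₂ ^ s' := by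
        rw [← (hc cb' j s).eq]; group
    _ = c ^ i * a₁ ^ p * (a₂ ^ q * c ^ j) * (b₁ ^ r * a₁ ^ p') * (b₂ ^ s * a₂ ^ q') * b₁ ^ r' * b₂ ^ s' := by
        rw [← (hc cb j r).eq, (h21.pow_pow s p').eq]; group
    _ = c ^ i * (a₁ ^ p * c ^ j) * (a₂ ^ q * c ^ (2 * (r * p'))) * a₁ ^ p' * (b₁ ^ r * c ^ (2 * (s * q'))) *
          a₂ ^ q' * (b₂ ^ s * b₁ ^ r') * b₂ ^ s' := by
        rw [← (hc ca' j q).eq, e1, e2]; group
    _ = c ^ i * c ^ j * (a₁ ^ p * c ^ (2 * (r * p'))) * (a₂ ^ q * a₁ ^ p') * c ^ (2 * (s * q')) *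
          (b₁ ^ r * a₂ ^ q') * b₁ ^ r' * b₂ ^ s * b₂ ^ s' := by
        rw [← (hc ca j p).eq, ← (hc ca' (2 * (r * p')) q).eq, ← (hc cb (2 * (s * q')) r).eq,
          (hb.symm.pow_pow s r').eq]; group
    _ = c ^ i * c ^ j * c ^ (2 * (r * p')) * a₁ ^ p * a₁ ^ p' * (a₂ ^ q * c ^ (2 * (s * q'))) * a₂ ^ q' *
          b₁ ^ r * b₁ ^ r' * b₂ ^ s * b₂ ^ s' := by
        rw [← (hc ca (2 * (r * p')) p).eq, ← (ha.pow_pow p' q).eq, (h12.pow_pow r q').eq]; group
    _ = c ^ i * c ^ j * c ^ (2 * (r * p')) * (a₁ ^ p * a₁ ^ p' * c ^ (2 * (s * q'))) * a₂ ^ q * a₂ ^ q' *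
          b₁ ^ r * b₁ ^ r' * b₂ ^ s * b₂ ^ s' := by
        rw [← (hc ca' (2 * (s * q')) q).eq]; group
    _ = _ := by
        rw [← pow_add a₁, ← (hc ca (2 * (s * q')) (p + p')).eq]
        simp only [pow_add, mul_add, mul_assoc]

/-- arithmetic of the codes -/
theorem rmul_fields : ∀ x y : Fin 64,
    rmul x.1 y.1 % 4 = (x.1 % 4 + y.1 % 4 + 2 * (x.1 / 16 % 2 * (y.1 / 4 % 2) + x.1 / 32 % 2 * (y.1 / 8 % 2))) % 4 ∧
    rmul x.1 y.1 / 4 % 2 = (x.1 / 4 % 2 + y.1 / 4 % 2) % 2 ∧ rmul x.1 y.1 / 8 % 2 = (x.1 / 8 % 2 + y.1 / 8 % 2) % 2 ∧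
    rmul x.1 y.1 / 16 % 2 = (x.1 / 16 % 2 + y.1 / 16 % 2) % 2 ∧
    rmul x.1 y.1 / 32 % 2 = (x.1 / 32 % 2 + y.1 / 32 % 2) % 2 := by decide +kernel

theorem rmul_sep : ∀ x : Fin 64, x.1 < 4 ∨ ∃ g ∈ [4, 8, 16, 32], rmul x.1 g = rmul 2 (rmul g x.1) := by decide +kernel

/-- the coordinates exist -/
theorem exists_coord [Finite G] (t : G) (ht : orderOf t = 2) (H : Subgroup G)
    (hH : H = Subgroup.centralizer ({t} : Set G)) (R : Subgroup G) (hR : R = (Cfsg.pCore 2 H).map H.subtype)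
    (Cy E : Subgroup G) (hCy : IsCyclic Cy) (hCycard : Nat.card Cy = 4)
    (hCyle : Cy ≤ R ⊓ Subgroup.centralizer (R : Set G)) (hEle : E ≤ R) (hEex : Cfsg.IsExtraspecial 2 E)
    (hEcard : Nat.card E = 32) (hprod : Cy ⊔ E = R) (hmeet : Cy ⊓ E = E ⊓ Subgroup.centralizer (E : Set G))
    (V : Subgroup G) (hVcomm : IsMulCommutative V) (hVexp : ∀ v ∈ V, v ^ 2 = 1) (hVcard : Nat.card V = 8)
    (hVR : V ≤ R) : Nonempty (RCoord t R V) := by
  classical
  haveI : Fact (Nat.Prime 2) := ⟨Nat.prime_two⟩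
  haveI : Fintype G := Fintype.ofFinite G
  have t2 : t * t = 1 := by rw [← pow_two, ← ht, pow_orderOf_eq_one]
  have tne : t ≠ 1 := fun e => by rw [e, orderOf_one] at ht; norm_num at ht
  -- the central involution lies in the core
  have tR : t ∈ R := by
    have tH : t ∈ H := by rw [hH, Subgroup.mem_centralizer_singleton_iff]
    set s : H := ⟨t, tH⟩ with hs
    have hcen : ∀ g : H, g * s = s * g := fun g =>
      Subtype.ext (Subgroup.mem_centralizer_singleton_iff.1 (le_of_eq hH g.2))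
    haveI : (Subgroup.zpowers s).Normal := ⟨fun n hn g => by
      obtain ⟨k, rfl⟩ := hn
      rw [← conj_zpow, show g * s * g⁻¹ = s by rw [hcen, mul_inv_cancel_right]]
      exact ⟨k, rfl⟩⟩
    have hp : IsPGroup 2 (Subgroup.zpowers s) :=
      IsPGroup.of_card (n := 1) (by rw [Nat.card_zpowers, pow_one, ← Subgroup.orderOf_coe]; exact ht)
    rw [hR]
    exact ⟨s, Solv.normal_le_pCore hp (Subgroup.mem_zpowers s), rfl⟩
  obtain ⟨c₀, hc₀⟩ := IsCyclic.exists_generator (α := Cy)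
  set c : G := (c₀ : G) with hcdef
  have hc4 : orderOf c = 4 := by
    rw [hcdef, Subgroup.orderOf_coe, orderOf_eq_card_of_forall_mem_zpowers hc₀, hCycard]
  have hcR : ∀ x ∈ R, Commute c x := fun x hx => (Subgroup.mem_centralizer_iff.1 (hCyle c₀.2).2 x hx).symm
  have cyPow : ∀ x ∈ Cy, ∃ i < 4, c ^ i = x := by
    intro x hx
    have h := hc₀ ⟨x, hx⟩
    rw [← mem_powers_iff_mem_zpowers] at h
    obtain ⟨n, hn⟩ := h
    refine ⟨n % 4, Nat.mod_lt _ (by norm_num), ?_⟩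
    rw [← hc4, pow_mod_orderOf]
    exact congrArg Subtype.val hn
  -- decomposition of R
  have decomp : ∀ x ∈ R, ∃ i, ∃ e ∈ E, c ^ i * e = x := by
    let D : Subgroup G :=
      { carrier := {x | ∃ i, ∃ e ∈ E, c ^ i * e = x}
        one_mem' := ⟨0, 1, one_mem E, by simp⟩
        mul_mem' := by
          rintro _ _ ⟨i, e, he, rfl⟩ ⟨j, f, hf, rfl⟩
          refine ⟨i + j, e * f, mul_mem he hf, ?_⟩
          calc c ^ (i + j) * (e * f) = c ^ i * (c ^ j * e) * f := by rw [pow_add]; group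
            _ = c ^ i * e * (c ^ j * f) := by rw [((hcR e (hEle he)).pow_left j).eq]; group
        inv_mem' := by
          rintro _ ⟨i, e, he, rfl⟩
          refine ⟨4 * i - i, e⁻¹, inv_mem he, ?_⟩
          have h1 : c ^ (4 * i - i) = (c ^ i)⁻¹ := by
            refine eq_inv_of_mul_eq_one_left ?_
            rw [← pow_add, Nat.sub_add_cancel (by omega), pow_mul, ← hc4, pow_orderOf_eq_one, one_pow]
          rw [h1, mul_inv_rev]
          exact (((hcR e (hEle he)).pow_left i).inv_inv).eq }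
    intro x hx
    have hle : Cy ⊔ E ≤ D := sup_le (fun y hy => by
      obtain ⟨n, -, rfl⟩ := cyPow y hy
      exact ⟨n, 1, one_mem E, by simp⟩) fun y hy => ⟨0, y, hy, by simp⟩
    exact hle (hprod.symm ▸ hx)
  -- the centre of the extraspecial factor
  have hCE : ∀ x, x ∈ E ⊓ Subgroup.centralizer (E : Set G) ↔ ∃ h : x ∈ E, (⟨x, h⟩ : E) ∈ Subgroup.center E := by
    intro x
    rw [Subgroup.mem_inf, Subgroup.mem_centralizer_iff]
    constructor
    · rintro ⟨h1, h2⟩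
      exact ⟨h1, Subgroup.mem_center_iff.2 fun y => Subtype.ext (h2 y.1 y.2)⟩
    · rintro ⟨h1, h2⟩
      exact ⟨h1, fun y hy => congrArg Subtype.val (Subgroup.mem_center_iff.1 h2 ⟨y, hy⟩)⟩
  obtain ⟨z₀, hz₀⟩ := exists_prime_orderOf_dvd_card' (G := Subgroup.center E) 2 (by rw [hEex.2])
  set z : G := (((z₀ : E)) : G) with hz
  have hz2 : orderOf z = 2 := by rw [hz, Subgroup.orderOf_coe, Subgroup.orderOf_coe, hz₀]
  have hcent : ∀ x, x ∈ E ⊓ Subgroup.centralizer (E : Set G) → x = 1 ∨ x = z := by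
    intro x hx
    obtain ⟨h1, h2⟩ := (hCE x).1 hx
    have htop : Subgroup.zpowers z₀ = ⊤ := Subgroup.eq_top_of_card_eq _ (by rw [Nat.card_zpowers, hz₀, hEex.2])
    have h3 : (⟨⟨x, h1⟩, h2⟩ : Subgroup.center E) ∈ Subgroup.zpowers z₀ := htop ▸ Subgroup.mem_top _
    rw [← mem_powers_iff_mem_zpowers] at h3
    obtain ⟨n, hn⟩ := h3
    have e : z ^ n = x := by
      have := congrArg (fun w : Subgroup.center E => ((w : E) : G)) hn
      simpa [hz] using this
    rw [← e, ← pow_mod_orderOf, hz2]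
    rcases Nat.mod_two_eq_zero_or_one n with h | h <;> simp [h]
  have zE : z ∈ E ⊓ Subgroup.centralizer (E : Set G) := (hCE z).2 ⟨(z₀ : E).2, z₀.2⟩
  have zc : z = c ^ 2 := by
    obtain ⟨i, hi, e⟩ := cyPow z ((hmeet.symm ▸ zE : z ∈ Cy ⊓ E)).1
    interval_cases i
    · rw [← e, pow_zero, orderOf_one] at hz2; norm_num at hz2
    · rw [← e, pow_one, hc4] at hz2; norm_num at hz2
    · exact e.symm
    · rw [← e, orderOf_pow' c (by norm_num), hc4] at hz2; norm_num at hz2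
  have zCyR : ∀ x ∈ R, (∀ y ∈ R, x * y = y * x) → ∃ i, c ^ i = x := by
    intro x hx hcen
    obtain ⟨i, e, he, rfl⟩ := decomp x hx
    have heC : e ∈ E ⊓ Subgroup.centralizer (E : Set G) := Subgroup.mem_inf.2 ⟨he,
      Subgroup.mem_centralizer_iff.2 fun y hy => by
        have h := hcen y (hEle hy)
        rw [mul_assoc, ← mul_assoc y, ← ((hcR y (hEle hy)).pow_left i).eq, mul_assoc (c ^ i) y e] at h
        exact (mul_left_cancel h).symm⟩
    rcases hcent e heC with e' | e' <;> rw [e']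
    · exact ⟨i, (mul_one _).symm⟩
    · exact ⟨i + 2, by rw [pow_add, zc]⟩
  have tc : t = c ^ 2 := by
    obtain ⟨i, e⟩ := zCyR t tR fun y hy => by
      have hyH : y ∈ Subgroup.centralizer ({t} : Set G) := by
        rw [hR] at hy; obtain ⟨w, -, rfl⟩ := hy; rw [← hH]; exact w.2
      exact (Subgroup.mem_centralizer_singleton_iff.1 hyH).symm
    rw [← pow_mod_orderOf, hc4] at e
    have := Nat.mod_lt i (show 0 < 4 by norm_num)
    interval_cases h : i % 4
    · exact absurd (e.symm.trans (pow_zero c)) tne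
    · rw [← e, pow_one, hc4] at ht; norm_num at ht
    · exact e.symm
    · rw [← e, orderOf_pow' c (by norm_num), hc4] at ht; norm_num at ht
  rw [← tc] at zc
  subst zc
  -- commutators and squares
  have dich : ∀ x ∈ R, ∀ y ∈ R, x * y = y * x ∨ x * y = z * (y * x) := by
    intro x hx y hy
    obtain ⟨i, e, he, rfl⟩ := decomp x hx
    obtain ⟨j, f, hf, rfl⟩ := decomp y hy
    have hcm : ((⟨e, he⟩ : E) * ⟨f, hf⟩ * (⟨e, he⟩ : E)⁻¹ * (⟨f, hf⟩ : E)⁻¹) ∈ Subgroup.center E := by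
      rw [← hEex.1.2.2, commutator_def]
      exact Subgroup.commutator_mem_commutator (Subgroup.mem_top _) (Subgroup.mem_top _)
    have hcm' : e * f * e⁻¹ * f⁻¹ ∈ E ⊓ Subgroup.centralizer (E : Set G) := (hCE _).2 ⟨_, hcm⟩
    have sw : c ^ i * e * (c ^ j * f) = c ^ (i + j) * (e * f) := by
      calc c ^ i * e * (c ^ j * f) = c ^ i * (e * c ^ j) * f := by group
        _ = _ := by rw [← ((hcR e (hEle he)).pow_left j).eq, pow_add]; group
    have sw' : c ^ j * f * (c ^ i * e) = c ^ (i + j) * (f * e) := by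
      calc c ^ j * f * (c ^ i * e) = c ^ j * (f * c ^ i) * e := by group
        _ = _ := by rw [← ((hcR f (hEle hf)).pow_left i).eq, add_comm, pow_add]; group
    rcases hcent _ hcm' with h | h
    · left
      rw [sw, sw', show e * f = f * e from by
        calc e * f = e * f * e⁻¹ * f⁻¹ * (f * e) := by group
          _ = f * e := by rw [h, one_mul]]
    · right
      rw [sw, sw', show e * f = z * (f * e) from by
        calc e * f = e * f * e⁻¹ * f⁻¹ * (f * e) := by group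
          _ = z * (f * e) := by rw [h], ← mul_assoc, ← mul_assoc z, tc, ← pow_add, ← pow_add, add_comm]
  have zcen : ∀ x ∈ R, z * x = x * z := fun x hx => by rw [tc]; exact ((hcR x hx).pow_left 2).eq
  have squ : ∀ x ∈ R, x * x = 1 ∨ x * x = z := by
    intro x hx
    obtain ⟨i, e, he, rfl⟩ := decomp x hx
    have hcen2 : e * e ∈ E ⊓ Subgroup.centralizer (E : Set G) := Subgroup.mem_inf.2 ⟨mul_mem he he,
      Subgroup.mem_centralizer_iff.2 fun y hy => by
        rcases dich e (hEle he) y (hEle hy) with h | h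
        · exact ((Commute.mul_left (show Commute e y from h) (show Commute e y from h)).eq).symm
        · calc y * (e * e) = (y * e) * e := by group
            _ = z * (e * y) * e := by
                rw [show y * e = z * (e * y) from by rw [h, ← mul_assoc z z, t2, one_mul]]
            _ = z * e * (y * e) := by group
            _ = z * e * (z * (e * y)) := by
                rw [show y * e = z * (e * y) from by rw [h, ← mul_assoc z z, t2, one_mul]]
            _ = z * (e * z) * (e * y) := by group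
            _ = e * e * y := by rw [← zcen e (hEle he), ← mul_assoc z z, t2]; group⟩
    have sw : c ^ i * e * (c ^ i * e) = c ^ (2 * i) * (e * e) := by
      calc c ^ i * e * (c ^ i * e) = c ^ i * (e * c ^ i) * e := by group
        _ = _ := by rw [← ((hcR e (hEle he)).pow_left i).eq, two_mul, pow_add]; group
    rw [sw, pow_mul, ← tc]
    rcases Nat.mod_two_eq_zero_or_one i with hi | hi <;>
      rw [← pow_mod_orderOf, hz2, hi] <;> rcases hcent _ hcen2 with h | h <;> rw [h] <;>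
        simp [t2]
  -- basis of V
  have hnc : ∀ a ∈ R, (∀ i, c ^ i ≠ a) → ∃ y ∈ R, a * y = z * (y * a) := by
    intro a ha hna
    by_contra hno
    push Not at hno
    obtain ⟨i, e⟩ := zCyR a ha fun y hy => (dich a ha y hy).resolve_right (hno y hy)
    exact hna i e
  have hCyV : ∀ v ∈ V, ∀ i, c ^ i = v → v = 1 ∨ v = z := by
    intro v hv i e
    have h := hVexp v hv
    rw [← e, ← pow_mul, ← orderOf_dvd_iff_pow_eq_one, hc4] at h
    obtain ⟨k, hk⟩ : 2 ∣ i := by omega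
    rw [← e, hk, pow_mul, ← tc, ← pow_mod_orderOf, hz2]
    rcases Nat.mod_two_eq_zero_or_one k with h | h <;> simp [h]
  have cV : ∀ x ∈ V, ∀ y ∈ V, Commute x y := fun x hx y hy =>
    congrArg Subtype.val (hVcomm.is_comm.comm ⟨x, hx⟩ ⟨y, hy⟩)
  have vcard : (Finset.univ.filter fun v => v ∈ V).card = 8 := by
    rw [← hVcard, Nat.card_eq_fintype_card, Fintype.card_subtype]
  have pick : ∀ S : Finset G, S.card < 8 → ∃ v ∈ V, v ∉ S := fun S hS => by
    obtain ⟨v, hv, hv'⟩ := Finset.exists_mem_notMem_of_card_lt_card (hS.trans_eq vcard.symm)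
    exact ⟨v, (Finset.mem_filter.1 hv).2, hv'⟩
  obtain ⟨a₁, ha₁, na₁⟩ := pick {1, z} ((Finset.card_le_two).trans_lt (by norm_num))
  obtain ⟨a₂, ha₂, na₂⟩ := pick {1, z, a₁, a₁ * z} ((Finset.card_le_four).trans_lt (by norm_num))
  simp only [Finset.mem_insert, Finset.mem_singleton, not_or] at na₁ na₂
  have n1 : ∀ i, c ^ i ≠ a₁ := fun i e => (hCyV a₁ ha₁ i e).elim na₁.1 na₁.2
  have n2 : ∀ i, c ^ i ≠ a₂ := fun i e => (hCyV a₂ ha₂ i e).elim na₂.1 na₂.2.1
  have sq1 : a₁ * a₁ = 1 := by rw [← pow_two]; exact hVexp a₁ ha₁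
  have sq2 : a₂ * a₂ = 1 := by rw [← pow_two]; exact hVexp a₂ ha₂
  have a12 : Commute a₁ a₂ := cV a₁ ha₁ a₂ ha₂
  have n12 : ∀ i, c ^ i ≠ a₁ * a₂ := fun i e => by
    rcases hCyV _ (mul_mem ha₁ ha₂) i e with h | h
    · exact na₂.2.2.1 (mul_left_cancel (h.trans sq1.symm))
    · exact na₂.2.2.2 (by rw [← h, ← mul_assoc, sq1, one_mul])
  have dual : ∀ a b : G, a ∈ R → b ∈ R → (∀ i, c ^ i ≠ a) → (∀ i, c ^ i ≠ a * b) →
      ∃ y ∈ R, a * y = z * (y * a) ∧ b * y = y * b := by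
    intro a b ha hb n1 n12
    obtain ⟨y, hy, e⟩ := hnc a ha n1
    rcases dich b hb y hy with h | h
    · exact ⟨y, hy, e, h⟩
    obtain ⟨y', hy', e'⟩ := hnc (a * b) (mul_mem ha hb) n12
    have flip : ∀ a y : G, a * y = y * a → a ∈ R → ∀ y', a * y' = z * (y' * a) → a * (y * y') = z * (y * y' * a) ∨
        z * y ≠ y * z := by
      intro a y h _ y' h'
      by_cases hz : z * y = y * z
      · left
        calc a * (y * y') = (a * y) * y' := by group
          _ = y * (a * y') := by rw [h]; group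
          _ = (y * z) * (y' * a) := by rw [h']; group
          _ = z * (y * y' * a) := by rw [← hz]; group
      · exact Or.inr hz
    have both : ∀ a y y' : G, z * y = y * z → z * y' = y' * z → a * y = z * (y * a) → a * y' = z * (y' * a) →
        a * (y * y') = y * y' * a := by
      intro a y y' hz hz' h h'
      calc a * (y * y') = (a * y) * y' := by group
        _ = z * y * (a * y') := by rw [h]; group
        _ = z * y * z * (y' * a) := by rw [h']; group
        _ = y * y' * a := by rw [mul_assoc z y z, ← hz, ← mul_assoc z z y, t2]; group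
    rcases dich a ha y' hy' with ha' | ha'
    · rcases dich b hb y' hy' with hb' | hb'
      · exfalso
        have h0 : a * b * y' = y' * (a * b) := by rw [mul_assoc, hb', ← mul_assoc, ha', mul_assoc]
        rw [h0] at e'
        exact tne (mul_eq_right.1 e'.symm)
      · refine ⟨y * y', mul_mem hy hy', ?_, both b y y' (zcen y hy) (zcen y' hy') h hb'⟩
        calc a * (y * y') = (a * y) * y' := by group
          _ = z * y * (a * y') := by rw [e]; group
          _ = z * (y * y' * a) := by rw [ha']; group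
    · rcases dich b hb y' hy' with hb' | hb'
      · exact ⟨y', hy', ha', hb'⟩
      · exfalso
        have h0 : a * b * y' = y' * (a * b) := by
          calc a * b * y' = a * (b * y') := by group
            _ = (a * z) * (y' * b) := by rw [hb']; group
            _ = z * (a * y') * b := by rw [← zcen a ha]; group
            _ = (z * z) * y' * (a * b) := by rw [ha']; group
            _ = y' * (a * b) := by rw [t2, one_mul]
        rw [h0] at e'
        exact tne (mul_eq_right.1 e'.symm)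
  -- involutions with prescribed commutators
  have fix : ∀ y ∈ R, ∃ k, c ^ k * y * (c ^ k * y) = 1 := by
    intro y hy
    rcases squ y hy with h | h
    · exact ⟨0, by simpa using h⟩
    · refine ⟨1, ?_⟩
      calc c ^ 1 * y * (c ^ 1 * y) = c * (y * c) * y := by group
        _ = c * c * (y * y) := by rw [← (hcR y hy).eq]; group
        _ = 1 := by rw [h, ← pow_two, ← tc, t2]
  have shift : ∀ y ∈ R, ∀ k, ∀ a ∈ R, (a * y = y * a → a * (c ^ k * y) = c ^ k * y * a) ∧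
      (a * y = z * (y * a) → a * (c ^ k * y) = z * (c ^ k * y * a)) := by
    intro y hy k a ha
    have h1 := ((hcR a ha).pow_left k).eq
    have h2 : z * c ^ k = c ^ k * z := by rw [tc]; exact (Commute.pow_pow_self c 2 k).eq
    refine ⟨fun h => ?_, fun h => ?_⟩
    · rw [← mul_assoc, ← h1, mul_assoc, h, mul_assoc]
    · rw [← mul_assoc, ← h1, mul_assoc, h, ← mul_assoc (c ^ k) z, ← h2]; group
  have haR := hVR ha₁
  have haR' := hVR ha₂
  obtain ⟨y₁, hy₁, e11, e21⟩ := dual a₁ a₂ haR haR' n1 n12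
  obtain ⟨y₂, hy₂, e22, e12⟩ := dual a₂ a₁ haR' haR n2 (by rw [← a12.eq]; exact n12)
  obtain ⟨k₁, f₁⟩ := fix y₁ hy₁
  set b₁ := c ^ k₁ * y₁ with hb₁
  have hcRm : ∀ k, c ^ k ∈ R := fun k => pow_mem (hCyle c₀.2).1 k
  have hb₁R : b₁ ∈ R := mul_mem (hcRm _) hy₁
  have p11 := (shift y₁ hy₁ k₁ a₁ haR).2 e11
  have p21 := (shift y₁ hy₁ k₁ a₂ haR').1 e21
  rw [← hb₁] at p11 p21
  obtain ⟨y₂', hy₂', e22', e12', e3⟩ : ∃ y ∈ R, a₂ * y = z * (y * a₂) ∧ a₁ * y = y * a₁ ∧ b₁ * y = y * b₁ := by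
    rcases dich b₁ hb₁R y₂ hy₂ with h | h
    · exact ⟨y₂, hy₂, e22, e12, h⟩
    · refine ⟨y₂ * a₁, mul_mem hy₂ haR, ?_, ?_, ?_⟩
      · calc a₂ * (y₂ * a₁) = (a₂ * y₂) * a₁ := by group
          _ = z * y₂ * (a₂ * a₁) := by rw [e22]; group
          _ = z * (y₂ * a₁ * a₂) := by rw [← a12.eq]; group
      · rw [← mul_assoc, e12]
      · calc b₁ * (y₂ * a₁) = (b₁ * y₂) * a₁ := by group
          _ = z * y₂ * (b₁ * a₁) := by rw [h]; group
          _ = z * y₂ * (z * (a₁ * b₁)) := by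
              rw [show b₁ * a₁ = z * (a₁ * b₁) from by rw [p11, ← mul_assoc z z, t2, one_mul]]
          _ = (z * z) * (y₂ * a₁ * b₁) := by rw [mul_assoc z y₂, ← mul_assoc y₂ z, ← zcen y₂ hy₂]; group
          _ = y₂ * a₁ * b₁ := by rw [t2, one_mul]
  obtain ⟨k₂, f₂⟩ := fix y₂' hy₂'
  set b₂ := c ^ k₂ * y₂' with hb₂
  have hb₂R : b₂ ∈ R := mul_mem (hcRm _) hy₂'
  have p22 := (shift y₂' hy₂' k₂ a₂ haR').2 e22'
  have p12 := (shift y₂' hy₂' k₂ a₁ haR).1 e12'
  have pbb := (shift y₂' hy₂' k₂ b₁ hb₁R).1 e3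
  rw [← hb₂] at p22 p12 pbb
  let ψ : ℕ → G := fun x => c ^ (x % 4) * a₁ ^ (x / 4 % 2) * a₂ ^ (x / 8 % 2) * b₁ ^ (x / 16 % 2) * b₂ ^ (x / 32 % 2)
  have red : ∀ {g : G}, g * g = 1 → ∀ n, g ^ n = g ^ (n % 2) := fun {g} h n => by
    rw [← Nat.div_add_mod n 2, pow_add, pow_mul, pow_two, h, one_pow, one_mul, Nat.div_add_mod]
  have hmul : ∀ x y, x < 64 → y < 64 → ψ (rmul x y) = ψ x * ψ y := by
    intro x y hx hy
    obtain ⟨g0, g1, g2, g3, g4⟩ := rmul_fields ⟨x, hx⟩ ⟨y, hy⟩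
    simp only [ψ]
    rw [nf_mul tc.symm (hcR _ haR) (hcR _ haR') (hcR _ hb₁R) (hcR _ hb₂R) pbb a12
      (by rw [p11, ← mul_assoc z z, t2, one_mul]) p21.symm p12.symm (by rw [p22, ← mul_assoc z z, t2, one_mul])
      _ _ _ _ _ _ _ _ _ _ (Nat.mod_lt _ (by norm_num)) (Nat.mod_lt _ (by norm_num)) (Nat.mod_lt _ (by norm_num))
      (Nat.mod_lt _ (by norm_num)), g0, g1, g2, g3, g4, ← red sq1, ← red sq2, ← red f₁, ← red f₂]
    congr 4
    conv_rhs => rw [← pow_mod_orderOf, hc4]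
  have h0 : ψ 0 = 1 := by simp [ψ]
  have h2 : ψ 2 = z := by simp [ψ, tc]
  have hgen : ∀ x, x < 64 → ψ x = 1 → x = 0 := by
    intro x hx e
    rcases rmul_sep ⟨x, hx⟩ with h | ⟨g, hg, h⟩
    · simp only at h
      have : c ^ x = 1 := by
        simpa [ψ, Nat.mod_eq_of_lt h, show x / 4 = 0 by omega, show x / 8 = 0 by omega, show x / 16 = 0 by omega,
          show x / 32 = 0 by omega] using e
      rw [← orderOf_dvd_iff_pow_eq_one, hc4] at this
      exact Nat.eq_zero_of_dvd_of_lt this h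
    · exfalso
      have hg' : g < 64 := by simp at hg; omega
      have := congrArg ψ h
      simp only at this
      rw [hmul x g hx hg', hmul 2 _ (by norm_num) (rmul_lt ⟨g, hg'⟩ ⟨x, hx⟩), hmul g x hg' hx, e, one_mul, mul_one,
        h2] at this
      exact tne (mul_eq_right.1 this.symm)
  have hinj : ∀ x y, x < 64 → y < 64 → ψ x = ψ y → x = y := by
    intro x y hx hy e
    obtain ⟨l1, l2, l3, l4, l5⟩ := rinv_spec ⟨y, hy⟩
    have h : rmul (rinv y) x = 0 := hgen _ (rmul_lt ⟨_, l1⟩ ⟨x, hx⟩) (by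
      rw [hmul _ _ l1 hx, e, ← hmul _ _ l1 hy]; simp only at l4; rw [l4, h0])
    have h' := congrArg (rmul y) h
    have as := rmul_assoc ⟨y, hy⟩ ⟨_, l1⟩ ⟨x, hx⟩
    simp only at as l5 l2
    rw [← as, l5, l2] at h'
    obtain ⟨-, -, m, -, -⟩ := rinv_spec ⟨x, hx⟩
    simp only at m
    rwa [m] at h'
  have hψR : ∀ x, ψ x ∈ R := fun x =>
    mul_mem (mul_mem (mul_mem (mul_mem (hcRm _) (pow_mem haR _)) (pow_mem haR' _)) (pow_mem hb₁R _)) (pow_mem hb₂R _)
  have hRcard : Nat.card R ≤ 64 := by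
    have hzE : z ∈ E := zE.1
    let f : Fin 2 × R → Fin 4 × E := fun w =>
      let d := decomp w.2.1 w.2.2
      (⟨(d.choose + 2 * w.1.1) % 4, Nat.mod_lt _ (by norm_num)⟩,
        ⟨z ^ w.1.1 * d.choose_spec.choose, mul_mem (pow_mem hzE _) d.choose_spec.choose_spec.1⟩)
    have hf : Function.Injective f := by
      rintro ⟨k, x⟩ ⟨k', x'⟩ e
      set d := decomp x.1 x.2
      set d' := decomp x'.1 x'.2
      have e1 := congrArg (fun v : Fin 4 × E => v.1.1) e
      have e2 := congrArg (fun v : Fin 4 × E => (v.2 : G)) e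
      simp only [f] at e1 e2
      have hval : ∀ (k : ℕ) (i : ℕ) (e : G), c ^ ((i + 2 * k) % 4) * (z ^ k * e) = c ^ i * e := by
        intro k i e
        rw [← hc4, pow_mod_orderOf, pow_add, pow_mul, ← tc, mul_assoc, ← mul_assoc (z ^ k), ← pow_add, ← two_mul,
          pow_mul, pow_two, t2, one_pow, one_mul]
      have hx : x = x' := Subtype.ext (by
        have a := hval k.1 d.choose d.choose_spec.choose
        have b := hval k'.1 d'.choose d'.choose_spec.choose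
        rw [e1, e2, b] at a
        exact d.choose_spec.choose_spec.2.symm.trans (a.symm.trans d'.choose_spec.choose_spec.2))
      subst hx
      have e3 : (d.choose + 2 * k.1) % 4 = (d.choose + 2 * k'.1) % 4 := e1
      refine Prod.ext (Fin.ext ?_) rfl
      show k.1 = k'.1
      have := k.2; have := k'.2
      omega
    have := Nat.card_le_card_of_injective f hf
    rw [Nat.card_prod, Nat.card_prod, Nat.card_fin, Nat.card_fin, hEcard] at this
    omega
  have hmem : ∀ g, g ∈ R ↔ ∃ x, x < 64 ∧ ψ x = g := by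
    let j : Fin 64 → R := fun x => ⟨ψ x.1, hψR _⟩
    have hj : Function.Injective j := fun x y e => Fin.ext (hinj _ _ x.2 y.2 (congrArg Subtype.val e))
    have hb := (Nat.bijective_iff_injective_and_card j).2
      ⟨hj, le_antisymm (Nat.card_le_card_of_injective j hj) (by rw [Nat.card_fin]; exact hRcard)⟩
    intro g
    refine ⟨fun hg => ?_, fun ⟨x, _, e⟩ => e ▸ hψR x⟩
    obtain ⟨x, e⟩ := hb.2 ⟨g, hg⟩
    exact ⟨x.1, x.2, congrArg Subtype.val e⟩
  have h4 : ψ 4 = a₁ := by simp [ψ]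
  have h8 : ψ 8 = a₂ := by simp [ψ]
  have hVsub : ∀ v ∈ V, ∃ x, x < 16 ∧ x % 2 = 0 ∧ ψ x = v := by
    intro v hv
    obtain ⟨x, hx, e⟩ := (hmem v).1 (hVR hv)
    have key : ∀ x : Fin 64, rmul x.1 4 = rmul 4 x.1 → rmul x.1 8 = rmul 8 x.1 → rmul x.1 x.1 = 0 →
        x.1 < 16 ∧ x.1 % 2 = 0 := by decide +kernel
    have cm : ∀ g a, g < 64 → ψ g = a → a ∈ V → rmul x g = rmul g x := fun g a hg ea ha =>
      hinj _ _ (rmul_lt ⟨x, hx⟩ ⟨g, hg⟩) (rmul_lt ⟨g, hg⟩ ⟨x, hx⟩) (by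
        rw [hmul x g hx hg, hmul g x hg hx, e, ea]; exact (cV v hv a ha).eq)
    obtain ⟨l1, l2⟩ := key ⟨x, hx⟩ (cm 4 a₁ (by norm_num) h4 ha₁) (cm 8 a₂ (by norm_num) h8 ha₂)
      (hinj _ _ (rmul_lt ⟨x, hx⟩ ⟨x, hx⟩) (by norm_num)
        (by rw [hmul x x hx hx, e, h0, ← pow_two]; exact hVexp v hv))
    exact ⟨x, l1, l2, e⟩
  have hVeq : ∀ x, x < 16 → x % 2 = 0 → ψ x ∈ V := by
    intro x hx hx2
    let j : Fin 8 → G := fun k => ψ (2 * k.1)
    have hsub : (Finset.univ.filter fun v => v ∈ V) ⊆ Finset.univ.image j := by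
      intro v hv
      obtain ⟨y, hy, hy2, e⟩ := hVsub v (Finset.mem_filter.1 hv).2
      refine Finset.mem_image.2 ⟨⟨y / 2, by omega⟩, Finset.mem_univ _, ?_⟩
      simp only [j]
      rw [show 2 * (y / 2) = y by omega, e]
    have := Finset.eq_of_subset_of_card_le hsub (Finset.card_image_le.trans (by rw [vcard]; simp))
    have hm : ψ x ∈ Finset.univ.image j := Finset.mem_image.2 ⟨⟨x / 2, by omega⟩, Finset.mem_univ _, by
      simp only [j]; rw [show 2 * (x / 2) = x by omega]⟩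
    rw [← this] at hm
    exact (Finset.mem_filter.1 hm).2
  exact ⟨⟨ψ, hmul, hinj, hmem, fun g => ⟨hVsub g, fun ⟨x, h1, h2, e⟩ => e ▸ hVeq x h1 h2⟩, h2⟩⟩

end Cfsg.Agent.HSTwoLocal
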