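import Cfsg.Agent.Lib.Spor.HSTwoLocal.SigmaFacts

/-!
Data for the relations between the centralizer and the twist involution.
-/

set_option autoImplicit false
set_option maxRecDepth 100000

namespace Cfsg.Agent.HSTwoLocal

/-- elements giving sevenfold relations, with their action on the plane codes -/
def sevR : List (List ℕ × List ℕ) := [
  ([5, 10], [0, 1, 4, 5, 3, 2, 7, 6]),
  ([5, 6], [0, 1, 4, 5, 7, 6, 3, 2]),
  ([5, 6, 10], [0, 1, 6, 7, 5, 4, 3, 2]),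
  ([5, 6, 6], [0, 1, 6, 7, 3, 2, 5, 4]),
  ([6, 4, 10], [0, 1, 7, 6, 5, 4, 2, 3]),
  ([6, 4, 6], [0, 1, 7, 6, 2, 3, 5, 4]),
  ([4, 10], [0, 1, 5, 4, 2, 3, 7, 6]),
  ([4, 6], [0, 1, 5, 4, 7, 6, 2, 3])]

/-- an element giving a threefold relation, with its action -/
def hW : List ℕ := [6]

/-- its action on the plane codes -/
def hV : List ℕ := [0, 1, 5, 4, 6, 7, 3, 2]

/-- its action on the homocyclic subgroup -/
def hA : ℕ × ℕ × ℕ := (1, 16, 62)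

/-- the first connecting element -/
def hR : List ℕ := [10, 8, 10, 8, 4, 6, 10]

/-- the second connecting element -/
def kR : List ℕ := [4, 8, 10, 6, 8, 5, 6]

/-- the index of the second fixed involution -/
def zQ : ℕ := 192

/-- images along the connecting word -/
def piL : List (ℕ × ℕ × List ℕ) := [
  (0, 0, []),
  (2, 136, [5, 10, 6]),
  (8, 138, [10, 6]),
  (10, 2, [5]),
  (37, 1, [8, 8, 6, 6, 3, 8, 6]),
  (39, 137, [4, 8, 5, 8, 6, 6, 8, 10]),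
  (45, 139, [8, 8, 6, 6, 3, 8, 10]),
  (47, 3, [0, 4, 8, 6, 6, 8, 8, 8]),
  (64, 194, [2]),
  (66, 74, [2, 5, 10, 6]),
  (72, 72, [2, 10, 6]),
  (74, 192, [2, 5]),
  (101, 195, [8, 2, 10, 8, 8, 10, 8]),
  (103, 75, [2, 8, 8, 6, 6, 3, 8, 10]),
  (109, 73, [0, 3, 8, 8, 6, 6, 8, 10]),
  (111, 193, [8, 6, 6, 8, 5, 8, 8]),
  (128, 200, [0, 0, 2]),
  (130, 64, [5, 10, 3, 6]),
  (136, 66, [10, 3, 6]),
  (138, 202, [0, 0, 2, 5]),
  (165, 201, [8, 2, 6, 6, 8, 8, 8]),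
  (167, 65, [8, 3, 8, 6, 6, 8, 10]),
  (173, 67, [0, 8, 8, 6, 4, 6, 8, 10]),
  (175, 203, [8, 3, 8, 6, 6, 8, 6]),
  (192, 10, [0, 0]),
  (194, 130, [0, 0, 5, 10, 6]),
  (200, 128, [0, 0, 10, 6]),
  (202, 8, [0, 0, 5]),
  (229, 11, [8, 8, 2, 6, 6, 8, 6]),
  (231, 131, [0, 8, 8, 4, 6, 6, 8, 10]),
  (237, 129, [8, 8, 2, 6, 6, 8, 10]),
  (239, 9, [0, 4, 8, 10, 8, 8, 10, 8])
]

/-- composable pairs of images -/
def piD : List (ℕ × ℕ) := [(0, 0), (2, 192), (8, 64), (10, 128), (64, 8), (66, 200), (72, 72), (74, 136), (128, 10), (130, 202), (136, 74), (138, 138), (192, 2), (194, 194), (200, 66), (202, 130)]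

/-- the four possible squares -/
def cSq : List (List ℕ) := [[0, 0, 2, 5], [], [2, 10, 6], [0, 0, 5, 10, 6]]

end Cfsg.Agent.HSTwoLocal
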