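import Cfsg.Agent.Lib.Spor.HSTwoLocal.RelData
import Cfsg.Agent.Lib.Spor.HSTwoLocal.DcChecks

/-!
Finite facts for the relations between the centralizer and the twist involution.
-/

set_option autoImplicit false
set_option maxRecDepth 100000
set_option maxHeartbeats 1000000
set_option synthInstance.maxSize 1000

namespace Cfsg.Agent.HSTwoLocal

open Spor.DCoset

/-- the word of an image -/
def piW (p : ℕ) : List ℕ := ((piL.find? fun e => Nat.beq e.1 p).getD (0, 0, [])).2.2

/-- iterate of the action on the plane codes -/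
def itV (xv : List ℕ) (i k : ℕ) : ℕ := Nat.rec (motive := fun _ => ℕ) i (fun _ v => xv.getD (sVt.getD v 0) 0) k

/-- iterate of the action on indices -/
def itA (I : ℕ × ℕ × ℕ) (n k : ℕ) : ℕ := Nat.rec (motive := fun _ => ℕ) n (fun _ v => aLin I (fA v)) k

/-- a word with a prescribed action on the plane codes -/
def actOK (l xv : List ℕ) : Bool :=
  (l.all fun k => Nat.blt k 11) && (List.range 8).all fun i => Nat.blt (xv.getD i 0) 8 &&
    Nat.beq (mu (cwev l) (coreL.getD (2 * i) 0)) (mu (coreL.getD (2 * xv.getD i 0) 0) (cwev l))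

theorem sevR_facts : ∀ p ∈ sevR, actOK p.1 p.2 = true ∧
    ∀ i : Fin 8, itV p.2 i.1 7 = i.1 ∧ (p.2.getD (sVt.getD i.1 0) 0 = i.1 → i.1 = 0) := by decide +kernel

theorem hW_facts : actOK hW hV = true ∧ (∀ i : Fin 8, itV hV i.1 3 = i.1) ∧
    (∀ n : Fin 64, aLin hA n.1 < 64 ∧ mu (cwev hW) (aL.getD n.1 0) = mu (aL.getD (aLin hA n.1) 0) (cwev hW)) ∧
    ∀ n : Fin 64, aLin hA (fA n.1) = n.1 → n.1 ∈ [0, 29, 42, 55] := by decide +kernel

theorem conn_facts : (∀ k ∈ hR, k < 11) ∧ (∀ k ∈ kR, k < 11) ∧ (∀ w ∈ cSq, ∀ k ∈ w, k < 11) ∧ cSq.length = 4 ∧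
    zQ < 256 := by decide +kernel

theorem pi_facts : ∀ e ∈ piL, e.1 < 256 ∧ e.2.1 < 256 ∧ (∀ k ∈ e.2.2, k < 11) ∧ piW e.1 = e.2.2 ∧
    mu (cwev hR) (qCode (sQ tgt1 tgt2 e.1)) = mu (qCode e.2.1) (cwev hR) ∧
    mu (cwev kR) (qCode (sQ tgt1 tgt2 e.2.1)) = mu (cwev e.2.2) (cwev kR) := by decide +kernel

theorem piD_facts : (∀ d ∈ piD, d.1 ∈ piL.map Prod.fst ∧ d.2 ∈ piL.map Prod.fst ∧ cwev (piW d.1) = qCode d.2) ∧
    2 ∈ piL.map Prod.fst ∧ zQ ∈ piL.map Prod.fst ∧ cwev (piW 2) = qCode zQ ∧ cwev (piW zQ) = qCode 2 ∧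
    qCode 2 = coreL.getD 2 0 := by decide +kernel

/-- the conditions on the square of the connecting word -/
def cCond (c : ℕ) : Bool :=
  Nat.beq (mu c (qCode zQ)) (mu (qCode zQ) c) &&
    (piD.all fun d => Nat.beq (mu c (qCode d.1)) (mu (cwev (piW d.2)) c)) &&
      piL.all fun e => !(Nat.beq c (qCode e.1)) || Nat.beq (cwev e.2.2) c

theorem sq_cands : (repL.all fun x => coreL.all fun y => !(cCond (mu x y)) || cSq.any fun w => Nat.beq (cwev w) (mu x y)) =
    true := by decide +kernel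

/-- the twisting pairs are right -/
def cgChk (c : Cert) : Bool :=
  c.cg.all fun w => (List.range 256).any fun p =>
    Nat.beq (c.ev mu w.1) (qCode p) && Nat.beq (c.ev mu w.2) (qCode (sQ tgt1 tgt2 p))

/-- the relation words are right -/
def relChk (c : Cert) (ws : List (List (List ℕ))) : Bool :=
  (c.rels.map fun zs => zs.map fun z => c.ev mu z.1) == ws.map (fun l => l.map cwev)

/-- sevenfold relation words -/
def sevW : List (List (List ℕ)) := sevR.map fun p => List.replicate 7 p.1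

/-- a threefold relation word -/
def cubeW (n : ℕ) : List (List ℕ) := List.replicate 3 (aW n ++ hW)

/-- the relation word of the square -/
def sqW (j : ℕ) : List (List ℕ) := [winv (cSq.getD j []) ++ kR, hR, kR, hR]

theorem rels_main : cgChk DcMain.cert = true ∧ relChk DcMain.cert (sevW.take 2 ++ [cubeW 0, sqW 0]) = true := by
  decide +kernel

theorem rels_killA : cgChk DcKillA.cert = true ∧ relChk DcKillA.cert (sevW ++ [cubeW 29]) = true := by decide +kernel

theorem rels_killB : cgChk DcKillB.cert = true ∧ relChk DcKillB.cert (sevW ++ [cubeW 42]) = true := by decide +kernel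

theorem rels_killC : cgChk DcKillC.cert = true ∧ relChk DcKillC.cert (sevW ++ [cubeW 55]) = true := by decide +kernel

theorem rels_killD : cgChk DcKillD.cert = true ∧ relChk DcKillD.cert (sevW ++ [cubeW 0, sqW 1]) = true := by decide +kernel

theorem rels_killE : cgChk DcKillE.cert = true ∧ relChk DcKillE.cert (sevW ++ [cubeW 0, sqW 2]) = true := by decide +kernel

theorem rels_killF : cgChk DcKillF.cert = true ∧ relChk DcKillF.cert (sevW ++ [cubeW 0, sqW 3]) = true := by decide +kernel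

end Cfsg.Agent.HSTwoLocal
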