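import Cfsg.Agent.Lib.Spor.HSTwoLocal.Sigma
import Cfsg.Agent.Lib.Spor.HSTwoLocal.RelFacts

/-!
The relations between the centralizer and the twist involution, and the bound on the group they generate.
-/

set_option autoImplicit false
set_option maxRecDepth 100000
set_option maxHeartbeats 1000000
set_option synthInstance.maxSize 1000
set_option linter.style.haveILetI false

namespace Cfsg.Agent.HSTwoLocal

open Spor.DCoset
open Local.FS.Hundred (code code_injective idC)

attribute [local irreducible] mu code idC letL aL rL coreL repL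

namespace Lifts

variable {G : Type*} [Group G] {L : Loc G} {F : Lifts L}

theorem IsModel.rep_top [Finite G] (hS : L.Std) :
    Subgroup.closure (Set.range fun k : Fin 8 => F.gH (gSel.getD k.1 0)) = ⊤ := by
  set K := Subgroup.closure (Set.range fun k : Fin 8 => F.gH (gSel.getD k.1 0)) with hK
  have hk : ∀ k, k < 11 → F.gH k ∈ K := by
    intro k hk
    have sel : ∀ j, j ∈ gSel → F.gH j ∈ K := fun j hj => by
      obtain ⟨i, hi, rfl⟩ := List.mem_iff_getElem.1 hj
      exact Subgroup.subset_closure ⟨⟨i, hi⟩, by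
        show F.gH (gSel.getD i 0) = _
        rw [List.getD_eq_getElem _ _ hi]⟩
    have inv : ∀ j, j < 11 → ivT.getD j 0 ∈ gSel → F.gH j ∈ K := fun j hj hm => by
      have e : F.gH (ivT.getD j 0) = (F.gH j)⁻¹ := Subtype.ext (F.g_inv j (by omega))
      have := sel _ hm
      rw [e, inv_mem_iff] at this
      exact this
    interval_cases k <;> first | exact sel _ (by decide) | exact inv _ (by norm_num) (by decide)
  rw [eq_top_iff]
  intro h _
  have hh : (h : G) ∈ Subgroup.closure {z | ∃ k < 11, F.g k = z} := (F.cent_eq hS) ▸ h.2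
  have hle : Subgroup.closure {z | ∃ k < 11, F.g k = z} ≤ K.map (Subgroup.subtype _) := by
    rw [Subgroup.closure_le]
    rintro z ⟨k, hk', rfl⟩
    exact ⟨F.gH k, hk k hk', rfl⟩
  obtain ⟨y, hy, e⟩ := hle hh
  rw [show h = y from Subtype.ext e.symm]
  exact hy

/-- the representation behind the certificates -/
def IsModel.repC [Finite G] {φ : ↥(Subgroup.centralizer ({L.t} : Set G)) →* Equiv.Perm (Fin 100)} (M : F.IsModel φ)
    (hS : L.Std) (c : Cert) (h1 : c.one = idC) (h2 : c.gens = gSel.map fun k => letL.getD k idC) :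
    Rep ↥(Subgroup.centralizer ({L.t} : Set G)) mu c where
  cd a := code (φ a)
  cd_mul a b := by rw [map_mul, code_mu]
  cd_one := by rw [map_one, code_one, h1]
  cd_inj a b e := M.cd_eq e
  gen k := if k < 8 then F.gH (gSel.getD k 0) else 1
  cd_gen k := by
    rw [h1, h2]
    split
    · next hk =>
      have hl : gSel.getD k 0 < 11 := (by decide : ∀ k : Fin 8, gSel.getD k.1 0 < 11) ⟨k, hk⟩
      rw [M.2 _ hl, (mg_code ⟨_, hl.trans (by norm_num)⟩).1]
      interval_cases k <;> rfl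
    · next hk =>
      rw [map_one, code_one, List.getD_eq_default]
      simp [gSel]; omega
  gen_top := by
    have hlen : c.gens.length = 8 := by rw [h2]; simp [gSel]
    rw [← IsModel.rep_top (F := F) hS]
    congr 1
    ext z
    constructor
    · rintro ⟨k, rfl⟩
      exact ⟨⟨k, hlen ▸ k.2⟩, (if_pos (hlen ▸ k.2)).symm⟩
    · rintro ⟨k, rfl⟩
      exact ⟨⟨k, hlen.symm ▸ k.2⟩, if_pos k.2⟩

namespace Twist

variable {φ : ↥(Subgroup.centralizer ({L.t} : Set G)) →* Equiv.Perm (Fin 100)} (T : F.Twist) (M : F.IsModel φ)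

theorem sinv : T.σ⁻¹ = T.σ := inv_eq_of_mul_eq_one_right T.sq

theorem conj_mul (a b : G) : T.σ * (a * b) * T.σ = (T.σ * a * T.σ) * (T.σ * b * T.σ) := by
  calc T.σ * (a * b) * T.σ = T.σ * a * 1 * b * T.σ := by group
    _ = _ := by rw [← T.sq]; group

include M

/-- the twist on the whole subgroup -/
theorem eQ {p : ℕ} (hp : p < 256) :
    sQ tgt1 tgt2 p < 256 ∧ T.σ * F.elQ p * T.σ = F.elQ (sQ tgt1 tgt2 p) := by
  have hm : p % 64 < 64 := Nat.mod_lt _ (by norm_num)
  have hf : fA (p % 64) < 64 := (qMul_facts.2.2 ⟨_, hm⟩).2.2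
  obtain ⟨z, hz, ez, Ez⟩ : ∃ z, z < 256 ∧ (bif Nat.beq (p / 64) 1 then tgt1 else bif Nat.beq (p / 64) 2 then tgt2 else
      bif Nat.beq (p / 64) 3 then qMul tgt1 tgt2 else 0) = z ∧ T.σ * F.rep (p / 64) * T.σ = F.elQ z := by
    have q64 : F.elQ 64 = F.rep 1 := by show F.elA 0 * _ = _; rw [show F.elA 0 = 1 from rfl, one_mul]
    have q128 : F.elQ 128 = F.rep 2 := by show F.elA 0 * _ = _; rw [show F.elA 0 = 1 from rfl, one_mul]
    have : p / 64 < 4 := by omega
    interval_cases h : p / 64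
    · exact ⟨0, by norm_num, rfl, by rw [F.rep_zero, mul_one, T.sq, F.elQ_small (by norm_num)]; rfl⟩
    · exact ⟨tgt1, by decide, rfl, by rw [← q64, T.e1]⟩
    · exact ⟨tgt2, by decide, rfl, by rw [← q128, T.e2]⟩
    · refine ⟨_, Lifts.qMul_lt (p := tgt1) (q := tgt2) (by decide) (by decide), rfl, ?_⟩
      rw [show F.rep 3 = F.rep 1 * F.rep 2 from (M.rep_mul (a := 1) (b := 2) (by norm_num) (by norm_num)).symm,
        T.conj_mul, ← q64, ← q128, T.e1, T.e2, M.elQ_mul (by decide) (by decide)]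
  refine ⟨?_, ?_⟩
  · show qMul (fA (p % 64)) _ < 256
    rw [ez]; exact Lifts.qMul_lt (by omega) hz
  · show _ = F.elQ (qMul (fA (p % 64)) _)
    rw [ez, ← M.elQ_mul (by omega) hz, F.elQ_small hf, ← T.eA _ hm, ← Ez, ← T.conj_mul]
    rfl

theorem sv : ∀ i, i < 8 → T.σ * L.co.ψ (2 * i) * T.σ = L.co.ψ (2 * sVt.getD i 0) := by
  obtain ⟨-, f6, f10, f12, f2, f10', f8, f14, f14'⟩ := sV_facts
  have pr : ∀ a b c a' b' c', a < 64 → b < 64 → a' < 64 → b' < 64 → rmul a b = c → rmul a' b' = c' →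
      T.σ * L.co.ψ a * T.σ = L.co.ψ a' → T.σ * L.co.ψ b * T.σ = L.co.ψ b' → T.σ * L.co.ψ c * T.σ = L.co.ψ c' := by
    intro a b c a' b' c' ha hb ha' hb' e e' p q
    rw [← e, ← e', L.co.mul _ _ ha hb, L.co.mul _ _ ha' hb', T.conj_mul, p, q]
  have c6 := pr 2 4 6 6 4 2 (by norm_num) (by norm_num) (by norm_num) (by norm_num) f6 f2 T.a2 T.a4
  have c10 := pr 2 8 10 6 12 10 (by norm_num) (by norm_num) (by norm_num) (by norm_num) f10 f10' T.a2 T.a8
  have c12 := pr 4 8 12 4 12 8 (by norm_num) (by norm_num) (by norm_num) (by norm_num) f12 f8 T.a4 T.a8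
  have c14 := pr 2 12 14 6 8 14 (by norm_num) (by norm_num) (by norm_num) (by norm_num) f14 f14' T.a2 c12
  intro i hi
  interval_cases i
  · show T.σ * L.co.ψ 0 * T.σ = L.co.ψ 0
    rw [L.psi_zero, mul_one, T.sq]
  exacts [T.a2, T.a4, c6, T.a8, c10, c12, c14]

theorem tau_iter {l xv : List ℕ} (hl : actOK l xv = true) : ∀ k i, i < 8 → itV xv i k < 8 ∧
    (wev F.g l * T.σ) ^ k * L.co.ψ (2 * i) * ((wev F.g l * T.σ) ^ k)⁻¹ = L.co.ψ (2 * itV xv i k) := by
  simp only [actOK, Bool.and_eq_true, List.all_eq_true, Nat.blt_eq, List.mem_range, Nat.beq_eq] at hl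
  intro k
  induction k with
  | zero => exact fun i hi => ⟨hi, by rw [pow_zero, one_mul, inv_one, mul_one]; rfl⟩
  | succ k ih =>
    intro i hi
    obtain ⟨a, b⟩ := ih i hi
    have hs := (sV_facts.1 ⟨_, a⟩).1
    obtain ⟨c, d⟩ := hl.2 _ hs
    refine ⟨c, ?_⟩
    have e : wev F.g l * L.co.ψ (2 * sVt.getD (itV xv i k) 0) * (wev F.g l)⁻¹ =
        L.co.ψ (2 * itV xv i (k + 1)) := by
      rw [mul_inv_eq_iff_eq_mul]
      exact M.word_psi hl.1 (by simp only at hs ⊢; omega) (show 2 * itV xv i (k + 1) < 64 by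
        show 2 * xv.getD (sVt.getD (itV xv i k) 0) 0 < 64
        simp only at c; omega) d
    rw [← e, ← T.sv M _ a, ← b, pow_succ', mul_inv_rev, mul_inv_rev, T.sinv]
    group

theorem tau_cent {l xv : List ℕ} (hl : actOK l xv = true) {n : ℕ} (hit : ∀ i, i < 8 → itV xv i n = i) :
    ∀ v ∈ L.V, Commute ((wev F.g l * T.σ) ^ n) v := fun v hv => by
  obtain ⟨i, hi, rfl⟩ := L.mem_V hv
  have := (T.tau_iter M hl n i hi).2
  rw [hit i hi, mul_inv_eq_iff_eq_mul] at this
  exact this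

theorem seven {p : List ℕ × List ℕ} (hp : p ∈ sevR) : (wev F.g p.1 * T.σ) ^ 7 = 1 := by
  obtain ⟨hl, hit⟩ := sevR_facts p hp
  set τ := wev F.g p.1 * T.σ
  have hc := T.tau_cent M hl (n := 7) fun i hi => (hit ⟨i, hi⟩).1
  have fix : ∀ w ∈ L.V, Commute τ w → w = 1 := by
    intro w hw hτw
    obtain ⟨i, hi, rfl⟩ := L.mem_V hw
    obtain ⟨a, b⟩ := T.tau_iter M hl 1 i hi
    rw [pow_one] at b
    rw [hτw.eq, mul_inv_cancel_right] at b
    have e : 2 * i = 2 * itV p.2 i 1 := L.co.inj _ _ (by omega) (by omega) b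
    have e0 := (hit ⟨i, hi⟩).2 (show itV p.2 i 1 = i by omega)
    simp only at e0
    rw [e0]; exact L.psi_zero
  have h2 : (τ ^ 7) ^ 2 = 1 := fix _ (L.cent_sq _ hc) ((Commute.self_pow τ 7).pow_right 2)
  exact fix _ (L.cent_inv _ hc h2) (Commute.self_pow τ 7)

theorem cube [Finite G] (hS : L.Std) :
    ∃ n ∈ [0, 29, 42, 55], n < 64 ∧ (wev F.g (aW n ++ hW) * T.σ) ^ 3 = 1 := by
  obtain ⟨hl, hit, hAc, hcand⟩ := hW_facts
  set τ := wev F.g hW * T.σ
  have hc := T.tau_cent M hl (n := 3) fun i hi => hit ⟨i, hi⟩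
  have cv : ∀ j, j < 8 → Commute (τ ^ 3) (L.co.ψ (2 * j)) := fun j hj =>
    hc _ ((L.co.memV _).2 ⟨2 * j, by omega, by omega, rfl⟩)
  obtain ⟨n, hn, e⟩ := (M.mem_test hS (cv 1 (by norm_num)) (cv 2 (by norm_num))).1 (cv 4 (by norm_num))
  have hl' : ∀ k ∈ hW, k < 11 := by
    have := hl
    simp only [actOK, Bool.and_eq_true, List.all_eq_true, Nat.blt_eq] at this
    exact this.1
  have hf : fA n < 64 := (qMul_facts.2.2 ⟨n, hn⟩).2.2
  have hfix : aLin hA (fA n) = n := by
    obtain ⟨a, b⟩ := hAc ⟨_, hf⟩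
    have e1 : wev F.g hW * F.elA (fA n) = F.elA (aLin hA (fA n)) * wev F.g hW := by
      refine M.eq_two_two hl' (IsModel.aW_lt hf) (IsModel.aW_lt a) hl' ?_
      rw [(aW_facts.1 ⟨_, hf⟩).2, (aW_facts.1 ⟨_, a⟩).2]
      exact b
    refine M.elA_inj a hn ?_
    have e2 : τ * F.elA n * τ⁻¹ = F.elA n := by
      rw [← e, (Commute.self_pow τ 3).eq, mul_inv_cancel_right]
    rw [← e2, show τ * F.elA n * τ⁻¹ = wev F.g hW * (T.σ * F.elA n * T.σ⁻¹) * (wev F.g hW)⁻¹ by simp only [τ]; group, T.sinv,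
      T.eA n hn, e1, mul_inv_cancel_right]
  refine ⟨n, hcand ⟨n, hn⟩ hfix, hn, ?_⟩
  have hw : wev F.g (aW n ++ hW) * T.σ = F.elA n * τ := by
    simp only [τ, wev, elA, List.map_append, List.prod_append, mul_assoc]
  have hcomm : Commute (F.elA n) τ := e ▸ (Commute.pow_self τ 3)
  rw [hw, hcomm.mul_pow, e, ← pow_succ]
  exact L.cent_four _ (M.elA_cent hn)

theorem square [Finite G] (hS : L.Std) : ∃ j < 4,
    wev F.g kR * T.σ * wev F.g hR * T.σ * (wev F.g kR * T.σ * wev F.g hR * T.σ) = wev F.g (cSq.getD j []) := by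
  obtain ⟨hhR, hkR, hcl, hclen, hzQ⟩ := conn_facts
  set y := wev F.g kR * T.σ * wev F.g hR * T.σ with hy
  have hQ : ∀ q, q < 256 → ∀ k ∈ qW q, k < 11 := fun q hq k hk => by
    rcases List.mem_append.1 hk with hk | hk
    · exact IsModel.aW_lt (Nat.mod_lt _ (by norm_num)) k hk
    · exact (aW_facts.2 ⟨q / 64, by omega⟩).1 k hk
  have eQw : ∀ q, q < 256 → F.elQ q = wev F.g (qW q) := fun q hq => by
    simp only [elQ, qW, wev, elA, rep, List.map_append, List.prod_append]
  have cQ : ∀ q, q < 256 → code (φ (wev F.gH (qW q))) = qCode q := fun q hq => by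
    obtain ⟨h', e'⟩ := M.elQ_code hq
    rw [← e']
    exact congrArg (fun z => code (φ z)) (Subtype.ext (by rw [F.wev_gH, ← eQw q hq]))
  have cw : ∀ l, (∀ k ∈ l, k < 11) → code (φ (wev F.gH l)) = cwev l := M.wev_eq
  have eqH : ∀ a b : ↥(Subgroup.centralizer ({L.t} : Set G)), code (φ a) = code (φ b) → (a : G) = b :=
    fun a b e => congrArg Subtype.val (M.cd_eq e)
  have step : ∀ p ∈ piL.map Prod.fst, p < 256 ∧ (∀ k ∈ piW p, k < 11) ∧ y * F.elQ p * y⁻¹ = wev F.g (piW p) := by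
    intro p hp
    obtain ⟨e, he, rfl⟩ := List.mem_map.1 hp
    obtain ⟨h1, h2, h3, h4, h5, h6⟩ := pi_facts e he
    rw [h4]
    refine ⟨h1, h3, ?_⟩
    obtain ⟨s1, S1⟩ := T.eQ M h1
    obtain ⟨s2, S2⟩ := T.eQ M h2
    have A : wev F.g hR * F.elQ (sQ tgt1 tgt2 e.1) = F.elQ e.2.1 * wev F.g hR := by
      rw [eQw _ s1, eQw _ h2, ← F.wev_gH, ← F.wev_gH, ← F.wev_gH, ← Subgroup.coe_mul, ← Subgroup.coe_mul]
      refine eqH _ _ ?_
      rw [map_mul, map_mul, code_mu, code_mu, cQ _ s1, cQ _ h2, cw _ hhR, h5]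
    have B : wev F.g kR * F.elQ (sQ tgt1 tgt2 e.2.1) = wev F.g e.2.2 * wev F.g kR := by
      rw [eQw _ s2, ← F.wev_gH, ← F.wev_gH, ← F.wev_gH, ← Subgroup.coe_mul, ← Subgroup.coe_mul]
      refine eqH _ _ ?_
      rw [map_mul, map_mul, code_mu, code_mu, cQ _ s2, cw _ hkR, cw _ h3, h6]
    rw [hy, show wev F.g kR * T.σ * wev F.g hR * T.σ * F.elQ e.1 * (wev F.g kR * T.σ * wev F.g hR * T.σ)⁻¹ =
      wev F.g kR * (T.σ * (wev F.g hR * (T.σ * F.elQ e.1 * T.σ⁻¹) * (wev F.g hR)⁻¹) * T.σ⁻¹) * (wev F.g kR)⁻¹ by group,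
      T.sinv, S1, A, mul_inv_cancel_right, S2, B, mul_inv_cancel_right]
  obtain ⟨hD, m2, mz, e2z, ez2, q2⟩ := piD_facts
  have wQ : ∀ p q, p ∈ piL.map Prod.fst → q < 256 → cwev (piW p) = qCode q → wev F.g (piW p) = F.elQ q := by
    intro p q hp hq e
    rw [eQw q hq, ← F.wev_gH, ← F.wev_gH]
    exact eqH _ _ (by rw [cQ q hq, cw _ (step p hp).2.1, e])
  have eT : F.elQ 2 = L.co.ψ 2 := by
    obtain ⟨h', e'⟩ := M.elQ_code (p := 2) (by norm_num)
    have h2 : L.inH (L.co.ψ 2) := L.inH_psi (by norm_num)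
    exact eqH ⟨_, h'⟩ (L.toH _ h2) (by rw [e', M.cd_psi (by norm_num), q2])
  have Y2 : y * L.co.ψ 2 * y⁻¹ = F.elQ zQ := by rw [← eT, (step 2 m2).2.2, wQ 2 zQ m2 hzQ e2z]
  have Yz : y * F.elQ zQ * y⁻¹ = L.co.ψ 2 := by rw [(step zQ mz).2.2, wQ zQ 2 mz (by norm_num) ez2, eT]
  have hcH : L.inH (y * y) := by
    show Commute (y * y) (L.co.ψ 2)
    rw [Commute, SemiconjBy, ← mul_inv_eq_iff_eq_mul, mul_inv_rev,
      show y * y * L.co.ψ 2 * (y⁻¹ * y⁻¹) = y * (y * L.co.ψ 2 * y⁻¹) * y⁻¹ by group, Y2, Yz]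
  set c := L.toH _ hcH with hc
  have tr : ∀ {g : G} (hg : g ∈ Subgroup.centralizer ({L.t} : Set G)) {u : ↥(Subgroup.centralizer ({L.t} : Set G))},
      y * y * g * (y * y)⁻¹ = u → mu (code (φ c)) (code (φ ⟨g, hg⟩)) = mu (code (φ u)) (code (φ c)) :=
    fun {g} hg {u} e => by
      rw [← code_mu, ← code_mu, ← map_mul, ← map_mul]
      exact congrArg (fun z => code (φ z)) (Subtype.ext (mul_inv_eq_iff_eq_mul.1 e))
  have hcond : cCond (code (φ c)) = true := by
    simp only [cCond, Bool.and_eq_true, List.all_eq_true, Nat.beq_eq, Bool.or_eq_true, Bool.not_eq_true']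
    refine ⟨⟨?_, fun d hd => ?_⟩, fun e he => ?_⟩
    · obtain ⟨h', e'⟩ := M.elQ_code hzQ
      have := tr h' (u := ⟨_, h'⟩) (by
        rw [mul_inv_rev, show y * y * F.elQ zQ * (y⁻¹ * y⁻¹) = y * (y * F.elQ zQ * y⁻¹) * y⁻¹ by group, Yz, Y2])
      rwa [e'] at this
    · obtain ⟨d1, d2, d3⟩ := hD d hd
      obtain ⟨b1, -, b3⟩ := step d.1 d1
      obtain ⟨c1, c2, c3⟩ := step d.2 d2
      obtain ⟨h', e'⟩ := M.elQ_code b1
      have := tr h' (u := wev F.gH (piW d.2)) (by
        rw [mul_inv_rev, show y * y * F.elQ d.1 * (y⁻¹ * y⁻¹) = y * (y * F.elQ d.1 * y⁻¹) * y⁻¹ by group, b3,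
          wQ d.1 d.2 d1 c1 d3, c3, F.wev_gH])
      rwa [e', cw _ c2] at this
    · by_cases hceq : code (φ c) = qCode e.1
      · right
        have hm : e.1 ∈ piL.map Prod.fst := List.mem_map.2 ⟨e, he, rfl⟩
        obtain ⟨b1, b2, b3⟩ := step e.1 hm
        obtain ⟨h', e'⟩ := M.elQ_code b1
        have hyc : y * y = F.elQ e.1 := eqH c ⟨_, h'⟩ (by rw [hceq, e'])
        rw [← (pi_facts e he).2.2.2.1, ← cw _ b2]
        refine congrArg (fun z => code (φ z)) (Subtype.ext ?_)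
        rw [F.wev_gH, ← b3, ← hyc]
        show y * (y * y) * y⁻¹ = y * y
        group
      · left
        cases h : Nat.beq (code (φ c)) (qCode e.1)
        · rfl
        · exact absurd (Nat.eq_of_beq_eq_true h) hceq
  obtain ⟨m, hm, r, hr, ecd⟩ := M.cd_mem hS c
  have hlen : repL.length = 120 ∧ coreL.length = 64 :=
    ⟨by rw [← rep_facts.2.2.2, List.length_map, rep_facts.1], core_inj.2⟩
  have hq := sq_cands
  simp only [List.all_eq_true] at hq
  have hq' := hq _ (List.getD_eq_getElem repL 0 (hlen.1.symm ▸ hm) ▸ List.getElem_mem _) _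
    (List.getD_eq_getElem coreL 0 (hlen.2.symm ▸ hr) ▸ List.getElem_mem _)
  rw [← ecd, hcond] at hq'
  simp only [Bool.not_true, Bool.false_or, List.any_eq_true, Nat.beq_eq] at hq'
  obtain ⟨w, hw, ew⟩ := hq'
  obtain ⟨j, hj, rfl⟩ := List.mem_iff_getElem.1 hw
  refine ⟨j, hclen ▸ hj, ?_⟩
  rw [List.getD_eq_getElem _ _ hj, ← F.wev_gH]
  exact eqH c _ (by rw [cw _ (hcl _ hw), ew])

/-- a certificate with right relation words gives a system -/
theorem sys_of [Finite G] {hS : L.Std} {c : Cert} {h1 : c.one = idC} {h2 : c.gens = gSel.map fun k => letL.getD k idC}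
    (hcg : cgChk c = true) {ws : List (List (List ℕ))} (hr : relChk c ws = true)
    (hlt : ∀ l ∈ ws, ∀ w ∈ l, ∀ k ∈ w, k < 11)
    (hw : ∀ l ∈ ws, (l.map fun w => wev F.g w * T.σ).prod = 1) :
    ∃ S : Sys (M.repC hS c h1 h2) G, S.φ = (Subgroup.centralizer ({L.t} : Set G)).subtype ∧ S.σ = T.σ := by
  set R := M.repC hS c h1 h2 with hR
  have cdw : ∀ (w : List ℕ) (u : ↥(Subgroup.centralizer ({L.t} : Set G))), c.ev mu w = code (φ u) → R.wel w = u :=
    fun w u e => M.cd_eq (show R.cd (R.wel w) = code (φ u) by rw [R.cd_wel, e])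
  refine ⟨⟨(Subgroup.centralizer ({L.t} : Set G)).subtype, T.σ, T.sq, fun w hw' => ?_, fun zs hzs => ?_⟩, rfl, rfl⟩
  · simp only [cgChk, List.all_eq_true, List.any_eq_true, List.mem_range, Bool.and_eq_true, Nat.beq_eq] at hcg
    obtain ⟨p, hp, e1, e2⟩ := hcg w hw'
    obtain ⟨s1, S1⟩ := T.eQ M hp
    obtain ⟨h1', c1⟩ := M.elQ_code hp
    obtain ⟨h2', c2⟩ := M.elQ_code s1
    rw [cdw w.1 ⟨_, h1'⟩ (by rw [e1, c1]), cdw w.2 ⟨_, h2'⟩ (by rw [e2, c2])]
    show F.elQ p * T.σ = T.σ * F.elQ _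
    rw [← S1]
    simp only [← mul_assoc, T.sq, one_mul]
  · have hr' : c.rels.map (fun zs => zs.map fun z => c.ev mu z.1) = ws.map fun l => l.map cwev := by
      simpa [relChk] using hr
    have hm : zs.map (fun z => c.ev mu z.1) ∈ ws.map fun l => l.map cwev :=
      hr' ▸ List.mem_map.2 ⟨zs, hzs, rfl⟩
    obtain ⟨l, hl, e⟩ := List.mem_map.1 hm
    have el : zs.map (fun z => ((R.wel z.1 : ↥(Subgroup.centralizer ({L.t} : Set G))) : G)) =
        l.map fun w => wev F.g w := by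
      have hlen : zs.length = l.length := by simpa using (congrArg List.length e).symm
      refine List.ext_getElem (by simp [hlen]) fun i i1 i2 => ?_
      have i1' : i < zs.length := by simpa using i1
      have i2' : i < l.length := by simpa using i2
      have ei : c.ev mu zs[i].1 = cwev l[i] := by
        have := List.getElem_of_eq e (i := i) (by simpa using i2')
        simpa using this.symm
      rw [List.getElem_map, List.getElem_map, cdw _ (wev F.gH l[i]) (by
        rw [ei, M.wev_eq _ (hlt l hl _ (List.getElem_mem i2'))]), F.wev_gH]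
    rw [← hw l hl]
    show (zs.map fun z => (R.wel z.1 : G) * T.σ).prod = _
    have ea : (zs.map fun z => (R.wel z.1 : G) * T.σ) =
        (zs.map fun z => ((R.wel z.1 : ↥(Subgroup.centralizer ({L.t} : Set G))) : G)).map (· * T.σ) := by
      rw [List.map_map]; rfl
    rw [ea, el, List.map_map]
    rfl

theorem not_mem : T.σ ∉ Subgroup.centralizer ({L.t} : Set G) := fun h => by
  have e : Commute T.σ (L.co.ψ 2) := L.inH_of ⟨_, h⟩
  have := L.co.inj 6 2 (by norm_num) (by norm_num) (by rw [← T.a2, e.eq, mul_assoc, T.sq, mul_one])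
  norm_num at this

theorem kill [Finite G] {hS : L.Std} {c : Cert} {h1 : c.one = idC} {h2 : c.gens = gSel.map fun k => letL.getD k idC}
    (S : Sys (M.repC hS c h1 h2) G) (hφ : S.φ = (Subgroup.centralizer ({L.t} : Set G)).subtype) (hσ : S.σ = T.σ)
    (l : Look × Look) (h : killOK c l = true) : False := by
  simp only [killOK, Bool.and_eq_true, beq_iff_eq, List.all_eq_true, List.mem_range, List.isEmpty_iff] at h
  obtain ⟨⟨⟨⟨⟨⟨hinv, hfacts⟩, -⟩, -⟩, t0⟩, t0'⟩, hlook⟩ := h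
  have hH := S.facts_hold hinv hfacts
  cases l1 : c.look mu c.facts.length l.1 with
  | none => simp [l1] at hlook
  | some t1 =>
    cases l2 : c.look mu c.facts.length l.2 with
    | none => simp [l1, l2] at hlook
    | some t2 =>
      obtain ⟨i, a, j, b⟩ := t1
      obtain ⟨i', a', j', b'⟩ := t2
      simp only [l1, l2, Bool.and_eq_true, Nat.beq_eq] at hlook
      obtain ⟨⟨⟨rfl, rfl⟩, rfl⟩, hj⟩ := hlook
      obtain ⟨x, u, hx, -, α, hα⟩ := S.look_sound hH l1
      obtain ⟨x', u', hx', -, β, hβ⟩ := S.look_sound hH l2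
      simp only at hx hx' hα hβ
      obtain rfl : x' = x := (M.repC hS c h1 h2).eq_of_cd (hx'.trans hx.symm)
      rw [hα, S.g_zero, one_mul, hφ] at hβ
      simp only [Subgroup.coe_subtype] at hβ
      have hg : S.g j' ∈ Subgroup.centralizer ({L.t} : Set G) := by
        have : S.g j' = (β : G)⁻¹ * ((α : G) * u) * (u' : G)⁻¹ := by rw [hβ]; group
        rw [this]
        exact mul_mem (mul_mem (inv_mem β.2) (mul_mem α.2 u.2)) (inv_mem u'.2)
      have h0 : (c.tree.getD 0 (0, [])).1 = 0 ∧ (c.tree.getD 0 (0, [])).2 = [] := by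
        cases hc : c.tree with
        | nil => rw [hc] at t0; exact absurd t0 (by decide)
        | cons a t => rw [hc] at t0 t0'; exact ⟨t0, t0'⟩
      have g1 : S.g 1 = T.σ := by
        rw [S.g_succ (q := 0) (by rw [h0.1]), h0.1, h0.2, S.g_zero, one_mul, hσ, show (M.repC hS c h1 h2).wel [] = 1
          from rfl, map_one, one_mul]
      rcases hj' : Nat.beq j' 1 with _ | _
      · simp only [hj', Bool.false_or, Bool.and_eq_true, Nat.beq_eq, Bool.not_eq_true'] at hj
        obtain ⟨⟨rfl, t1⟩, hnc⟩ := hj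
        have h1' : c.tree.getD 1 (0, []) = c.tree.getD 1 (9, []) := by
          by_cases hl : 1 < c.tree.length
          · rw [List.getD_eq_getElem _ _ hl, List.getD_eq_getElem _ _ hl]
          · rw [List.getD_eq_default _ _ (by omega)] at t1
            exact absurd t1 (by decide)
        set w := (c.tree.getD 1 (9, [])).2 with hwdef
        rw [S.g_succ (q := 1) (by rw [h1', t1]), h1', t1, g1, hσ, hφ] at hg
        set v : ↥(Subgroup.centralizer ({L.t} : Set G)) := (M.repC hS c h1 h2).wel w with hv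
        have hg' : Commute (T.σ * (v : G) * T.σ) (L.co.ψ 2) := L.inH_of ⟨_, hg⟩
        have hv6 : Commute (v : G) (L.co.ψ 6) := by
          have e := congrArg (fun z => T.σ * z * T.σ) hg'.eq
          rw [T.conj_mul _ (L.co.ψ 2), T.conj_mul (L.co.ψ 2), T.a2] at e
          have q : T.σ * (T.σ * (v : G) * T.σ) * T.σ = v := by
            calc _ = (T.σ * T.σ) * (v : G) * (T.σ * T.σ) := by group
              _ = _ := by rw [T.sq, one_mul, mul_one]
          rwa [q] at e
        have ec : mu (c.ev mu w) (coreL.getD 6 0) = mu (coreL.getD 6 0) (c.ev mu w) := by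
          have : c.ev mu w = code (φ v) := ((M.repC hS c h1 h2).cd_wel w).symm
          rw [this, ← M.cd_psi (by norm_num : (6 : ℕ) < 64), ← code_mu, ← code_mu, ← map_mul, ← map_mul]
          exact congrArg (fun z => code (φ z)) (Subtype.ext hv6.eq)
        rw [ec, Nat.beq_refl] at hnc
        exact Bool.noConfusion hnc
      · rw [Nat.eq_of_beq_eq_true hj', g1] at hg
        exact T.not_mem M hg

theorem sevW_ok : ∀ l ∈ sevW, (∀ w ∈ l, ∀ k ∈ w, k < 11) ∧ (l.map fun w => wev F.g w * T.σ).prod = 1 := by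
  intro l hl
  obtain ⟨p, hp, rfl⟩ := List.mem_map.1 hl
  refine ⟨fun w hw k hk => ?_, ?_⟩
  · rw [List.eq_of_mem_replicate hw] at hk
    have := (sevR_facts p hp).1
    simp only [actOK, Bool.and_eq_true, List.all_eq_true, Nat.blt_eq] at this
    exact this.1 k hk
  · rw [List.map_replicate, List.prod_replicate, T.seven M hp]

/-- the system of the main certificate, and the refuted threefold relations -/
theorem main_sys [Finite G] (hS : L.Std) :
    (∃ S : Sys (M.repC hS DcMain.cert main_head.1 main_head.2) G,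
      S.φ = (Subgroup.centralizer ({L.t} : Set G)).subtype ∧ S.σ = T.σ) ∧
      (∀ n ∈ [0, 29, 42, 55], n ≠ 0 → (wev F.g (aW n ++ hW) * T.σ) ^ 3 ≠ 1) := by
  obtain ⟨hhR, hkR, hcl, hclen, -⟩ := conn_facts
  have cubeok : ∀ n, n < 64 → (∀ w ∈ cubeW n, ∀ k ∈ w, k < 11) ∧
      ((wev F.g (aW n ++ hW) * T.σ) ^ 3 = 1 → ((cubeW n).map fun w => wev F.g w * T.σ).prod = 1) := by
    intro n hn
    refine ⟨fun w hw k hk => ?_, fun e => ?_⟩
    · rw [cubeW] at hw
      rw [List.eq_of_mem_replicate hw] at hk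
      rcases List.mem_append.1 hk with hk | hk
      · exact IsModel.aW_lt hn k hk
      · have := hW_facts.1
        simp only [actOK, Bool.and_eq_true, List.all_eq_true, Nat.blt_eq] at this
        exact this.1 k hk
    · rw [cubeW, List.map_replicate, List.prod_replicate, e]
  have sqok : ∀ j, j < 4 → (∀ w ∈ sqW j, ∀ k ∈ w, k < 11) ∧
      (wev F.g kR * T.σ * wev F.g hR * T.σ * (wev F.g kR * T.σ * wev F.g hR * T.σ) = wev F.g (cSq.getD j []) →
        ((sqW j).map fun w => wev F.g w * T.σ).prod = 1) := by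
    intro j hj
    have hcj : ∀ k ∈ cSq.getD j [], k < 11 := by
      rw [List.getD_eq_getElem _ _ (hclen.symm ▸ hj)]
      exact hcl _ (List.getElem_mem _)
    refine ⟨fun w hw k hk => ?_, fun e => ?_⟩
    · simp only [sqW, List.mem_cons, List.not_mem_nil, or_false] at hw
      rcases hw with rfl | rfl | rfl | rfl
      · rcases List.mem_append.1 hk with hk | hk
        · simp only [winv, List.mem_map, List.mem_reverse] at hk
          obtain ⟨i, hi, rfl⟩ := hk
          exact (by decide : ∀ i : Fin 11, ivT.getD i.1 0 < 11) ⟨i, hcj i hi⟩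
        · exact hkR k hk
      exacts [hhR k hk, hkR k hk, hhR k hk]
    · have hcat : wev F.g (winv (cSq.getD j []) ++ kR) = (wev F.g (cSq.getD j []))⁻¹ * wev F.g kR := by
        rw [← F.wev_winv _ (fun k hk => (hcj k hk).trans (by norm_num))]
        simp only [wev, List.map_append, List.prod_append]
      simp only [sqW, List.map_cons, List.map_nil, List.prod_cons, List.prod_nil, mul_one, hcat]
      rw [show (wev F.g (cSq.getD j []))⁻¹ * wev F.g kR * T.σ * (wev F.g hR * T.σ * (wev F.g kR * T.σ *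
        (wev F.g hR * T.σ))) = (wev F.g (cSq.getD j []))⁻¹ * (wev F.g kR * T.σ * wev F.g hR * T.σ *
        (wev F.g kR * T.σ * wev F.g hR * T.σ)) by group, e, inv_mul_cancel]
  have killed : ∀ {c : Cert} {l : Look × Look}, killOK c l = true → cgChk c = true →
      ∀ ws : List (List (List ℕ)), relChk c ws = true →
      (∀ m ∈ ws, (∀ w ∈ m, ∀ k ∈ w, k < 11) ∧ (m.map fun w => wev F.g w * T.σ).prod = 1) → False := by
    intro c l hk hcg ws hr hws
    have hk' := hk
    simp only [killOK, Bool.and_eq_true, beq_iff_eq, Nat.beq_eq] at hk'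
    obtain ⟨⟨⟨⟨-, h1⟩, h2⟩, -⟩, -⟩ := hk'.1
    obtain ⟨S, hφ, hσ⟩ := T.sys_of M (hS := hS) (h1 := h1) (h2 := h2) hcg hr (fun m hm => (hws m hm).1)
      (fun m hm => (hws m hm).2)
    exact T.kill M S hφ hσ l hk
  have kcube : ∀ n ∈ [0, 29, 42, 55], n ≠ 0 → (wev F.g (aW n ++ hW) * T.σ) ^ 3 ≠ 1 := by
    intro n hn hn0 e
    have hn64 : n < 64 := by simp at hn; omega
    have hws : ∀ m ∈ sevW ++ [cubeW n], (∀ w ∈ m, ∀ k ∈ w, k < 11) ∧ (m.map fun w => wev F.g w * T.σ).prod = 1 := by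
      intro m hm
      rcases List.mem_append.1 hm with hm | hm
      · exact T.sevW_ok M m hm
      · rw [List.mem_singleton.1 hm]; exact ⟨(cubeok n hn64).1, (cubeok n hn64).2 e⟩
    simp only [List.mem_cons, List.not_mem_nil, or_false] at hn
    rcases hn with rfl | rfl | rfl | rfl
    exacts [hn0 rfl, killed killA_ok rels_killA.1 _ rels_killA.2 hws, killed killB_ok rels_killB.1 _ rels_killB.2 hws,
      killed killC_ok rels_killC.1 _ rels_killC.2 hws]
  refine ⟨?_, kcube⟩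
  obtain ⟨n, hn, hn64, e3⟩ := T.cube M hS
  have n0 : n = 0 := by
    by_contra hn0
    exact kcube n hn hn0 e3
  subst n0
  obtain ⟨j, hj, e4⟩ := T.square M hS
  have hws : ∀ (k : ℕ), ∀ m ∈ sevW.take k ++ [cubeW 0, sqW j],
      (∀ w ∈ m, ∀ k ∈ w, k < 11) ∧ (m.map fun w => wev F.g w * T.σ).prod = 1 := by
    intro k m hm
    rcases List.mem_append.1 hm with hm | hm
    · exact T.sevW_ok M m (List.mem_of_mem_take hm)
    · simp only [List.mem_cons, List.not_mem_nil, or_false] at hm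
      rcases hm with rfl | rfl
      exacts [⟨(cubeok 0 (by norm_num)).1, (cubeok 0 (by norm_num)).2 e3⟩, ⟨(sqok j hj).1, (sqok j hj).2 e4⟩]
  have full : ∀ m ∈ sevW ++ [cubeW 0, sqW j], (∀ w ∈ m, ∀ k ∈ w, k < 11) ∧
      (m.map fun w => wev F.g w * T.σ).prod = 1 := by
    have := hws sevW.length
    rwa [List.take_length] at this
  interval_cases j
  · exact T.sys_of M rels_main.1 rels_main.2 (fun m hm => (hws 2 m hm).1) (fun m hm => (hws 2 m hm).2)
  · exact (killed killD_ok rels_killD.1 _ rels_killD.2 full).elim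
  · exact (killed killE_ok rels_killE.1 _ rels_killE.2 full).elim
  · exact (killed killF_ok rels_killF.1 _ rels_killF.2 full).elim

end Twist

end Lifts

end Cfsg.Agent.HSTwoLocal
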