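import Cfsg.Agent.Lib.Spor.HSTwoLocal.SigmaFacts

/-!
An involution of the normalizer of the elementary abelian subgroup moving the central involution, with prescribed
action on the subgroup fixing a point and a plane.
-/

set_option autoImplicit false
set_option maxRecDepth 100000
set_option maxHeartbeats 1000000
set_option synthInstance.maxSize 1000
set_option linter.style.haveILetI false

namespace Cfsg.Agent.HSTwoLocal

open Local.FS.Hundred (code code_injective idC)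

attribute [local irreducible] mu code idC letL aL rL coreL repL

theorem sV_facts : (∀ i : Fin 8, sVt.getD i.1 0 < 8 ∧ Nat.xor 2 i.1 < 8) ∧ rmul 2 4 = 6 ∧ rmul 2 8 = 10 ∧
    rmul 4 8 = 12 ∧ rmul 6 4 = 2 ∧ rmul 6 12 = 10 ∧ rmul 4 12 = 8 ∧ rmul 2 12 = 14 ∧ rmul 6 8 = 14 := by decide +kernel

theorem smul_facts : ∀ n : Fin 64, aSmul 0 n.1 = 0 ∧
    ∀ k : Fin 3, aSmul (k.1 + 1) n.1 = aAdd (aSmul k.1 n.1) n.1 ∧ aSmul k.1 n.1 < 64 := by decide +kernel

theorem alt_facts : qMul alt1 (fA 1) = qMul 72 1 ∧ alt2 = qMul (qMul 66 1) 128 ∧ alt1 < 256 ∧ alt2 < 256 ∧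
    (∀ k : Fin 4, ∀ l : Fin 4, Nat.xor k.1 l.1 < 4) := by decide +kernel

namespace Lifts

variable {G : Type*} [Group G] {L : Loc G} (F : Lifts L)

/-- element of an index in the homocyclic subgroup -/
def elA (n : ℕ) : G := wev F.g (aW n)

/-- representative of the complement -/
def rep (a : ℕ) : G := wev F.g (rW.getD a [])

/-- element of an index in the extension -/
def elQ (p : ℕ) : G := F.elA (p % 64) * F.rep (p / 64)

/-- the involution with its action -/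
structure Twist where
  σ : G
  sq : σ * σ = 1
  a2 : σ * L.co.ψ 2 * σ = L.co.ψ 6
  a4 : σ * L.co.ψ 4 * σ = L.co.ψ 4
  a8 : σ * L.co.ψ 8 * σ = L.co.ψ 12
  eA : ∀ n, n < 64 → σ * F.elA n * σ = F.elA (fA n)
  e1 : σ * F.elQ 64 * σ = F.elQ tgt1
  e2 : σ * F.elQ 128 * σ = F.elQ tgt2

theorem rep_zero : F.rep 0 = 1 := rfl

theorem elQ_small {n : ℕ} (hn : n < 64) : F.elQ n = F.elA n := by
  rw [elQ, Nat.mod_eq_of_lt hn, Nat.div_eq_of_lt hn, rep_zero, mul_one]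

theorem qMul_lt {p q : ℕ} (hp : p < 256) (hq : q < 256) : qMul p q < 256 := by
  have a := qMul_facts.1 ⟨p % 64, Nat.mod_lt _ (by norm_num)⟩
    ⟨_, qMul_facts.2.1 ⟨q % 64, Nat.mod_lt _ (by norm_num)⟩ ⟨p / 64, by omega⟩⟩
  have b := alt_facts.2.2.2.2 ⟨p / 64, by omega⟩ ⟨q / 64, by omega⟩
  unfold qMul
  exact lt_of_lt_of_le (Nat.add_lt_add_of_lt_of_le (show aAdd (Nat.mod p 64) _ < 64 from a)
    (Nat.mul_le_mul_left 64 (Nat.le_of_lt_succ b))) (by norm_num)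

namespace IsModel

variable {F} {φ : ↥(Subgroup.centralizer ({L.t} : Set G)) →* Equiv.Perm (Fin 100)} (M : F.IsModel φ)
include M

theorem eq_one_two {a b c : List ℕ} (ha : ∀ k ∈ a, k < 11) (hb : ∀ k ∈ b, k < 11) (hc : ∀ k ∈ c, k < 11)
    (e : mu (cwev a) (cwev b) = cwev c) : wev F.g a * wev F.g b = wev F.g c := by
  rw [← F.wev_gH, ← F.wev_gH, ← F.wev_gH, ← Subgroup.coe_mul]
  refine congrArg Subtype.val (M.cd_eq ?_)
  rw [map_mul, code_mu, M.wev_eq a ha, M.wev_eq b hb, M.wev_eq c hc, e]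

theorem eq_two_two {a b c d : List ℕ} (ha : ∀ k ∈ a, k < 11) (hb : ∀ k ∈ b, k < 11) (hc : ∀ k ∈ c, k < 11)
    (hd : ∀ k ∈ d, k < 11) (e : mu (cwev a) (cwev b) = mu (cwev c) (cwev d)) :
    wev F.g a * wev F.g b = wev F.g c * wev F.g d := by
  rw [← F.wev_gH, ← F.wev_gH, ← F.wev_gH, ← F.wev_gH, ← Subgroup.coe_mul, ← Subgroup.coe_mul]
  refine congrArg Subtype.val (M.cd_eq ?_)
  rw [map_mul, map_mul, code_mu, code_mu, M.wev_eq a ha, M.wev_eq b hb, M.wev_eq c hc, M.wev_eq d hd, e]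

omit M in
theorem aW_lt {n : ℕ} (hn : n < 64) : ∀ k ∈ aW n, k < 11 :=
  fun k hk => ((aW_facts.1 ⟨n, hn⟩).1 k hk).trans (by norm_num)

omit M in
theorem psi_word {y : ℕ} (hy : y < 64) : L.co.ψ y = wev F.g (stdW y) ∧ (∀ k ∈ stdW y, k < 11) := by
  obtain ⟨a, b, -⟩ := stdW_facts ⟨y, hy⟩
  exact ⟨by rw [(F.wev_code _ a).2, b], fun k hk => (a k hk).trans (by norm_num)⟩

theorem elA_mul {m n : ℕ} (hm : m < 64) (hn : n < 64) : F.elA m * F.elA n = F.elA (aAdd m n) := by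
  have h := qMul_facts.1 ⟨m, hm⟩ ⟨n, hn⟩
  refine M.eq_one_two (aW_lt hm) (aW_lt hn) (aW_lt h) ?_
  rw [(aW_facts.1 ⟨m, hm⟩).2, (aW_facts.1 ⟨n, hn⟩).2, (aW_facts.1 ⟨_, h⟩).2, aL_mul]

theorem elA_inv {n : ℕ} (hn : n < 64) : F.elA (aInv n) = (F.elA n)⁻¹ := by
  obtain ⟨a, b, -⟩ := qMul_facts.2.2 ⟨n, hn⟩
  refine eq_inv_of_mul_eq_one_right ?_
  rw [M.elA_mul hn a, b]
  rfl

theorem rep_conj {a n : ℕ} (ha : a < 4) (hn : n < 64) :
    F.rep a * F.elA n = F.elA (aLin (cjL.getD a (0, 0, 0)) n) * F.rep a := by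
  have h := qMul_facts.2.1 ⟨n, hn⟩ ⟨a, ha⟩
  refine M.eq_two_two (aW_facts.2 ⟨a, ha⟩).1 (aW_lt hn) (aW_lt h) (aW_facts.2 ⟨a, ha⟩).1 ?_
  rw [(aW_facts.1 ⟨n, hn⟩).2, (aW_facts.1 ⟨_, h⟩).2, (aW_facts.2 ⟨a, ha⟩).2, rL_conj ⟨a, ha⟩ ⟨n, hn⟩]

theorem rep_mul {a b : ℕ} (ha : a < 4) (hb : b < 4) : F.rep a * F.rep b = F.rep (Nat.xor a b) := by
  have h := alt_facts.2.2.2.2 ⟨a, ha⟩ ⟨b, hb⟩
  refine M.eq_one_two (aW_facts.2 ⟨a, ha⟩).1 (aW_facts.2 ⟨b, hb⟩).1 (aW_facts.2 ⟨_, h⟩).1 ?_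
  rw [(aW_facts.2 ⟨a, ha⟩).2, (aW_facts.2 ⟨b, hb⟩).2, (aW_facts.2 ⟨_, h⟩).2, rL_mul ⟨a, ha⟩ ⟨b, hb⟩]

theorem elQ_mul {p q : ℕ} (hp : p < 256) (hq : q < 256) : F.elQ p * F.elQ q = F.elQ (qMul p q) := by
  have hm : p % 64 < 64 := Nat.mod_lt _ (by norm_num)
  have hn : q % 64 < 64 := Nat.mod_lt _ (by norm_num)
  have hl := qMul_facts.2.1 ⟨_, hn⟩ ⟨p / 64, by omega⟩
  have hs := qMul_facts.1 ⟨_, hm⟩ ⟨_, hl⟩
  have hx := alt_facts.2.2.2.2 ⟨p / 64, by omega⟩ ⟨q / 64, by omega⟩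
  have e : qMul p q % 64 = aAdd (p % 64) (aLin (cjL.getD (p / 64) (0, 0, 0)) (q % 64)) ∧
      qMul p q / 64 = Nat.xor (p / 64) (q / 64) := by
    unfold qMul
    constructor
    · exact (Nat.add_mul_mod_self_left _ _ _).trans (Nat.mod_eq_of_lt hs)
    · rw [Nat.add_mul_div_left _ _ (by norm_num : 0 < 64)]
      exact (congrArg (fun z => z + _) (Nat.div_eq_of_lt hs)).trans (Nat.zero_add _)
  rw [elQ, elQ, elQ, e.1, e.2, ← M.elA_mul hm hl, ← M.rep_mul (by omega) (by omega)]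
  calc F.elA (p % 64) * F.rep (p / 64) * (F.elA (q % 64) * F.rep (q / 64))
      = F.elA (p % 64) * (F.rep (p / 64) * F.elA (q % 64)) * F.rep (q / 64) := by group
    _ = _ := by rw [M.rep_conj (by omega) hn]; group

theorem elQ_code {p : ℕ} (hp : p < 256) :
    ∃ h : F.elQ p ∈ Subgroup.centralizer ({L.t} : Set G), code (φ ⟨_, h⟩) = qCode p := by
  have hm : p % 64 < 64 := Nat.mod_lt _ (by norm_num)
  have e : F.elQ p = (wev F.gH (aW (p % 64)) * wev F.gH (rW.getD (p / 64) []) : ↥(Subgroup.centralizer _)) := by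
    rw [Subgroup.coe_mul, F.wev_gH, F.wev_gH]; rfl
  refine ⟨e ▸ SetLike.coe_mem _, ?_⟩
  rw [show (⟨F.elQ p, e ▸ SetLike.coe_mem _⟩ : ↥(Subgroup.centralizer ({L.t} : Set G))) =
    wev F.gH (aW (p % 64)) * wev F.gH (rW.getD (p / 64) []) from Subtype.ext e, map_mul, code_mu,
    M.wev_eq _ (aW_lt hm), M.wev_eq _ (aW_facts.2 ⟨p / 64, by omega⟩).1, (aW_facts.1 ⟨_, hm⟩).2,
    (aW_facts.2 ⟨p / 64, by omega⟩).2]
  rfl

theorem elQ_inj {p q : ℕ} (hp : p < 256) (hq : q < 256) (e : F.elQ p = F.elQ q) : p = q := by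
  obtain ⟨h1, e1⟩ := M.elQ_code hp
  obtain ⟨h2, e2⟩ := M.elQ_code hq
  have e3 : qCode p = qCode q := by
    rw [← e1, ← e2]
    exact congrArg (fun z => code (φ z)) (Subtype.ext e)
  exact List.inj_on_of_nodup_map qCode_nodup (List.mem_range.2 hp) (List.mem_range.2 hq) e3

theorem elA_inj {m n : ℕ} (hm : m < 64) (hn : n < 64) (e : F.elA m = F.elA n) : m = n :=
  M.elQ_inj (by omega) (by omega) (by rw [F.elQ_small hm, F.elQ_small hn, e])

theorem elA_v {i : ℕ} (hi : i < 8) : F.elA (vIdx.getD i 0) = L.co.ψ (2 * i) := by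
  obtain ⟨e, w⟩ := psi_word (F := F) (y := 2 * i) (by omega)
  have hv : vIdx.getD i 0 < 64 := (by decide : ∀ i : Fin 8, vIdx.getD i.1 0 < 64) ⟨i, hi⟩
  rw [e, elA, ← F.wev_gH, ← F.wev_gH]
  refine congrArg Subtype.val (M.cd_eq ?_)
  rw [M.wev_eq _ (aW_lt hv), M.wev_eq _ w, (aW_facts.1 ⟨_, hv⟩).2, (stdW_facts ⟨2 * i, by omega⟩).2.2,
    vIdx_facts.1 ⟨i, hi⟩]

theorem word_psi {l : List ℕ} (hl : ∀ k ∈ l, k < 11) {y z : ℕ} (hy : y < 64) (hz : z < 64)
    (e : mu (cwev l) (coreL.getD y 0) = mu (coreL.getD z 0) (cwev l)) :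
    wev F.g l * L.co.ψ y = L.co.ψ z * wev F.g l := by
  obtain ⟨e1, w1⟩ := psi_word (F := F) hy
  obtain ⟨e2, w2⟩ := psi_word (F := F) hz
  rw [e1, e2]
  refine M.eq_two_two hl w1 w2 hl ?_
  rw [(stdW_facts ⟨y, hy⟩).2.2, (stdW_facts ⟨z, hz⟩).2.2, e]

theorem elA_cent {n : ℕ} (hn : n < 64) : ∀ v ∈ L.V, Commute (F.elA n) v := by
  obtain ⟨c4, c8⟩ := vIdx_facts.2.1 ⟨n, hn⟩
  obtain ⟨-, e⟩ := aW_facts.1 ⟨n, hn⟩
  exact L.cent_V ((F.wev_spec _ (aW_lt hn)).1) (M.word_psi (aW_lt hn) (by norm_num) (by norm_num) (by rw [e]; exact c4))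
    (M.word_psi (aW_lt hn) (by norm_num) (by norm_num) (by rw [e]; exact c8))

theorem rep_act {a : ℕ} (ha : a < 4) : L.inH (F.rep a) ∧ Commute (F.rep a) (L.co.ψ 4) ∧
    ∃ i < 8, F.rep a * L.co.ψ 8 * (F.rep a)⁻¹ = L.co.ψ (2 * i) := by
  obtain ⟨c4, i, c8⟩ := vIdx_facts.2.2 ⟨a, ha⟩
  obtain ⟨l, e⟩ := aW_facts.2 ⟨a, ha⟩
  refine ⟨(F.wev_spec _ l).1, M.word_psi l (by norm_num) (by norm_num) (by rw [e]; exact c4), i, i.2, ?_⟩
  rw [mul_inv_eq_iff_eq_mul]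
  exact M.word_psi l (by norm_num) (by omega) (by rw [e]; exact c8)

theorem elQ_act {p : ℕ} (hp : p < 256) : L.inH (F.elQ p) ∧ Commute (F.elQ p) (L.co.ψ 4) ∧
    ∃ i < 8, F.elQ p * L.co.ψ 8 * (F.elQ p)⁻¹ = L.co.ψ (2 * i) := by
  have hm : p % 64 < 64 := Nat.mod_lt _ (by norm_num)
  obtain ⟨r2, r4, i, hi, r8⟩ := M.rep_act (a := p / 64) (by omega)
  have hc := M.elA_cent hm
  have hv : ∀ j, j < 8 → Commute (F.elA (p % 64)) (L.co.ψ (2 * j)) := fun j hj =>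
    hc _ ((L.co.memV _).2 ⟨2 * j, by omega, by omega, rfl⟩)
  refine ⟨((F.wev_spec _ (aW_lt hm)).1).mul r2, Commute.mul_left (hv 2 (by norm_num)) r4, i, hi, ?_⟩
  rw [elQ, mul_inv_rev, show F.elA (p % 64) * F.rep (p / 64) * L.co.ψ 8 * ((F.rep (p / 64))⁻¹ * (F.elA (p % 64))⁻¹) =
    F.elA (p % 64) * (F.rep (p / 64) * L.co.ψ 8 * (F.rep (p / 64))⁻¹) * (F.elA (p % 64))⁻¹ by group, r8, (hv i hi).eq,
    mul_inv_cancel_right]

theorem mem_test [Finite G] (hS : L.Std) {g : G} (h2 : Commute g (L.co.ψ 2)) (h4 : Commute g (L.co.ψ 4)) :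
    (Commute g (L.co.ψ 8) → ∃ n < 64, g = F.elA n) ∧
      ((∃ i < 8, g * L.co.ψ 8 * g⁻¹ = L.co.ψ (2 * i)) → ∃ p < 256, g = F.elQ p) := by
  set h := L.toH g h2
  obtain ⟨m, hm, r, hr, e⟩ := M.cd_mem hS h
  have hlen : repL.length = 120 ∧ coreL.length = 64 := ⟨by rw [← rep_facts.2.2.2, List.length_map, rep_facts.1], core_inj.2⟩
  have ht := mem_facts
  simp only [List.all_eq_true] at ht
  have ht' := ht _ (List.getD_eq_getElem repL 0 (hlen.1.symm ▸ hm) ▸ List.getElem_mem _) _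
    (List.getD_eq_getElem coreL 0 (hlen.2.symm ▸ hr) ▸ List.getElem_mem _)
  rw [← e] at ht'
  have tr : ∀ {y z : ℕ} (hy : y < 64) (hz : z < 64), g * L.co.ψ y = L.co.ψ z * g →
      mu (code (φ h)) (coreL.getD y 0) = mu (coreL.getD z 0) (code (φ h)) := fun {y z} hy hz q => by
    rw [← M.cd_psi hy, ← M.cd_psi hz, ← code_mu, ← code_mu, ← map_mul, ← map_mul]
    exact congrArg (fun w => code (φ w)) (Subtype.ext q)
  simp only [memTest, tr (by norm_num) (by norm_num) h4.eq, Nat.beq_refl, cond_true, Bool.and_eq_true] at ht'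
  obtain ⟨hA, hQ⟩ := ht'
  have back : ∀ {p : ℕ}, p < 256 → code (φ h) = qCode p → g = F.elQ p := fun {p} hp q => by
    obtain ⟨h', e'⟩ := M.elQ_code hp
    exact congrArg Subtype.val (M.cd_eq (g := h) (h := ⟨_, h'⟩) (q.trans e'.symm))
  refine ⟨fun h8 => ?_, fun ⟨i, hi, h8⟩ => ?_⟩
  · simp only [tr (by norm_num) (by norm_num) h8.eq, Nat.beq_refl, cond_true, List.any_eq_true, Nat.beq_eq] at hA
    obtain ⟨x, hx, q⟩ := hA
    obtain ⟨n, hn, rfl⟩ := List.mem_iff_getElem.1 hx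
    have hn' : n < 64 := (show aL.length = 64 by decide +kernel) ▸ hn
    obtain ⟨l, el⟩ := aW_facts.1 ⟨n, hn'⟩
    refine ⟨n, hn', ?_⟩
    show (h : G) = _
    rw [elA, ← F.wev_gH]
    refine congrArg Subtype.val (M.cd_eq ?_)
    rw [q, M.wev_eq _ (aW_lt hn'), el, List.getD_eq_getElem _ _ hn]
  · have hb : ((List.range 8).any fun i => Nat.beq (mu (code (φ h)) (coreL.getD 8 0))
        (mu (coreL.getD (2 * i) 0) (code (φ h)))) = true :=
      List.any_eq_true.2 ⟨i, List.mem_range.2 hi, by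
        rw [tr (by norm_num) (by omega) (mul_inv_eq_iff_eq_mul.1 h8)]; exact Nat.beq_refl _⟩
    rw [hb] at hQ
    simp only [cond_true, List.any_eq_true, List.mem_range, Nat.beq_eq] at hQ
    obtain ⟨a, ha, x, hx, q⟩ := hQ
    obtain ⟨n, hn, rfl⟩ := List.mem_iff_getElem.1 hx
    have hn' : n < 64 := (show aL.length = 64 by decide +kernel) ▸ hn
    refine ⟨n + 64 * a, by omega, back (by omega) ?_⟩
    rw [q, qCode, Nat.add_mul_mod_self_left, Nat.mod_eq_of_lt hn', Nat.add_mul_div_left _ _ (by norm_num : 0 < 64),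
      Nat.div_eq_of_lt hn', Nat.zero_add, List.getD_eq_getElem _ _ hn]

/-- the first twist -/
theorem exists_twist [Finite G] (hS : L.Std) : ∃ F' : Lifts L, Nonempty F'.Twist := by
  obtain ⟨g, g2, g4, g8⟩ := L.move 2 5 1 (by norm_num) (by norm_num) (by norm_num) (by decide)
  set s := g * L.co.ψ 32 * g⁻¹ with hs
  have ssq : s * s = 1 := by
    rw [hs, show g * L.co.ψ 32 * g⁻¹ * (g * L.co.ψ 32 * g⁻¹) = g * (L.co.ψ 32 * L.co.ψ 32) * g⁻¹ by group,
      ← L.co.mul _ _ (by norm_num) (by norm_num), show rmul 32 32 = 0 by decide +kernel, L.psi_zero]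
    group
  have sinv : s⁻¹ = s := inv_eq_of_mul_eq_one_right ssq
  have cv : ∀ a c, a < 64 → c < 64 → rmul 32 a = rmul c 32 →
      s * (g * L.co.ψ a * g⁻¹) * s = g * L.co.ψ c * g⁻¹ := by
    intro a c ha hc he
    have e : L.co.ψ 32 * L.co.ψ a = L.co.ψ c * L.co.ψ 32 := by
      rw [← L.co.mul _ _ (by norm_num) ha, ← L.co.mul _ _ hc (by norm_num), he]
    have e' : L.co.ψ 32 * L.co.ψ 32 = 1 := by
      rw [← L.co.mul _ _ (by norm_num) (by norm_num), show rmul 32 32 = 0 by decide +kernel, L.psi_zero]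
    calc s * (g * L.co.ψ a * g⁻¹) * s = g * (L.co.ψ 32 * L.co.ψ a) * L.co.ψ 32 * g⁻¹ := by rw [hs]; group
      _ = g * L.co.ψ c * (L.co.ψ 32 * L.co.ψ 32) * g⁻¹ := by rw [e]; group
      _ = _ := by rw [e', mul_one]
  have c4 : s * L.co.ψ 4 * s = L.co.ψ 4 := by
    have := cv 2 2 (by norm_num) (by norm_num) (by decide +kernel); rwa [g2] at this
  have c10 : s * L.co.ψ 10 * s = L.co.ψ 10 := by
    have := cv 4 4 (by norm_num) (by norm_num) (by decide +kernel); rwa [g4] at this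
  have c2 : s * L.co.ψ 2 * s = L.co.ψ 6 := by
    have := cv 8 10 (by norm_num) (by norm_num) (by decide +kernel)
    rw [show L.co.ψ 10 = L.co.ψ 2 * L.co.ψ 8 by rw [← L.co.mul _ _ (by norm_num) (by norm_num), sV_facts.2.2.1],
      show g * (L.co.ψ 2 * L.co.ψ 8) * g⁻¹ = (g * L.co.ψ 2 * g⁻¹) * (g * L.co.ψ 8 * g⁻¹) by group, g2, g8] at this
    rw [show (2 * 1 : ℕ) = 2 from rfl, show (2 * 2 : ℕ) = 4 from rfl] at this
    rw [this, ← L.co.mul _ _ (by norm_num) (by norm_num)]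
    exact congrArg _ (by decide +kernel)
  have c8 : s * L.co.ψ 8 * s = L.co.ψ 12 := by
    have e : L.co.ψ 8 = L.co.ψ 2 * L.co.ψ 10 := by
      rw [← L.co.mul _ _ (by norm_num) (by norm_num)]; exact congrArg _ (by decide +kernel)
    rw [e, show s * (L.co.ψ 2 * L.co.ψ 10) * s = (s * L.co.ψ 2 * s) * (s⁻¹ * L.co.ψ 10 * s) by group, sinv, c2, c10,
      ← L.co.mul _ _ (by norm_num) (by norm_num)]
    exact congrArg _ (by decide +kernel)
  have hmul : ∀ a b : G, s * (a * b) * s = (s * a * s) * (s * b * s) := fun a b => by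
    calc s * (a * b) * s = s * a * 1 * b * s := by group
      _ = _ := by rw [← ssq]; group
  have sv : ∀ i, i < 8 → s * L.co.ψ (2 * i) * s = L.co.ψ (2 * sVt.getD i 0) := by
    obtain ⟨-, f6, f10, f12, f2, f10', f8, f14, f14'⟩ := sV_facts
    have pr : ∀ a b c a' b' c', a < 64 → b < 64 → a' < 64 → b' < 64 → rmul a b = c → rmul a' b' = c' →
        s * L.co.ψ a * s = L.co.ψ a' → s * L.co.ψ b * s = L.co.ψ b' → s * L.co.ψ c * s = L.co.ψ c' := by
      intro a b c a' b' c' ha hb ha' hb' e e' p q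
      rw [← e, ← e', L.co.mul _ _ ha hb, L.co.mul _ _ ha' hb', hmul, p, q]
    have c6 := pr 2 4 6 6 4 2 (by norm_num) (by norm_num) (by norm_num) (by norm_num) f6 f2 c2 c4
    have c12 := pr 4 8 12 4 12 8 (by norm_num) (by norm_num) (by norm_num) (by norm_num) f12 f8 c4 c8
    have c14 := pr 2 12 14 6 8 14 (by norm_num) (by norm_num) (by norm_num) (by norm_num) f14 f14' c2 c12
    intro i hi
    interval_cases i
    · show s * L.co.ψ 0 * s = L.co.ψ 0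
      rw [L.psi_zero, mul_one, ssq]
    exacts [c2, c4, c6, c8, c10, c12, c14]
  have vcomm : ∀ {q : G}, (∀ v ∈ L.V, Commute q v) → ∀ j, j < 8 → Commute (s * q * s) (L.co.ψ (2 * j)) := by
    intro q hq j hj
    obtain ⟨i, hi, e⟩ := (by decide : ∀ j : Fin 8, ∃ i : Fin 8, ∃ _h : sVt.getD i.1 0 = j.1, True) ⟨j, hj⟩
    have c : Commute q (L.co.ψ (2 * i.1)) := hq _ ((L.co.memV _).2 ⟨2 * i.1, by omega, by omega, rfl⟩)
    have e1 := congrArg (fun z => s * z * s) c.eq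
    simp only [hmul, sv i.1 i.2] at e1
    rw [show sVt.getD i.1 0 = j from hi] at e1
    exact e1
  have imA : ∀ n, n < 64 → ∃ m < 64, s * F.elA n * s = F.elA m := fun n hn =>
    (M.mem_test hS (vcomm (M.elA_cent hn) 1 (by norm_num)) (vcomm (M.elA_cent hn) 2 (by norm_num))).1
      (vcomm (M.elA_cent hn) 4 (by norm_num))
  obtain ⟨I1, hI1, e1⟩ := imA 1 (by norm_num)
  obtain ⟨I2, hI2, e2⟩ := imA 4 (by norm_num)
  obtain ⟨I3, hI3, e3⟩ := imA 16 (by norm_num)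
  have pow : ∀ {u : ℕ}, u < 64 → ∀ k, k < 4 → F.elA u ^ k = F.elA (aSmul k u) ∧ aSmul k u < 64 := by
    intro u hu k hk
    induction k with
    | zero => exact ⟨by rw [pow_zero, (smul_facts ⟨u, hu⟩).1]; rfl, by rw [(smul_facts ⟨u, hu⟩).1]; norm_num⟩
    | succ k ih =>
      obtain ⟨a, b⟩ := ih (by omega)
      obtain ⟨c, -⟩ := (smul_facts ⟨u, hu⟩).2 ⟨k, by omega⟩
      have l := qMul_facts.1 ⟨_, b⟩ ⟨u, hu⟩
      rw [pow_succ, a, M.elA_mul b hu, show aSmul (k + 1) u = _ from c]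
      exact ⟨rfl, l⟩
  have lin : ∀ n, n < 64 → s * F.elA n * s = F.elA (aLin (I1, I2, I3) n) ∧ aLin (I1, I2, I3) n < 64 := by
    intro n hn
    obtain ⟨p1, q1⟩ := pow hI1 (n % 4) (Nat.mod_lt _ (by norm_num))
    obtain ⟨p2, q2⟩ := pow hI2 (n / 4 % 4) (Nat.mod_lt _ (by norm_num))
    obtain ⟨p3, q3⟩ := pow hI3 (n / 16) (by omega)
    have hf : ∀ (k : ℕ) (l : List ℕ), wev F.g (List.replicate k l).flatten = wev F.g l ^ k := fun k l => by
      simp [wev, List.map_flatten, List.prod_flatten]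
    have ew : F.elA n = F.elA 1 ^ (n % 4) * F.elA 4 ^ (n / 4 % 4) * F.elA 16 ^ (n / 16) := by
      have h1 : aW 1 = eW.getD 0 [] := by decide +kernel
      have h2 : aW 4 = eW.getD 1 [] := by decide +kernel
      have h3 : aW 16 = eW.getD 2 [] := by decide +kernel
      rw [elA, elA, elA, elA, h1, h2, h3, ← hf, ← hf, ← hf]
      simp [aW, wev, mul_assoc]
    have cp : ∀ (u : G) (k : ℕ), s * u ^ k * s = (s * u * s) ^ k := fun u k => by
      induction k with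
      | zero => simp [ssq]
      | succ k ih => rw [pow_succ, pow_succ, hmul, ih]
    have l12 := qMul_facts.1 ⟨_, q1⟩ ⟨_, q2⟩
    refine ⟨?_, qMul_facts.1 ⟨_, l12⟩ ⟨_, q3⟩⟩
    rw [ew, hmul, hmul, cp, cp, cp, e1, e2, e3, p1, p2, p3, M.elA_mul q1 q2, M.elA_mul l12 q3]
    rfl
  have root : ∀ u I i j, u < 64 → I < 64 → s * F.elA u * s = F.elA I → i < 8 → aAdd u u = vIdx.getD i 0 →
      sVt.getD i 0 = j → aAdd I I = vIdx.getD j 0 := by
    intro u I i j hu hI e hi hd hj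
    have hj8 : j < 8 := hj ▸ (sV_facts.1 ⟨i, hi⟩).1
    refine M.elA_inj (qMul_facts.1 ⟨I, hI⟩ ⟨I, hI⟩)
      ((by decide : ∀ i : Fin 8, vIdx.getD i.1 0 < 64) ⟨j, hj8⟩) ?_
    rw [← M.elA_mul hI hI, ← e, ← hmul, M.elA_mul hu hu, hd, M.elA_v hi, sv i hi, hj, M.elA_v hj8]
  have r1 := root 1 I1 1 3 (by norm_num) hI1 e1 (by norm_num) (by decide +kernel) (by decide)
  have r2 := root 4 I2 2 2 (by norm_num) hI2 e2 (by norm_num) (by decide +kernel) (by decide)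
  have r3 := root 16 I3 5 5 (by norm_num) hI3 e3 (by norm_num) (by decide +kernel) (by decide)
  have invol : ∀ e ∈ [1, 4, 16], aLin (I1, I2, I3) (aLin (I1, I2, I3) e) = e := by
    intro e he
    have he' : e < 64 := by simp at he; omega
    obtain ⟨a, b⟩ := lin e he'
    obtain ⟨c, d⟩ := lin _ b
    refine M.elA_inj d he' ?_
    rw [← c, ← a]
    calc s * (s * F.elA e * s) * s = (s * s) * F.elA e * (s * s) := by group
      _ = _ := by rw [ssq, one_mul, mul_one]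
  have sev : sevTest (I1, I2, I3) = true := by
    simp only [sevTest, List.all_eq_true, Nat.beq_eq]
    intro p hp e he
    have he' : e < 64 := by simp at he; omega
    obtain ⟨hl, hA, xv, -, hV, hit⟩ := seven_facts p hp
    set x := wev F.g p.1 with hx
    set τ := x * s with hτ
    have xconj : ∀ i, i < 8 → xv.getD i 0 < 8 ∧ x * L.co.ψ (2 * i) * x⁻¹ = L.co.ψ (2 * xv.getD i 0) := fun i hi => by
      obtain ⟨a, b⟩ := hV ⟨i, hi⟩
      refine ⟨a, ?_⟩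
      rw [mul_inv_eq_iff_eq_mul]
      exact M.word_psi hl (by omega) (show 2 * xv.getD i 0 < 64 by simp only at a; omega) b
    have τV : ∀ (k i : ℕ), i < 8 → ∃ j, j < 8 ∧ j = Nat.rec (motive := fun _ => ℕ) i (fun _ v => xv.getD (sVt.getD v 0) 0) k ∧
        τ ^ k * L.co.ψ (2 * i) * (τ ^ k)⁻¹ = L.co.ψ (2 * j) := by
      intro k
      induction k with
      | zero => exact fun i hi => ⟨i, hi, rfl, by simp⟩
      | succ k ih =>
        intro i hi
        obtain ⟨j, hj, ej, e'⟩ := ih i hi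
        obtain ⟨a, b⟩ := xconj _ (sV_facts.1 ⟨j, hj⟩).1
        refine ⟨_, a, congrArg (fun v => xv.getD (sVt.getD v 0) 0) ej, ?_⟩
        rw [pow_succ', mul_inv_rev, show τ * τ ^ k * L.co.ψ (2 * i) * ((τ ^ k)⁻¹ * τ⁻¹) =
          x * (s * (τ ^ k * L.co.ψ (2 * i) * (τ ^ k)⁻¹) * s⁻¹) * x⁻¹ by rw [hτ]; group, e', sinv, sv j hj]
        exact b
    have cV : ∀ v ∈ L.V, Commute (τ ^ 7) v := fun v hv => by
      obtain ⟨i, hi, rfl⟩ := L.mem_V hv
      obtain ⟨j, -, ej, e'⟩ := τV 7 i hi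
      rw [hit ⟨i, hi⟩] at ej
      rw [ej, mul_inv_eq_iff_eq_mul] at e'
      exact e'
    have τA : ∀ k, ∃ m, m < 64 ∧ m = Nat.rec (motive := fun _ => ℕ) e (fun _ v => aLin p.2 (aLin (I1, I2, I3) v)) k ∧
        τ ^ k * F.elA e * (τ ^ k)⁻¹ = F.elA m := by
      intro k
      induction k with
      | zero => exact ⟨e, he', rfl, by simp⟩
      | succ k ih =>
        obtain ⟨m, hm, em, e'⟩ := ih
        obtain ⟨a, b⟩ := lin m hm
        have c := hA ⟨_, b⟩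
        have lt : aLin p.2 (aLin (I1, I2, I3) m) < 64 :=
          ((by decide +kernel : ∀ p ∈ sevD, ∀ n : Fin 64, aLin p.2 n.1 < 64) p hp) ⟨_, b⟩
        refine ⟨_, lt, congrArg (fun v => aLin p.2 (aLin (I1, I2, I3) v)) em, ?_⟩
        rw [pow_succ', mul_inv_rev, show τ * τ ^ k * F.elA e * ((τ ^ k)⁻¹ * τ⁻¹) =
          x * (s * (τ ^ k * F.elA e * (τ ^ k)⁻¹) * s⁻¹) * x⁻¹ by rw [hτ]; group, e', sinv, a, mul_inv_eq_iff_eq_mul]
        refine M.eq_two_two hl (aW_lt b) (aW_lt lt) hl ?_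
        rw [(aW_facts.1 ⟨_, b⟩).2, (aW_facts.1 ⟨_, lt⟩).2]
        exact c
    obtain ⟨m, hm, em, e'⟩ := τA 7
    rw [← em]
    refine M.elA_inj hm he' ?_
    rw [← e', (L.cent_comm _ _ cV (M.elA_cent he')).eq, mul_inv_cancel_right]
  obtain ⟨u1, u2, u3⟩ := twist_unique I1 ((root_cands ⟨I1, hI1⟩).1 r1) I2 ((root_cands ⟨I2, hI2⟩).2.1 r2) I3
    ((root_cands ⟨I3, hI3⟩).2.2 r3) invol sev
  have eA : ∀ n, n < 64 → s * F.elA n * s = F.elA (fA n) := fun n hn => by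
    rw [(lin n hn).1, u1, u2, u3]; rfl
  -- the complement
  have imQ : ∀ p, p < 256 → ∃ y < 256, s * F.elQ p * s = F.elQ y := by
    intro p hp
    obtain ⟨q2, q4, i, hi, q8⟩ := M.elQ_act hp
    have q6 : Commute (F.elQ p) (L.co.ψ 6) := by
      rw [show L.co.ψ 6 = L.co.ψ 2 * L.co.ψ 4 by rw [← L.co.mul _ _ (by norm_num) (by norm_num), sV_facts.2.1]]
      exact Commute.mul_right q2 q4
    have t2 : Commute (s * F.elQ p * s) (L.co.ψ 2) := by
      have h := congrArg (fun z => s * z * s) q6.eq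
      simp only [hmul] at h
      rw [show s * L.co.ψ 6 * s = L.co.ψ 2 from sv 3 (by norm_num)] at h
      exact h
    have t4 : Commute (s * F.elQ p * s) (L.co.ψ 4) := by
      have h := congrArg (fun z => s * z * s) q4.eq
      simp only [hmul, c4] at h
      exact h
    refine (M.mem_test hS t2 t4).2 ⟨Nat.xor 2 (sVt.getD i 0), (sV_facts.1 ⟨_, (sV_facts.1 ⟨i, hi⟩).1⟩).2, ?_⟩
    have hj := (sV_facts.1 ⟨i, hi⟩).1
    have ex := (even_codes ⟨2, by norm_num⟩ ⟨_, hj⟩).1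
    simp only at ex hj
    rw [← ex, L.co.mul _ _ (by norm_num) (by omega), show (2 * 2 : ℕ) = 4 from rfl]
    have e8 : L.co.ψ 8 = s * (L.co.ψ 4 * L.co.ψ 8) * s := by
      rw [hmul, c4, c8, ← L.co.mul _ _ (by norm_num) (by norm_num), sV_facts.2.2.2.2.2.2.1]
    rw [show (s * F.elQ p * s)⁻¹ = s⁻¹ * ((F.elQ p)⁻¹ * s⁻¹) by group, sinv]
    conv_lhs => rw [e8]
    calc s * F.elQ p * s * (s * (L.co.ψ 4 * L.co.ψ 8) * s) * (s * ((F.elQ p)⁻¹ * s))
        = s * F.elQ p * (s * s) * (L.co.ψ 4 * L.co.ψ 8) * (s * s) * (F.elQ p)⁻¹ * s := by group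
      _ = s * (F.elQ p * L.co.ψ 4 * (F.elQ p)⁻¹ * (F.elQ p * L.co.ψ 8 * (F.elQ p)⁻¹)) * s := by rw [ssq]; group
      _ = _ := by rw [q4.eq, mul_inv_cancel_right, q8, hmul, c4, sv i hi]
  obtain ⟨y1, hy1, E1⟩ := imQ 64 (by norm_num)
  obtain ⟨y2, hy2, E2⟩ := imQ 128 (by norm_num)
  have hfA : ∀ n, n < 64 → fA n < 64 := fun n hn => (qMul_facts.2.2 ⟨n, hn⟩).2.2
  have img : ∀ y r, y < 256 → r < 4 → qMul (64 * r) (64 * r) = 0 → s * F.elQ (64 * r) * s = F.elQ y →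
      okImg y r = true := by
    intro y r hy hr hsq E
    simp only [okImg, Bool.and_eq_true, List.all_eq_true, Nat.beq_eq]
    refine ⟨M.elQ_inj (qMul_lt hy hy) (by norm_num) ?_, fun e he => ?_⟩
    · rw [← M.elQ_mul hy hy, ← E, ← hmul, M.elQ_mul (by omega) (by omega), hsq, F.elQ_small (by norm_num),
        show F.elA 0 = 1 from rfl, mul_one, ssq]
    · have he' : e < 64 := by simp at he; omega
      have hc : aLin (cjL.getD r (0, 0, 0)) e < 64 := qMul_facts.2.1 ⟨e, he'⟩ ⟨r, hr⟩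
      have hf := hfA e he'
      have hg := hfA _ hc
      refine M.elQ_inj (qMul_lt hy (by omega)) (qMul_lt (by omega) hy) ?_
      have hr' : F.elQ (64 * r) = F.rep r := by
        rw [elQ, Nat.mul_mod_right, Nat.mul_div_cancel_left _ (by norm_num : 0 < 64), show F.elA 0 = 1 from rfl, one_mul]
      rw [← M.elQ_mul hy (by omega), ← M.elQ_mul (by omega) hy, F.elQ_small hf, F.elQ_small hg, ← E, ← eA e he',
        ← eA _ hc, ← hmul, ← hmul, hr', M.rep_conj hr he']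
  have ok1 := (img_cases ⟨y1, hy1⟩).1 (img y1 1 hy1 (by norm_num) (by decide +kernel) E1)
  have ok2 := (img_cases ⟨y2, hy2⟩).2 (img y2 2 hy2 (by norm_num) (by decide +kernel) E2)
  have sQh : ∀ p, p < 256 → sQ y1 y2 p < 256 ∧ s * F.elQ p * s = F.elQ (sQ y1 y2 p) := by
    intro p hp
    have hm : p % 64 < 64 := Nat.mod_lt _ (by norm_num)
    have ef : s * F.elA (p % 64) * s = F.elQ (fA (p % 64)) := by rw [eA _ hm, F.elQ_small (hfA _ hm)]
    obtain ⟨z, hz, ez, Ez⟩ : ∃ z, z < 256 ∧ (bif Nat.beq (p / 64) 1 then y1 else bif Nat.beq (p / 64) 2 then y2 else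
        bif Nat.beq (p / 64) 3 then qMul y1 y2 else 0) = z ∧ s * F.rep (p / 64) * s = F.elQ z := by
      have q64 : F.elQ 64 = F.rep 1 := by show F.elA 0 * _ = _; rw [show F.elA 0 = 1 from rfl, one_mul]
      have q128 : F.elQ 128 = F.rep 2 := by show F.elA 0 * _ = _; rw [show F.elA 0 = 1 from rfl, one_mul]
      have : p / 64 < 4 := by omega
      interval_cases h : p / 64
      · exact ⟨0, by norm_num, rfl, by rw [rep_zero, mul_one, ssq, F.elQ_small (by norm_num)]; rfl⟩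
      · exact ⟨y1, hy1, rfl, by rw [← q64, E1]⟩
      · exact ⟨y2, hy2, rfl, by rw [← q128, E2]⟩
      · refine ⟨_, qMul_lt hy1 hy2, rfl, ?_⟩
        rw [show F.rep 3 = F.rep 1 * F.rep 2 from (M.rep_mul (a := 1) (b := 2) (by norm_num) (by norm_num)).symm, hmul,
          ← q64, ← q128, E1, E2, M.elQ_mul hy1 hy2]
    have hf64 := hfA _ hm
    refine ⟨?_, ?_⟩
    · show qMul (fA (p % 64)) _ < 256
      rw [ez]; exact qMul_lt (by omega) hz
    · show _ = F.elQ (qMul (fA (p % 64)) _)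
      rw [ez, ← M.elQ_mul (by omega) hz, ← ef, ← Ez, ← hmul]
      rfl
  have okP : okPair y1 y2 = true := by
    simp only [okPair, Bool.and_eq_true, Nat.beq_eq]
    refine ⟨⟨M.elQ_inj (qMul_lt hy1 hy2) (qMul_lt hy2 hy1) ?_, M.elQ_inj (sQh _ hy1).1 (by norm_num) ?_⟩,
      M.elQ_inj (sQh _ hy2).1 (by norm_num) ?_⟩
    · rw [← M.elQ_mul hy1 hy2, ← M.elQ_mul hy2 hy1, ← E1, ← E2, ← hmul, ← hmul, M.elQ_mul (by norm_num) (by norm_num),
        M.elQ_mul (by norm_num) (by norm_num), show qMul 64 128 = qMul 128 64 by decide +kernel]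
    · rw [← (sQh _ hy1).2, ← E1]
      calc s * (s * F.elQ 64 * s) * s = (s * s) * F.elQ 64 * (s * s) := by group
        _ = _ := by rw [ssq, one_mul, mul_one]
    · rw [← (sQh _ hy2).2, ← E2]
      calc s * (s * F.elQ 128 * s) * s = (s * s) * F.elQ 128 * (s * s) := by group
        _ = _ := by rw [ssq, one_mul, mul_one]
  obtain ⟨⟨a, ha⟩, haz, cases⟩ := pair_cases y1 ok1 y2 ok2 okP
  -- shift the involution
  set u := F.elA a with hu
  set σ := s * u with hσ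
  have hσ2 : σ * σ = 1 := by
    rw [hσ, show s * u * (s * u) = (s * u * s) * u by group, eA a ha, M.elA_mul (hfA a ha) ha, haz]
    rfl
  have hσ' : σ = F.elA (aInv a) * s := by
    rw [M.elA_inv ha, ← hu, eq_inv_mul_iff_mul_eq]
    calc u * σ = s * (s * u) * σ := by rw [← mul_assoc s s u, ssq, one_mul]
      _ = s * (σ * σ) := by rw [hσ]; group
      _ = s := by rw [hσ2, mul_one]
  have sh : ∀ p, p < 256 → σ * F.elQ p * σ = F.elQ (shQ y1 y2 a p) := by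
    intro p hp
    have hai : aInv a < 64 := (qMul_facts.2.2 ⟨a, ha⟩).1
    have l1 := qMul_lt (p := a) (by omega) hp
    have l2 := qMul_lt l1 (show aInv a < 256 by omega)
    show _ = F.elQ (sQ y1 y2 (qMul (qMul a p) (aInv a)))
    rw [← (sQh _ l2).2, ← M.elQ_mul l1 (by omega), ← M.elQ_mul (by omega) hp, F.elQ_small hai, F.elQ_small ha, ← hu]
    conv_lhs => arg 2; rw [hσ']
    rw [hσ]; group
  have uv : ∀ j, j < 8 → Commute u (L.co.ψ (2 * j)) := fun j hj =>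
    M.elA_cent ha _ ((L.co.memV _).2 ⟨2 * j, by omega, by omega, rfl⟩)
  have σv : ∀ j, j < 8 → σ * L.co.ψ (2 * j) * σ = L.co.ψ (2 * sVt.getD j 0) := by
    intro j hj
    conv_lhs => arg 2; rw [hσ']
    rw [M.elA_inv ha, ← hu, hσ, show s * u * L.co.ψ (2 * j) * (u⁻¹ * s) = s * (u * L.co.ψ (2 * j) * u⁻¹) * s by group,
      (uv j hj).eq, mul_inv_cancel_right, sv j hj]
  have σA : ∀ n, n < 64 → σ * F.elA n * σ = F.elA (fA n) := by
    intro n hn
    conv_lhs => arg 2; rw [hσ']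
    rw [M.elA_inv ha, ← hu, hσ, show s * u * F.elA n * (u⁻¹ * s) = s * (u * F.elA n * u⁻¹) * s by group,
      (L.cent_comm _ _ (M.elA_cent ha) (M.elA_cent hn)).eq, mul_inv_cancel_right, eA n hn]
  have T1 := sh 64 (by norm_num)
  have T2 := sh 128 (by norm_num)
  rcases cases with ⟨t1, t2⟩ | ⟨t1, t2⟩
  · simp only at t1 t2
    rw [t1] at T1; rw [t2] at T2
    exact ⟨F, ⟨⟨σ, hσ2, σv 1 (by norm_num), σv 2 (by norm_num), σv 4 (by norm_num), σA, T1, T2⟩⟩⟩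
  simp only at t1 t2
  rw [t1] at T1; rw [t2] at T2
  -- change the odd involution by the central element of order four
  have h1 : (1 : ℕ) < 64 := by norm_num
  have xc : F.x * L.co.ψ 1 * F.x = L.co.ψ 3 := by
    have := (L.conj_eq F.hx F.ix h1).2
    rwa [show appT txT 1 = 3 by decide +kernel, inv_eq_of_mul_eq_one_right F.x2] at this
  let F' : Lifts L :=
    { F with
      x := F.x * L.co.ψ 1
      hx := F.hx.mul (L.inH_psi h1)
      ix := by rw [L.im_mul F.hx (L.inH_psi h1), F.ix, L.im_psi h1]; decide +kernel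
      x2 := by
        rw [← mul_assoc, xc, ← L.co.mul _ _ (by norm_num) h1, show rmul 3 1 = 0 by decide +kernel, L.psi_zero] }
  have same : ∀ l : List ℕ, (∀ k ∈ l, k < 10) → wev F'.g l = wev F.g l := by
    intro l hl
    refine congrArg List.prod (List.map_congr_left fun k hk => ?_)
    have := hl k hk
    simp only [Lifts.g, Loc.glt]
    interval_cases k <;> rfl
  have sA : ∀ n, n < 64 → F'.elA n = F.elA n := fun n hn => same _ (aW_facts.1 ⟨n, hn⟩).1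
  have c1 : F.elA 1 = L.co.ψ 1 := by
    rw [elA, show aW 1 = [0] by decide +kernel]
    simp [wev, Lifts.g, Loc.glt, lgC]
  have cw : Commute (L.co.ψ 1) F.w := (L.adjust F.hw F.iw (by decide) (by norm_num)).symm
  have r1' : F'.rep 1 = F.rep 1 * F.elA 1 := by
    rw [c1, rep, rep, show rW.getD 1 [] = [10, 6] from rfl]
    show F.x * L.co.ψ 1 * (F.w * 1) = F.x * (F.w * 1) * L.co.ψ 1
    rw [mul_one, mul_assoc, cw.eq, ← mul_assoc]
  have r2' : F'.rep 2 = F.rep 2 := same _ (by decide)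
  have r3' : F'.rep 3 = F.rep 1 * F.elA 1 * F.rep 2 := by
    rw [← r1', ← r2', rep, rep, rep, show rW.getD 3 [] = rW.getD 1 [] ++ rW.getD 2 [] from rfl]
    simp [wev]
  have z : F.elA 0 = 1 := rfl
  have q64' : F'.elQ 64 = F.elQ 64 * F.elA 1 := by
    show F'.elA 0 * F'.rep 1 = F.elA 0 * F.rep 1 * F.elA 1
    rw [r1', sA 0 (by norm_num), z, one_mul, one_mul]
  have q128' : F'.elQ 128 = F.elQ 128 := by
    show F'.elA 0 * F'.rep 2 = F.elA 0 * F.rep 2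
    rw [r2', sA 0 (by norm_num)]
  obtain ⟨a1, a2', a3, a4, -⟩ := alt_facts
  have σh : ∀ p q : G, σ * (p * q) * σ = (σ * p * σ) * (σ * q * σ) := fun p q => by
    calc σ * (p * q) * σ = σ * p * 1 * q * σ := by group
      _ = _ := by rw [← hσ2]; group
  refine ⟨F', ⟨⟨σ, hσ2, σv 1 (by norm_num), σv 2 (by norm_num), σv 4 (by norm_num), fun n hn => by
    rw [sA n hn, sA _ (hfA n hn), σA n hn], ?_, ?_⟩⟩⟩
  · rw [q64', σh, T1, σA 1 (by norm_num), ← F.elQ_small (hfA 1 (by norm_num)), M.elQ_mul a3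
      ((hfA 1 (by norm_num)).trans (by norm_num)), a1, ← M.elQ_mul (by norm_num) (by norm_num), F.elQ_small h1]
    show F.elA 8 * F.rep 1 * F.elA 1 = F'.elA 8 * F'.rep 1
    rw [r1', sA 8 (by norm_num), mul_assoc]
  · rw [q128', T2, a2', ← M.elQ_mul (qMul_lt (by norm_num) (by norm_num)) (by norm_num),
      ← M.elQ_mul (by norm_num) (by norm_num), F.elQ_small h1]
    show F.elA 2 * F.rep 1 * F.elA 1 * (F.elA 0 * F.rep 2) = F'.elA 2 * F'.rep 3
    rw [r3', sA 2 (by norm_num), z, one_mul]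
    group

end IsModel

end Lifts

end Cfsg.Agent.HSTwoLocal
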