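import Cfsg.Agent.Lib.Spor.HSTwoLocal.SigmaData

/-!
Index arithmetic in the subgroup fixing a point and a plane, and the finite facts pinning its involutory twist.
-/

set_option autoImplicit false
set_option maxRecDepth 100000
set_option maxHeartbeats 1000000
set_option synthInstance.maxSize 1000

namespace Cfsg.Agent.HSTwoLocal

open Local.FS.Hundred (idC)

/-- sum of indices -/
def aAdd (m n : ℕ) : ℕ :=
  Nat.mod (m + n) 4 + 4 * Nat.mod (m / 4 + n / 4) 4 + 16 * Nat.mod (m / 16 + n / 16) 4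

/-- multiple of an index -/
def aSmul (k n : ℕ) : ℕ := Nat.mod (k * n) 4 + 4 * Nat.mod (k * (n / 4)) 4 + 16 * Nat.mod (k * (n / 16)) 4

/-- inverse -/
def aInv (n : ℕ) : ℕ := aSmul 3 n

/-- linear map from three images -/
def aLin (I : ℕ × ℕ × ℕ) (n : ℕ) : ℕ :=
  aAdd (aAdd (aSmul (Nat.mod n 4) I.1) (aSmul (Nat.mod (n / 4) 4) I.2.1)) (aSmul (n / 16) I.2.2)

/-- product of indices in the extension -/
def qMul (p q : ℕ) : ℕ :=
  aAdd (Nat.mod p 64) (aLin (cjL.getD (p / 64) (0, 0, 0)) (Nat.mod q 64)) + 64 * Nat.xor (p / 64) (q / 64)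

/-- the twist on the homocyclic subgroup -/
def fA (n : ℕ) : ℕ := aLin (47, 4, 48) n

/-- the twist from the images of the two complement generators -/
def sQ (y₁ y₂ p : ℕ) : ℕ :=
  qMul (fA (Nat.mod p 64)) (bif Nat.beq (p / 64) 1 then y₁ else bif Nat.beq (p / 64) 2 then y₂ else
    bif Nat.beq (p / 64) 3 then qMul y₁ y₂ else 0)

/-- the image of a complement generator is possible -/
def okImg (y r : ℕ) : Bool :=
  Nat.beq (qMul y y) 0 && [1, 4, 16].all fun e =>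
    Nat.beq (qMul y (fA e)) (qMul (fA (aLin (cjL.getD r (0, 0, 0)) e)) y)

/-- the two images are possible -/
def okPair (y₁ y₂ : ℕ) : Bool :=
  Nat.beq (qMul y₁ y₂) (qMul y₂ y₁) && Nat.beq (sQ y₁ y₂ y₁) 64 && Nat.beq (sQ y₁ y₂ y₂) 128

/-- the normalised image of the first generator -/
def tgt1 : ℕ := 72

/-- the normalised image of the second generator -/
def tgt2 : ℕ := 194

/-- the first image after changing the odd involution -/
def alt1 : ℕ := qMul (qMul tgt1 1) (aInv (fA 1))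

/-- the second image after changing the odd involution -/
def alt2 : ℕ := qMul (qMul (Nat.mod tgt2 64 + 64) 1) 128

/-- the effect of shifting by an element of the homocyclic subgroup -/
def shQ (y₁ y₂ a p : ℕ) : ℕ := sQ y₁ y₂ (qMul (qMul a p) (aInv a))

/-- a word for an index -/
def aW (n : ℕ) : List ℕ :=
  (List.replicate (n % 4) (eW.getD 0 [])).flatten ++ (List.replicate (n / 4 % 4) (eW.getD 1 [])).flatten ++
    (List.replicate (n / 16) (eW.getD 2 [])).flatten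

/-- a word for an index in the extension -/
def qW (p : ℕ) : List ℕ := aW (p % 64) ++ rW.getD (p / 64) []

/-- permutation of the plane codes induced by the involution -/
def sVt : List ℕ := [0, 3, 2, 1, 6, 5, 4, 7]

/-- indices of the elementary subgroup -/
def vIdx : List ℕ := [0, 2, 8, 10, 34, 32, 42, 40]

theorem aW_facts : (∀ n : Fin 64, (∀ k ∈ aW n.1, k < 10) ∧ cwev (aW n.1) = aL.getD n.1 0) ∧
    (∀ a : Fin 4, (∀ k ∈ rW.getD a.1 [], k < 11) ∧ cwev (rW.getD a.1 []) = rL.getD a.1 0) := by decide +kernel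

theorem aL_mul : ∀ m n : Fin 64, mu (aL.getD m.1 0) (aL.getD n.1 0) = aL.getD (aAdd m.1 n.1) 0 := by decide +kernel

theorem rL_conj : ∀ a : Fin 4, ∀ n : Fin 64, mu (rL.getD a.1 0) (aL.getD n.1 0) =
    mu (aL.getD (aLin (cjL.getD a.1 (0, 0, 0)) n.1) 0) (rL.getD a.1 0) := by decide +kernel

theorem rL_mul : ∀ a b : Fin 4, mu (rL.getD a.1 0) (rL.getD b.1 0) = rL.getD (Nat.xor a.1 b.1) 0 := by decide +kernel

/-- packed extension -/
def qCode (p : ℕ) : ℕ := mu (aL.getD (p % 64) 0) (rL.getD (p / 64) 0)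

theorem qCode_nodup : ((List.range 256).map qCode).Nodup := by decide +kernel

theorem vIdx_facts : (∀ i : Fin 8, aL.getD (vIdx.getD i.1 0) 0 = coreL.getD (2 * i.1) 0) ∧
    (∀ n : Fin 64, mu (aL.getD n.1 0) (coreL.getD 4 0) = mu (coreL.getD 4 0) (aL.getD n.1 0) ∧
      mu (aL.getD n.1 0) (coreL.getD 8 0) = mu (coreL.getD 8 0) (aL.getD n.1 0)) ∧
    (∀ a : Fin 4, mu (rL.getD a.1 0) (coreL.getD 4 0) = mu (coreL.getD 4 0) (rL.getD a.1 0) ∧
      ∃ i : Fin 8, mu (rL.getD a.1 0) (coreL.getD 8 0) = mu (coreL.getD (2 * i.1) 0) (rL.getD a.1 0)) := by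
  decide +kernel

/-- the test of one element -/
def memTest (p : ℕ) : Bool :=
  bif Nat.beq (mu p (coreL.getD 4 0)) (mu (coreL.getD 4 0) p) then
    (bif Nat.beq (mu p (coreL.getD 8 0)) (mu (coreL.getD 8 0) p) then aL.any (fun x => Nat.beq p x) else true) &&
      (bif (List.range 8).any fun i => Nat.beq (mu p (coreL.getD 8 0)) (mu (coreL.getD (2 * i) 0) p) then
        (List.range 4).any fun a => aL.any fun x => Nat.beq p (mu x (rL.getD a 0)) else true)
  else true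

theorem mem_facts : (repL.all fun x => coreL.all fun y => memTest (mu x y)) = true := by decide +kernel

theorem seven_facts : ∀ p ∈ sevD, (∀ k ∈ p.1, k < 11) ∧ (∀ n : Fin 64, mu (cwev p.1) (aL.getD n.1 0) =
    mu (aL.getD (aLin p.2 n.1) 0) (cwev p.1)) ∧ ∃ xv ∈ [[0, 1, 4, 5, 3, 2, 7, 6], [0, 1, 4, 5, 7, 6, 3, 2]],
    (∀ i : Fin 8, xv.getD i.1 0 < 8 ∧ mu (cwev p.1) (coreL.getD (2 * i.1) 0) =
      mu (coreL.getD (2 * xv.getD i.1 0) 0) (cwev p.1)) ∧
    ∀ i : Fin 8, Nat.rec (motive := fun _ => ℕ) i.1 (fun _ v => xv.getD (sVt.getD v 0) 0) 7 = i.1 := by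
  decide +kernel

/-- the seventh iterate is trivial on the generators -/
def sevTest (I : ℕ × ℕ × ℕ) : Bool :=
  sevD.all fun p => [1, 4, 16].all fun e =>
    Nat.beq (Nat.rec (motive := fun _ => ℕ) e (fun _ v => aLin p.2 (aLin I v)) 7) e

theorem twist_unique : ∀ i ∈ [5, 7, 13, 15, 37, 39, 45, 47], ∀ j ∈ [4, 6, 12, 14, 36, 38, 44, 46],
    ∀ k ∈ [16, 18, 24, 26, 48, 50, 56, 58], (∀ e ∈ [1, 4, 16], aLin (i, j, k) (aLin (i, j, k) e) = e) →
      sevTest (i, j, k) = true → i = 47 ∧ j = 4 ∧ k = 48 := by decide +kernel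

theorem root_cands : ∀ i : Fin 64, (aAdd i.1 i.1 = 10 → i.1 ∈ [5, 7, 13, 15, 37, 39, 45, 47]) ∧
    (aAdd i.1 i.1 = 8 → i.1 ∈ [4, 6, 12, 14, 36, 38, 44, 46]) ∧
    (aAdd i.1 i.1 = 32 → i.1 ∈ [16, 18, 24, 26, 48, 50, 56, 58]) := by decide +kernel

theorem img_cases : ∀ y : Fin 256,
    (okImg y.1 1 = true → y.1 ∈ [64, 65, 66, 67, 72, 73, 74, 75, 100, 101, 102, 103, 108, 109, 110, 111]) ∧
    (okImg y.1 2 = true → y.1 ∈ List.range' 192 16) := by decide +kernel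

theorem pair_cases : ∀ y₁ ∈ [64, 65, 66, 67, 72, 73, 74, 75, 100, 101, 102, 103, 108, 109, 110, 111],
    ∀ y₂ ∈ List.range' 192 16, okPair y₁ y₂ = true → ∃ a : Fin 64, aAdd (fA a.1) a.1 = 0 ∧
      (shQ y₁ y₂ a.1 64 = tgt1 ∧ shQ y₁ y₂ a.1 128 = tgt2 ∨ shQ y₁ y₂ a.1 64 = alt1 ∧ shQ y₁ y₂ a.1 128 = alt2) := by
  decide +kernel

theorem qMul_facts : (∀ m n : Fin 64, aAdd m.1 n.1 < 64) ∧ (∀ n : Fin 64, ∀ a : Fin 4,
      aLin (cjL.getD a.1 (0, 0, 0)) n.1 < 64) ∧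
    (∀ n : Fin 64, aInv n.1 < 64 ∧ aAdd n.1 (aInv n.1) = 0 ∧ fA n.1 < 64) := by
  decide +kernel

end Cfsg.Agent.HSTwoLocal
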